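import Mathlib
import Cfsg.Prelude.Def_Transfer
import Cfsg.Agent.S0093
import Cfsg.Agent.ClassificationK.Extraspecial
import Cfsg.Agent.Lib.FrattiniPGroup

-- merged: Cfsg.Agent.OddHalf.D8.CharAb
section

/-!
# A 2-group whose characteristic abelian subgroups have order at most 2 (helper826)

`extraspecial`: such a group is extraspecial or of order at most 2.
-/

set_option autoImplicit false

namespace Cfsg.Agent.OddHalf.D8.CharAb

open Subgroup
open scoped commutatorElement

/-- a characteristic subgroup of a characteristic subgroup is characteristic -/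
theorem char_map {X : Type*} [Group X] {H : Subgroup X} (hH : H.Characteristic) {A : Subgroup H}
    (hA : A.Characteristic) : (A.map H.subtype).Characteristic := by
  rw [characteristic_iff_map_le]
  rintro φ _ ⟨_, ⟨a, ha, rfl⟩, rfl⟩
  have hφ : H.map φ.toMonoidHom = H := characteristic_iff_map_eq.1 hH φ
  have hmem : ∀ y : X, y ∈ H ↔ φ y ∈ H := by
    intro y
    conv_rhs => rw [← hφ]
    exact ⟨fun h => ⟨y, h, rfl⟩, fun ⟨w, hw, h⟩ => by
      have : w = y := φ.injective h
      rwa [← this]⟩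
  let ψ : H ≃* H :=
    { toFun := fun y => ⟨φ y, (hmem y).1 y.2⟩
      invFun := fun y => ⟨φ.symm y, (hmem _).2 (by rw [MulEquiv.apply_symm_apply]; exact y.2)⟩
      left_inv := fun y => Subtype.ext (by simp)
      right_inv := fun y => Subtype.ext (by simp)
      map_mul' := fun y w => Subtype.ext (by simp) }
  have h1 : ψ a ∈ A := by
    have h2 := characteristic_iff_map_le.1 hA ψ
    exact h2 ⟨a, ha, rfl⟩
  exact ⟨ψ a, h1, rfl⟩

variable {X : Type*} [Group X]

/-- **A non-abelian 2-group whose characteristic abelian subgroups lie in `{1, z}` is extraspecial.** -/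
theorem extraspecial [Finite X] (hp : IsPGroup 2 X) {z : X}
    (h : ∀ A : Subgroup X, A.Characteristic → (∀ a ∈ A, ∀ b ∈ A, a * b = b * a) → ∀ a ∈ A, a = 1 ∨ a = z)
    (hna : ∃ a b : X, a * b ≠ b * a) : Cfsg.IsExtraspecial 2 X := by
  have hfact : Fact (Nat.Prime 2) := ⟨Nat.prime_two⟩
  obtain ⟨H, hHc, hfr, hcm, hCH⟩ := Cfsg.Agent.S0093.aux (p := 2) hp
  have hHn : H.Normal := inferInstance
  -- the centre of `H`
  have hZc : (centralizer (H : Set X)).Characteristic := inferInstance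
  have hZ : ∀ a ∈ centralizer (H : Set X), a = 1 ∨ a = z := by
    apply h _ hZc
    intro a ha b hb
    exact (mem_centralizer_iff.1 hb a (hCH ha))
  -- the centre of `X`
  have hcen : ∀ a ∈ center X, a = 1 ∨ a = z := fun a ha => hZ a (fun y _ => (mem_center_iff.1 ha y))
  have hnt : Nontrivial X := by
    obtain ⟨a, b, hab⟩ := hna
    refine ⟨⟨a, 1, ?_⟩⟩
    rintro rfl
    exact hab (by rw [one_mul, mul_one])
  have hzcen : z ∈ center X ∧ z ≠ 1 := by
    have h1 : Nontrivial (center X) := hp.center_nontrivial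
    obtain ⟨⟨c, hc⟩, hc1⟩ := exists_ne (1 : center X)
    have hc1' : c ≠ 1 := fun h => hc1 (Subtype.ext h)
    rcases hcen c hc with h2 | h2
    · exact absurd h2 hc1'
    · rw [← h2]; exact ⟨hc, hc1'⟩
  have hzH : z ∈ H := hCH (fun y _ => (mem_center_iff.1 hzcen.1 y))
  have hz2 : z * z = 1 := by
    rcases hcen (z * z) (mul_mem hzcen.1 hzcen.1) with h1 | h1
    · exact h1
    · exact absurd (mul_eq_left.1 h1) hzcen.2
  have hcomm : ∀ x : X, ∀ y ∈ H, ⁅y, x⁆ = 1 ∨ ⁅y, x⁆ = z := by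
    intro x y hy
    apply hZ
    exact (hcm (commutator_mem_commutator hy (mem_top x))).2
  have hcenH : ∀ a : H, a ∈ center H ↔ (a : X) = 1 ∨ (a : X) = z := by
    intro a
    constructor
    · intro ha
      apply hZ
      intro y hy
      exact congrArg Subtype.val (mem_center_iff.1 ha ⟨y, hy⟩)
    · intro ha
      rw [mem_center_iff]
      intro y
      apply Subtype.ext
      rw [coe_mul, coe_mul]
      rcases ha with ha | ha
      · rw [ha, mul_one, one_mul]
      · rw [ha]; exact mem_center_iff.1 hzcen.1 y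
  have hHna : ∃ a b : H, a * b ≠ b * a := by
    by_contra hcon
    push Not at hcon
    have h1 : ∀ a ∈ H, a = 1 ∨ a = z := by
      intro a ha
      apply hZ
      intro y hy
      exact congrArg Subtype.val (hcon ⟨y, hy⟩ ⟨a, ha⟩)
    have h2 : centralizer (H : Set X) = ⊤ := by
      rw [eq_top_iff]
      intro x _ y hy
      rcases h1 y hy with h3 | h3
      · rw [h3, one_mul, mul_one]
      · rw [h3]; exact (mem_center_iff.1 hzcen.1 x).symm
    obtain ⟨a, b, hab⟩ := hna
    have h3 : ∀ x : X, x = 1 ∨ x = z := fun x => h1 x (hCH (by rw [h2]; exact mem_top x))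
    apply hab
    rcases h3 a with h4 | h4
    · rw [h4, one_mul, mul_one]
    · rw [h4]; exact (mem_center_iff.1 hzcen.1 b).symm
  have hccard : Nat.card (center H) = 2 := by
    have h1 : ((center H : Subgroup H) : Set H) = {1, ⟨z, hzH⟩} := by
      ext c
      rw [SetLike.mem_coe, hcenH, Set.mem_insert_iff, Set.mem_singleton_iff]
      exact or_congr ⟨fun h => Subtype.ext h, fun h => congrArg Subtype.val h⟩
        ⟨fun h => Subtype.ext h, fun h => congrArg Subtype.val h⟩
    have h2 : Nat.card (center H) = ((center H : Subgroup H) : Set H).ncard := rfl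
    rw [h2, h1, Set.ncard_pair (fun h => hzcen.2 (congrArg Subtype.val h).symm)]
  have hcmH : commutator H = center H := by
    apply le_antisymm
    · rw [_root_.commutator_def, commutator_le]
      intro x _ y _
      rw [hcenH]
      have h1 := hcomm (y : X) x x.2
      exact h1
    · have h1 : (⟨z, hzH⟩ : H) ∈ commutator H := by
        obtain ⟨a, b, hab⟩ := hHna
        have h1 : ⁅a, b⁆ = ⟨z, hzH⟩ := by
          apply Subtype.ext
          rcases hcomm (b : X) a a.2 with h2 | h2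
          · exfalso
            apply hab
            rw [← commutatorElement_eq_one_iff_mul_comm]
            exact Subtype.ext h2
          · exact h2
        rw [← h1, _root_.commutator_def]
        exact commutator_mem_commutator (mem_top _) (mem_top _)
      intro c hc
      rcases (hcenH c).1 hc with h2 | h2
      · have : c = 1 := Subtype.ext h2
        rw [this]; exact one_mem _
      · have : c = ⟨z, hzH⟩ := Subtype.ext h2
        rw [this]; exact h1
  -- `X = H`
  have htop : ∀ x : X, x ∈ H := by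
    intro x
    let σ : H →* H := (MulAut.conjNormal x : H ≃* H).toMonoidHom
    have hσ : ∀ q : H, ((σ q : H) : X) = x * q * x⁻¹ := fun q => MulAut.conjNormal_apply x q
    obtain ⟨y, hy⟩ := Cfsg.Agent.ClassificationK.Extraspecial.exists_inner hcmH Nat.prime_two hccard σ (by
      intro q
      rw [hcenH, coe_mul, hσ, coe_inv]
      have h1 := hcomm x (q : X) q.2
      have h2 : x * (q : X) * x⁻¹ * (q : X)⁻¹ = ⁅(q : X), x⁆⁻¹ := by
        rw [commutatorElement_def]; group
      rw [h2]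
      rcases h1 with h3 | h3
      · left; rw [h3, inv_one]
      · right; rw [h3]; exact inv_eq_of_mul_eq_one_left hz2)
    have h1 : (y : X)⁻¹ * x ∈ centralizer (H : Set X) := by
      rw [mem_centralizer_iff]
      intro q hq
      have h2 := congrArg Subtype.val (hy ⟨q, hq⟩)
      rw [hσ] at h2
      have h3 : x * q * x⁻¹ = y * q * (y : X)⁻¹ := h2
      calc q * ((y : X)⁻¹ * x) = (y : X)⁻¹ * (y * q * (y : X)⁻¹) * x := by group
        _ = (y : X)⁻¹ * (x * q * x⁻¹) * x := by rw [h3]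
        _ = (y : X)⁻¹ * x * q := by group
    have h2 := mul_mem y.2 (hCH h1)
    rwa [mul_inv_cancel_left] at h2
  -- transport
  have hcenX : ∀ a : X, a ∈ center X ↔ a = 1 ∨ a = z :=
    fun a => ⟨hcen a, fun ha => by
      rcases ha with h1 | h1
      · rw [h1]; exact one_mem _
      · rw [h1]; exact hzcen.1⟩
  have hcmX : ∀ x y : X, ⁅x, y⁆ ∈ center X := fun x y => (hcenX _).2 (hcomm y x (htop x))
  -- squares
  have hsq : ∀ x : X, x ^ 2 ∈ center X := by
    intro x
    rw [mem_center_iff]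
    intro y
    have h1 : Commute ⁅x, y⁆ x := (mem_center_iff.1 (hcmX x y) x).symm
    have h2 : ⁅x ^ 2, y⁆ = ⁅x, y⁆ * ⁅x, y⁆ := by
      have e : ⁅x ^ 2, y⁆ = x * ⁅x, y⁆ * x⁻¹ * ⁅x, y⁆ := by
        rw [commutatorElement_def, commutatorElement_def, pow_two]; group
      rw [e, h1.symm.eq, mul_inv_cancel_right]
    have h3 : ⁅x ^ 2, y⁆ = 1 := by
      rw [h2]
      rcases hcomm y x (htop x) with h4 | h4
      · rw [h4, one_mul]
      · rw [h4, hz2]
    exact (commutatorElement_eq_one_iff_mul_comm.1 h3).symm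
  have hcle : center X ≤ commutator X := by
    intro c hc
    obtain ⟨a, b, hab⟩ := hna
    have h1 : ⁅a, b⁆ = z := by
      rcases hcomm b a (htop a) with h2 | h2
      · exact absurd (commutatorElement_eq_one_iff_mul_comm.1 h2) hab
      · exact h2
    rcases (hcenX c).1 hc with h2 | h2
    · rw [h2]; exact one_mem _
    · rw [h2, ← h1, _root_.commutator_def]
      exact commutator_mem_commutator (mem_top _) (mem_top _)
  have hcm2 : commutator X = center X := by
    apply le_antisymm _ hcle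
    rw [_root_.commutator_def, commutator_le]
    intro x _ y _
    exact hcmX x y
  refine ⟨⟨hp, ?_, hcm2⟩, ?_⟩
  · apply le_antisymm
    · exact Cfsg.Agent.Lib.FrattiniPGroup.frattini_le (p := 2) (center X) hcmX hsq
    · rw [← hcm2]
      exact Cfsg.Agent.Lib.FrattiniPGroup.commutator_le_frattini hp
  · have h1 : ((center X : Subgroup X) : Set X) = {1, z} := by
      ext c
      exact hcenX c
    have h2 : Nat.card (center X) = ((center X : Subgroup X) : Set X).ncard := rfl
    rw [h2, h1, Set.ncard_pair hzcen.2.symm]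

end Cfsg.Agent.OddHalf.D8.CharAb

end

-- merged: Cfsg.Agent.OddHalf.D8.CaseX
section

/-!
# ODD half, D8: `t ∈ O₂(C(z))` (helper826)

`XHyp t z P R F`: `F` is a normal 2-subgroup of `H = C(z)` with `C_H(F) ≤ F`, `t ∈ F`; `P` is a perfect normal subgroup of
`N = C(t) ∩ C(z)`, `R ≤ P` contains every 2-subgroup of `P` that is normalised by `N`, no `N`-invariant subgroup lies
strictly between `⟨z⟩` and `R`, `R` is not abelian, and an element of `N` with `[x, P] ≤ R` lies in `R ∪ tR`.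

`XHyp.main`: if every homomorphism `H → {±1}` kills `t` and `⟨t, z⟩` is not normal in `H`, then `F` is extraspecial of
order `4 |R|`.
-/

set_option autoImplicit false

namespace Cfsg.Agent.OddHalf.D8.CaseX

open Subgroup
open scoped commutatorElement

variable {G : Type*} [Group G]

structure XHyp (t z : G) (P R F : Subgroup G) : Prop where
  tt : t * t = 1
  zz : z * z = 1
  z1 : z ≠ 1
  comm : t * z = z * t
  F2 : IsPGroup 2 F
  Fz : ∀ x ∈ F, x * z = z * x
  Fn : ∀ h, h * z = z * h → ∀ x ∈ F, h * x * h⁻¹ ∈ F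
  Fc : ∀ h, h * z = z * h → (∀ x ∈ F, h * x = x * h) → h ∈ F
  tF : t ∈ F
  Pt : ∀ p ∈ P, p * t = t * p
  Pz : ∀ p ∈ P, p * z = z * p
  Pn : ∀ n, n * t = t * n → n * z = z * n → ∀ p ∈ P, n * p * n⁻¹ ∈ P
  Pp : ⁅P, P⁆ = P
  RP : R ≤ P
  hR : ∀ B ≤ P, IsPGroup 2 B → (∀ n, n * t = t * n → n * z = z * n → ∀ b ∈ B, n * b * n⁻¹ ∈ B) → B ≤ R
  Rn : ∀ n, n * t = t * n → n * z = z * n → ∀ r ∈ R, n * r * n⁻¹ ∈ R
  hmin : ∀ B ≤ R, (∀ n, n * t = t * n → n * z = z * n → ∀ b ∈ B, n * b * n⁻¹ ∈ B) →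
    (∀ b ∈ B, b = 1 ∨ b = z) ∨ B = R
  hna : ∃ a ∈ R, ∃ b ∈ R, a * b ≠ b * a
  hC : ∀ x, IsPGroup 2 (zpowers x) → x * t = t * x → x * z = z * x → (∀ p ∈ P, x * p * x⁻¹ * p⁻¹ ∈ R) →
    x ∈ R ∨ t * x ∈ R
  /-- an element swapping `t` and `tz` -/
  hx : ∃ x, x * z = z * x ∧ x * t * x⁻¹ = t * z

/-- a map on a perfect subgroup into an abelian group is trivial -/
theorem perfect_hom {A : Type*} [CommGroup A] {P : Subgroup G} (hP : ⁅P, P⁆ = P) (f : P →* A) (p : P) :
    f p = 1 := by
  have h1 : P ≤ f.ker.map P.subtype := by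
    conv_lhs => rw [← hP]
    rw [commutator_le]
    intro a ha b hb
    refine ⟨⁅(⟨a, ha⟩ : P), (⟨b, hb⟩ : P)⁆, ?_, rfl⟩
    show _ ∈ f.ker
    rw [MonoidHom.mem_ker, map_commutatorElement, commutatorElement_eq_one_iff_mul_comm, mul_comm]
  obtain ⟨q, hq, hqp⟩ := h1 p.2
  have : q = p := Subtype.ext hqp
  rw [← this]; exact hq

/-- if `P` is perfect, centralises the abelian group `X` and `f⁻¹ (p f p⁻¹) ∈ X` for all `p`, then `P` centralises `f` -/
theorem perfect_cent {P X : Subgroup G} (hP : ⁅P, P⁆ = P) (hX : ∀ a ∈ X, ∀ b ∈ X, a * b = b * a)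
    (hPX : ∀ p ∈ P, ∀ a ∈ X, p * a = a * p) {f : G} (hf : ∀ p ∈ P, f⁻¹ * (p * f * p⁻¹) ∈ X) :
    ∀ p ∈ P, p * f = f * p := by
  let _ : CommGroup X := { (inferInstance : Group X) with mul_comm := fun a b => Subtype.ext (hX a a.2 b b.2) }
  let φ : P →* X :=
    { toFun := fun p => ⟨f⁻¹ * (p * f * (p : G)⁻¹), hf p p.2⟩
      map_one' := Subtype.ext (by simp)
      map_mul' := fun p q => Subtype.ext (by
        show f⁻¹ * (((p : G) * q) * f * ((p : G) * q)⁻¹) = f⁻¹ * (p * f * (p : G)⁻¹) * (f⁻¹ * (q * f * (q : G)⁻¹))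
        have h1 : (p : G) * (f⁻¹ * (q * f * (q : G)⁻¹)) * (p : G)⁻¹ = f⁻¹ * (q * f * (q : G)⁻¹) := by
          rw [hPX p p.2 _ (hf q q.2)]; group
        calc f⁻¹ * (((p : G) * q) * f * ((p : G) * q)⁻¹)
            = f⁻¹ * (p * f * (p : G)⁻¹) * (p * (f⁻¹ * (q * f * (q : G)⁻¹)) * (p : G)⁻¹) := by group
          _ = _ := by rw [h1]) }
  intro p hp
  have h1 := congrArg Subtype.val (perfect_hom hP φ ⟨p, hp⟩)
  have h2 : f⁻¹ * (p * f * p⁻¹) = 1 := h1
  have h3 : p * f * p⁻¹ = f := (inv_mul_eq_one.1 h2).symm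
  exact mul_inv_eq_iff_eq_mul.1 h3

/-- the sign character on a pair `{u, uz}` -/
theorem sign_pair {t z u : G} (zz : z * z = 1) (z1 : z ≠ 1) (htz : t * z = z * t)
    (hlam : ∀ φ : centralizer ({z} : Set G) →* ℤˣ, φ ⟨t, mem_centralizer_singleton_iff.2 htz⟩ = 1)
    (h : ∀ g, g * z = z * g → g * u * g⁻¹ = u ∨ g * u * g⁻¹ = u * z) : t * u = u * t := by
  classical
  have hne : u * z ≠ u := fun h1 => z1 (mul_eq_left.1 h1)
  have key : ∀ g, g * z = z * g → (g * u * g⁻¹ = u ↔ ¬ g * u * g⁻¹ = u * z) := by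
    intro g hg
    constructor
    · intro h1 h2
      exact hne (h2.symm.trans h1)
    · intro h1
      exact (h g hg).resolve_right h1
  let φ : centralizer ({z} : Set G) →* ℤˣ :=
    { toFun := fun g => if (g : G) * u * (g : G)⁻¹ = u then 1 else -1
      map_one' := by simp
      map_mul' := by
        intro a b
        have ha : (a : G) * z = z * a := mem_centralizer_singleton_iff.1 a.2
        have hb : (b : G) * z = z * b := mem_centralizer_singleton_iff.1 b.2
        have e : ((a * b : centralizer ({z} : Set G)) : G) * u * ((a * b : centralizer ({z} : Set G)) : G)⁻¹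
            = a * (b * u * (b : G)⁻¹) * (a : G)⁻¹ := by
          rw [coe_mul]; group
        have haz : (a : G) * z * (a : G)⁻¹ = z := by rw [ha]; group
        show (if _ then (1 : ℤˣ) else -1) = (if _ then 1 else -1) * (if _ then 1 else -1)
        rw [e]
        rcases h a ha with h1 | h1 <;> rcases h b hb with h2 | h2
        · rw [h2, h1]; simp
        · have e2 : (a : G) * (u * z) * (a : G)⁻¹ = u * z := by
            calc (a : G) * (u * z) * (a : G)⁻¹ = (a * u * (a : G)⁻¹) * (a * z * (a : G)⁻¹) := by group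
              _ = u * z := by rw [h1, haz]
          rw [h2, e2, h1]; simp [hne]
        · rw [h2, h1]; simp [hne]
        · have e2 : (a : G) * (u * z) * (a : G)⁻¹ = u := by
            calc (a : G) * (u * z) * (a : G)⁻¹ = (a * u * (a : G)⁻¹) * (a * z * (a : G)⁻¹) := by group
              _ = u := by rw [h1, haz, mul_assoc, zz, mul_one]
          rw [h2, e2, h1]; simp [hne] }
  have h1 := hlam φ
  have h2 : (if t * u * t⁻¹ = u then (1 : ℤˣ) else -1) = 1 := h1
  by_contra hcon
  rw [if_neg (fun h3 => hcon (mul_inv_eq_iff_eq_mul.1 h3))] at h2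
  exact absurd h2 (by decide)

namespace XHyp

variable {t z : G} {P R F : Subgroup G}

theorem Rz (h : XHyp t z P R F) : ∀ r ∈ R, r * z = z * r := fun r hr => h.Pz r (h.RP hr)

theorem conj_inv_mem {B : Subgroup G} {n : G} (h : ∀ n, n * t = t * n → n * z = z * n → ∀ b ∈ B, n * b * n⁻¹ ∈ B)
    (h1 : n * t = t * n) (h2 : n * z = z * n) {b : G} (hb : b ∈ B) : n⁻¹ * b * n ∈ B := by
  have h3 := h n⁻¹ (by rw [inv_mul_eq_iff_eq_mul, ← mul_assoc, h1]; group)
    (by rw [inv_mul_eq_iff_eq_mul, ← mul_assoc, h2]; group) b hb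
  rwa [inv_inv] at h3

/-- the subgroup of `R` centralised by `P` modulo `z` -/
theorem cent_mod (h : XHyp t z P R F) {r : G} (hr : r ∈ R)
    (hm : ∀ p ∈ P, r⁻¹ * (p * r * p⁻¹) = 1 ∨ r⁻¹ * (p * r * p⁻¹) = z) : r = 1 ∨ r = z := by
  have hzi : z⁻¹ = z := inv_eq_of_mul_eq_one_left h.zz
  let B : Subgroup G :=
    { carrier := {x | x ∈ R ∧ ∀ p ∈ P, x⁻¹ * (p * x * p⁻¹) = 1 ∨ x⁻¹ * (p * x * p⁻¹) = z}
      one_mem' := ⟨R.one_mem, fun p _ => by left; group⟩
      mul_mem' := by
        rintro a b ⟨ha, ha'⟩ ⟨hb, hb'⟩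
        refine ⟨R.mul_mem ha hb, fun p hp => ?_⟩
        have e : (a * b)⁻¹ * (p * (a * b) * p⁻¹) = b⁻¹ * (a⁻¹ * (p * a * p⁻¹)) * (p * b * p⁻¹) := by group
        rw [e]
        have hbz : b⁻¹ * z = z * b⁻¹ := by
          rw [inv_mul_eq_iff_eq_mul, ← mul_assoc, h.Rz b hb]; group
        rcases ha' p hp with h1 | h1 <;> rcases hb' p hp with h2 | h2
        · left; rw [h1, mul_one, h2]
        · right; rw [h1, mul_one, h2]
        · right; rw [h1, hbz, mul_assoc, h2, mul_one]
        · left; rw [h1, hbz, mul_assoc, h2, h.zz]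
      inv_mem' := by
        rintro a ⟨ha, ha'⟩
        refine ⟨R.inv_mem ha, fun p hp => ?_⟩
        have haz := h.Rz a ha
        rcases ha' p hp with h1 | h1
        · left
          have h2 : p * a * p⁻¹ = a := (inv_mul_eq_one.1 h1).symm
          have h3 : p * a⁻¹ * p⁻¹ = a⁻¹ := by
            calc p * a⁻¹ * p⁻¹ = (p * a * p⁻¹)⁻¹ := by group
              _ = a⁻¹ := by rw [h2]
          rw [h3]; group
        · right
          have h2 : p * a * p⁻¹ = a * z := by rw [← h1]; group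
          have h3 : p * a⁻¹ * p⁻¹ = z * a⁻¹ := by
            calc p * a⁻¹ * p⁻¹ = (p * a * p⁻¹)⁻¹ := by group
              _ = z * a⁻¹ := by rw [h2, mul_inv_rev, hzi]
          rw [h3, inv_inv, ← mul_assoc, haz]; group }
  have hBn : ∀ n, n * t = t * n → n * z = z * n → ∀ b ∈ B, n * b * n⁻¹ ∈ B := by
    rintro n hnt hnz b ⟨hb, hb'⟩
    refine ⟨h.Rn n hnt hnz b hb, fun p hp => ?_⟩
    have hp' : n⁻¹ * p * n ∈ P := conj_inv_mem h.Pn hnt hnz hp
    have e : (n * b * n⁻¹)⁻¹ * (p * (n * b * n⁻¹) * p⁻¹)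
        = n * (b⁻¹ * ((n⁻¹ * p * n) * b * (n⁻¹ * p * n)⁻¹)) * n⁻¹ := by group
    rw [e]
    rcases hb' _ hp' with h1 | h1
    · left; rw [h1]; group
    · right; rw [h1, hnz]; group
  rcases h.hmin B (fun x hx => hx.1) hBn with h1 | h1
  · exact h1 r ⟨hr, hm⟩
  · exfalso
    obtain ⟨a, ha, b, hb, hab⟩ := h.hna
    have ha' : a ∈ B := by rw [h1]; exact ha
    have hX : ∀ x ∈ closure ({z} : Set G), ∀ y ∈ closure ({z} : Set G), x * y = y * x := by
      intro x hx y hy
      rw [← zpowers_eq_closure] at hx hy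
      obtain ⟨i, rfl⟩ := mem_zpowers_iff.1 hx
      obtain ⟨j, rfl⟩ := mem_zpowers_iff.1 hy
      rw [← zpow_add, ← zpow_add, add_comm]
    have hPX : ∀ p ∈ P, ∀ x ∈ closure ({z} : Set G), p * x = x * p := by
      intro p hp x hx
      rw [← zpowers_eq_closure] at hx
      obtain ⟨i, rfl⟩ := mem_zpowers_iff.1 hx
      have h2 : Commute p z := h.Pz p hp
      exact (h2.zpow_right i).eq
    have h2 := perfect_cent h.Pp hX hPX (f := a) (fun p hp => by
      rcases ha'.2 p hp with h3 | h3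
      · rw [h3]; exact one_mem _
      · rw [h3]; exact subset_closure rfl)
    exact hab (h2 b (h.RP hb)).symm

/-- elements of an `N`-invariant 2-subgroup of `N` lie in `R ∪ tR` -/
theorem inv_sub (h : XHyp t z P R F) {W : Subgroup G} (hW2 : IsPGroup 2 W) (hWt : ∀ w ∈ W, w * t = t * w)
    (hWz : ∀ w ∈ W, w * z = z * w)
    (hWn : ∀ n, n * t = t * n → n * z = z * n → ∀ b ∈ W, n * b * n⁻¹ ∈ W) :
    W ⊓ P ≤ R ∧ ∀ w ∈ W, w ∈ R ∨ t * w ∈ R := by
  have h1 : W ⊓ P ≤ R := by
    apply h.hR _ inf_le_right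
    · exact hW2.to_le inf_le_left
    · intro n hnt hnz b hb
      exact ⟨hWn n hnt hnz b hb.1, h.Pn n hnt hnz b hb.2⟩
  refine ⟨h1, fun w hw => ?_⟩
  apply h.hC w (hW2.to_le (zpowers_le.2 hw)) (hWt w hw) (hWz w hw)
  intro p hp
  apply h1
  constructor
  · have h2 : w * p * w⁻¹ * p⁻¹ = w * (p * w⁻¹ * p⁻¹) := by group
    rw [h2]
    exact W.mul_mem hw (hWn p (h.Pt p hp) (h.Pz p hp) _ (W.inv_mem hw))
  · exact P.mul_mem (h.Pn w (hWt w hw) (hWz w hw) p hp) (P.inv_mem hp)

/-- **(N)**: an abelian `N`-invariant 2-subgroup of `N` lies in `⟨t, z⟩` -/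
theorem abelian_sub (h : XHyp t z P R F) {W : Subgroup G} (hW2 : IsPGroup 2 W) (hWt : ∀ w ∈ W, w * t = t * w)
    (hWz : ∀ w ∈ W, w * z = z * w) (hWa : ∀ a ∈ W, ∀ b ∈ W, a * b = b * a)
    (hWn : ∀ n, n * t = t * n → n * z = z * n → ∀ b ∈ W, n * b * n⁻¹ ∈ W) :
    ∀ w ∈ W, w = 1 ∨ w = z ∨ w = t ∨ w = t * z := by
  obtain ⟨h1, h2⟩ := h.inv_sub hW2 hWt hWz hWn
  have h3 : ∀ b ∈ W ⊓ R, b = 1 ∨ b = z := by
    rcases h.hmin (W ⊓ R) inf_le_right (fun n hnt hnz b hb =>
      ⟨hWn n hnt hnz b hb.1, h.Rn n hnt hnz b hb.2⟩) with h4 | h4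
    · exact h4
    · exfalso
      obtain ⟨a, ha, b, hb, hab⟩ := h.hna
      have h5 : R ≤ W := by rw [← h4]; exact inf_le_left
      exact hab (hWa a (h5 ha) b (h5 hb))
  intro w hw
  rcases h2 w hw with h4 | h4
  · rcases h3 w ⟨hw, h4⟩ with h5 | h5
    · exact Or.inl h5
    · exact Or.inr (Or.inl h5)
  · have h5 : t * w = 1 ∨ t * w = z := by
      apply h.cent_mod h4
      intro p hp
      apply h3
      have e : (t * w)⁻¹ * (p * (t * w) * p⁻¹) = w⁻¹ * (p * w * p⁻¹) := by
        have h6 := h.Pt p hp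
        calc (t * w)⁻¹ * (p * (t * w) * p⁻¹) = w⁻¹ * t⁻¹ * ((p * t) * w * p⁻¹) := by group
          _ = w⁻¹ * t⁻¹ * ((t * p) * w * p⁻¹) := by rw [h6]
          _ = w⁻¹ * (p * w * p⁻¹) := by group
      constructor
      · rw [e]
        exact W.mul_mem (W.inv_mem hw) (hWn p (h.Pt p hp) (h.Pz p hp) w hw)
      · exact R.mul_mem (R.inv_mem h4) (h.Rn p (h.Pt p hp) (h.Pz p hp) _ h4)
    right; right
    have hti : t⁻¹ = t := inv_eq_of_mul_eq_one_left h.tt
    rcases h5 with h6 | h6
    · left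
      rw [eq_inv_of_mul_eq_one_right h6, hti]
    · right
      rw [← h6, ← mul_assoc, h.tt, one_mul]

/-- abelian subgroups of `F` normalised by `C(z)` are trivial modulo `z` -/
theorem abelian_F (h : XHyp t z P R F)
    (hlam : ∀ φ : centralizer ({z} : Set G) →* ℤˣ, φ ⟨t, mem_centralizer_singleton_iff.2 h.comm⟩ = 1)
    (hnot : ∃ g, g * z = z * g ∧ g * t * g⁻¹ ≠ t ∧ g * t * g⁻¹ ≠ t * z)
    {B : Subgroup G} (hBF : B ≤ F) (hBa : ∀ a ∈ B, ∀ b ∈ B, a * b = b * a)
    (hBn : ∀ g, g * z = z * g → ∀ b ∈ B, g * b * g⁻¹ ∈ B) : ∀ b ∈ B, b = 1 ∨ b = z := by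
  have hzi : z⁻¹ = z := inv_eq_of_mul_eq_one_left h.zz
  have hti : t⁻¹ = t := inv_eq_of_mul_eq_one_left h.tt
  have htz1 : t ≠ 1 := by
    rintro h1
    obtain ⟨g, _, hg, _⟩ := hnot
    apply hg; rw [h1]; group
  have htz : t ≠ z := by
    rintro h1
    obtain ⟨g, hgz, hg, _⟩ := hnot
    apply hg; rw [h1, hgz]; group
  have hzc : ∀ g, g * z = z * g → g * z * g⁻¹ = z := by
    intro g hg; rw [hg]; group
  have hBz : ∀ b ∈ B, b * z = z * b := fun b hb => h.Fz b (hBF hb)
  -- conjugation of elements outside `{1, z}`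
  have hout : ∀ g, g * z = z * g → ∀ b : G, b ≠ 1 → b ≠ z → g * b * g⁻¹ ≠ 1 ∧ g * b * g⁻¹ ≠ z := by
    intro g hg b hb1 hbz
    constructor
    · intro h1
      apply hb1
      calc b = g⁻¹ * (g * b * g⁻¹) * g := by group
        _ = 1 := by rw [h1]; group
    · intro h1
      apply hbz
      calc b = g⁻¹ * (g * b * g⁻¹) * g := by group
        _ = g⁻¹ * z * g := by rw [h1]
        _ = z := by rw [mul_assoc, ← hg]; group
  -- the involutions of `B`
  let E : Subgroup G :=
    { carrier := {b | b ∈ B ∧ b * b = 1}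
      one_mem' := ⟨B.one_mem, one_mul 1⟩
      mul_mem' := by
        rintro a b ⟨ha, ha2⟩ ⟨hb, hb2⟩
        refine ⟨B.mul_mem ha hb, ?_⟩
        calc a * b * (a * b) = a * (b * a) * b := by group
          _ = a * (a * b) * b := by rw [hBa b hb a ha]
          _ = (a * a) * (b * b) := by group
          _ = 1 := by rw [ha2, hb2, one_mul]
      inv_mem' := by
        rintro a ⟨ha, ha2⟩
        refine ⟨B.inv_mem ha, ?_⟩
        rw [← mul_inv_rev, ha2, inv_one] }
  have hEB : E ≤ B := fun x hx => hx.1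
  have hEn : ∀ g, g * z = z * g → ∀ b ∈ E, g * b * g⁻¹ ∈ E := by
    rintro g hg b ⟨hb, hb2⟩
    refine ⟨hBn g hg b hb, ?_⟩
    calc g * b * g⁻¹ * (g * b * g⁻¹) = g * (b * b) * g⁻¹ := by group
      _ = 1 := by rw [hb2]; group
  -- the part commuting with `t`
  have hEt : ∀ w ∈ E, w * t = t * w → w = 1 ∨ w = z ∨ w = t ∨ w = t * z := by
    intro w hw hwt
    refine h.abelian_sub (W := E ⊓ centralizer ({t} : Set G)) ?_ ?_ ?_ ?_ ?_ w
      ⟨hw, mem_centralizer_singleton_iff.2 hwt⟩
    · exact (h.F2.to_le (hEB.trans hBF)).to_le inf_le_left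
    · exact fun w hw => mem_centralizer_singleton_iff.1 hw.2
    · exact fun w hw => hBz w (hEB hw.1)
    · exact fun a ha b hb => hBa a (hEB ha.1) b (hEB hb.1)
    · intro n hnt hnz b hb
      refine ⟨hEn n hnz b hb.1, mem_centralizer_singleton_iff.2 ?_⟩
      have h1 : b * t = t * b := mem_centralizer_singleton_iff.1 hb.2
      have h2 : n⁻¹ * t = t * n⁻¹ := by rw [inv_mul_eq_iff_eq_mul, ← mul_assoc, hnt]; group
      calc n * b * n⁻¹ * t = n * b * (n⁻¹ * t) := by group
        _ = n * (b * t) * n⁻¹ := by rw [h2]; group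
        _ = (n * t) * b * n⁻¹ := by rw [h1]; group
        _ = t * (n * b * n⁻¹) := by rw [hnt]; group
  have claim1 : ∀ e ∈ E, e = 1 ∨ e = z := by
    by_contra hcon
    push Not at hcon
    obtain ⟨e, he, he1, hez⟩ := hcon
    by_cases htE : t ∈ E
    · -- `E ≤ C(t)`
      have hall : ∀ b ∈ E, b = 1 ∨ b = z ∨ b = t ∨ b = t * z := fun b hb =>
        hEt b hb (hBa b (hEB hb) t (hEB htE))
      obtain ⟨g, hg, hg1, hg2⟩ := hnot
      obtain ⟨h1, h2⟩ := hout g hg t htz1 htz
      rcases hall _ (hEn g hg t htE) with h3 | h3 | h3 | h3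
      · exact h1 h3
      · exact h2 h3
      · exact hg1 h3
      · exact hg2 h3
    · have htzE : t * z ∉ E := by
        intro h1
        obtain ⟨x, hxz, hxt⟩ := h.hx
        apply htE
        have h2 := hEn x hxz _ h1
        have h3 : x * (t * z) * x⁻¹ = t := by
          calc x * (t * z) * x⁻¹ = (x * t * x⁻¹) * (x * z * x⁻¹) := by group
            _ = t := by rw [hxt, hzc x hxz, mul_assoc, h.zz, mul_one]
        rwa [h3] at h2
      have hEt' : ∀ w ∈ E, w * t = t * w → w = 1 ∨ w = z := by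
        intro w hw hwt
        rcases hEt w hw hwt with h1 | h1 | h1 | h1
        · exact Or.inl h1
        · exact Or.inr h1
        · exact absurd (h1 ▸ hw) htE
        · exact absurd (h1 ▸ hw) htzE
      have hte : ∀ b ∈ E, t * b * t⁻¹ ∈ E := hEn t h.comm
      -- `t b t⁻¹ = b` or `b z`
      have hact : ∀ b ∈ E, b ≠ 1 → b ≠ z → t * b * t⁻¹ = b * z := by
        intro b hb hb1 hbz
        have hc : b * (t * b * t⁻¹) ∈ E := mul_mem hb (hte b hb)
        have hct : b * (t * b * t⁻¹) * t = t * (b * (t * b * t⁻¹)) := by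
          have h1 : (t * b * t⁻¹) * b = b * (t * b * t⁻¹) :=
            hBa _ (hEB (hte b hb)) _ (hEB hb)
          calc b * (t * b * t⁻¹) * t = b * (t * b) := by group
            _ = t * (t⁻¹ * b * t * b) := by group
            _ = t * ((t * b * t⁻¹) * b) := by
                have e : t⁻¹ * b * t = t * b * t⁻¹ := by rw [hti]
                rw [e]
            _ = t * (b * (t * b * t⁻¹)) := by rw [h1]
        rcases hEt' _ hc hct with h1 | h1
        · -- `b` commutes with `t`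
          exfalso
          have h2 : t * b * t⁻¹ = b⁻¹ := eq_inv_of_mul_eq_one_right h1
          have h3 : b⁻¹ = b := inv_eq_of_mul_eq_one_left hb.2
          rw [h3, mul_inv_eq_iff_eq_mul] at h2
          rcases hEt' b hb h2.symm with h4 | h4
          · exact hb1 h4
          · exact hbz h4
        · have h2 : t * b * t⁻¹ = b⁻¹ * z := by rw [← h1]; group
          have h3 : b⁻¹ = b := inv_eq_of_mul_eq_one_left hb.2
          rw [h2, h3]
      -- `E ⊆ {1, z, e, ez}`
      have hE4 : ∀ b ∈ E, b ≠ 1 → b ≠ z → b = e ∨ b = e * z := by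
        intro b hb hb1 hbz
        have h1 : (e * b) * t = t * (e * b) := by
          have h2 := hact e he he1 hez
          have h3 := hact b hb hb1 hbz
          have h4 : t * (e * b) * t⁻¹ = e * b := by
            calc t * (e * b) * t⁻¹ = (t * e * t⁻¹) * (t * b * t⁻¹) := by group
              _ = e * (z * b) * z := by rw [h2, h3]; group
              _ = e * b * (z * z) := by rw [← hBz b (hEB hb)]; group
              _ = e * b := by rw [h.zz, mul_one]
          exact (mul_inv_eq_iff_eq_mul.1 h4).symm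
        have he' : e⁻¹ = e := inv_eq_of_mul_eq_one_left he.2
        rcases hEt' _ (mul_mem he hb) h1 with h2 | h2
        · left
          rw [eq_inv_of_mul_eq_one_right h2, he']
        · right
          calc b = e⁻¹ * (e * b) := by group
            _ = e * z := by rw [h2, he']
      have h1 := sign_pair h.zz h.z1 h.comm hlam (u := e) (by
        intro g hg
        obtain ⟨h2, h3⟩ := hout g hg e he1 hez
        exact hE4 _ (hEn g hg e he) h2 h3)
      rcases hEt' e he h1.symm with h2 | h2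
      · exact he1 h2
      · exact hez h2
  -- elements of order 4
  intro b hb
  by_contra hcon
  push Not at hcon
  obtain ⟨hb1, hbz⟩ := hcon
  -- a power `v` of `b` with `v² = z`
  obtain ⟨v, hv, hvz⟩ : ∃ v ∈ B, v * v = z := by
    obtain ⟨k, hk⟩ := h.F2 ⟨b, hBF hb⟩
    have hk' : b ^ (2 ^ k) = 1 := congrArg Subtype.val hk
    have hex : ∃ j, b ^ (2 ^ j) = 1 := ⟨k, hk'⟩
    classical
    set m := Nat.find hex with hm
    have hm1 : b ^ (2 ^ m) = 1 := Nat.find_spec hex
    have hm0 : m ≠ 0 := by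
      intro h0
      rw [h0, pow_zero, pow_one] at hm1
      exact hb1 hm1
    obtain ⟨i, hi⟩ := Nat.exists_eq_succ_of_ne_zero hm0
    have hmi : b ^ (2 ^ i) ≠ 1 := by
      apply Nat.find_min hex
      rw [← hm, hi]; exact Nat.lt_succ_self i
    have hmi2 : b ^ (2 ^ i) * b ^ (2 ^ i) = 1 := by
      rw [← pow_add, ← two_mul, ← pow_succ', ← Nat.succ_eq_add_one, ← hi, hm1]
    have hzi' : b ^ (2 ^ i) = z :=
      (claim1 _ ⟨B.pow_mem hb _, hmi2⟩).resolve_left hmi
    have hi0 : i ≠ 0 := by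
      intro h0
      rw [h0, pow_zero, pow_one] at hzi'
      exact hbz hzi'
    obtain ⟨j, hj⟩ := Nat.exists_eq_succ_of_ne_zero hi0
    refine ⟨b ^ (2 ^ j), B.pow_mem hb _, ?_⟩
    rw [← pow_add, ← two_mul, ← pow_succ', ← Nat.succ_eq_add_one, ← hj, hzi']
  have hv4 : ∀ w ∈ B, w * w = z → w = v ∨ w = v * z := by
    intro w hw hwz
    have h1 : (v⁻¹ * w) * (v⁻¹ * w) = 1 := by
      have h2 : w * v⁻¹ = v⁻¹ * w := hBa w hw _ (B.inv_mem hv)
      calc (v⁻¹ * w) * (v⁻¹ * w) = v⁻¹ * (w * v⁻¹) * w := by group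
        _ = v⁻¹ * (v⁻¹ * w) * w := by rw [h2]
        _ = (v * v)⁻¹ * (w * w) := by group
        _ = 1 := by rw [hvz, hwz, inv_mul_cancel]
    rcases claim1 _ ⟨B.mul_mem (B.inv_mem hv) hw, h1⟩ with h2 | h2
    · left; exact (inv_mul_eq_one.1 h2).symm
    · right; rw [← h2]; group
  have hvt := sign_pair h.zz h.z1 h.comm hlam (u := v) (by
    intro g hg
    apply hv4 _ (hBn g hg v hv)
    calc g * v * g⁻¹ * (g * v * g⁻¹) = g * (v * v) * g⁻¹ := by group
      _ = z := by rw [hvz, hzc g hg])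
  -- `⟨v⟩` is an abelian `N`-invariant subgroup of `N`
  have hvz' : v * z = z * v := hBz v hv
  have h1 := h.abelian_sub (W := zpowers v) (h.F2.to_le (by
    rw [zpowers_le]; exact hBF hv)) (by
    intro w hw
    obtain ⟨i, rfl⟩ := mem_zpowers_iff.1 hw
    exact ((show Commute v t from hvt.symm).zpow_left i).eq) (by
    intro w hw
    obtain ⟨i, rfl⟩ := mem_zpowers_iff.1 hw
    exact ((show Commute v z from hvz').zpow_left i).eq) (by
    intro a ha b hb
    obtain ⟨i, rfl⟩ := mem_zpowers_iff.1 ha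
    obtain ⟨j, rfl⟩ := mem_zpowers_iff.1 hb
    rw [← zpow_add, ← zpow_add, add_comm]) (by
    intro n hnt hnz w hw
    obtain ⟨i, rfl⟩ := mem_zpowers_iff.1 hw
    rw [← conj_zpow]
    apply zpow_mem
    rcases hv4 _ (hBn n hnz v hv) (by
      calc n * v * n⁻¹ * (n * v * n⁻¹) = n * (v * v) * n⁻¹ := by group
        _ = z := by rw [hvz, hzc n hnz]) with h2 | h2
    · rw [h2]; exact mem_zpowers v
    · rw [h2, ← hvz]
      exact mul_mem (mem_zpowers v) (mul_mem (mem_zpowers v) (mem_zpowers v))) v (mem_zpowers v)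
  have h2 : v * v = 1 := by
    rcases h1 with h2 | h2 | h2 | h2
    · rw [h2, one_mul]
    · rw [h2, h.zz]
    · rw [h2, h.tt]
    · rw [h2]
      calc t * z * (t * z) = t * (z * t) * z := by group
        _ = t * (t * z) * z := by rw [← h.comm]
        _ = (t * t) * (z * z) := by group
        _ = 1 := by rw [h.tt, h.zz, one_mul]
  rw [hvz] at h2
  exact h.z1 h2

/-- `F` is extraspecial -/
theorem extraspecial [Finite G] (h : XHyp t z P R F)
    (hlam : ∀ φ : centralizer ({z} : Set G) →* ℤˣ, φ ⟨t, mem_centralizer_singleton_iff.2 h.comm⟩ = 1)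
    (hnot : ∃ g, g * z = z * g ∧ g * t * g⁻¹ ≠ t ∧ g * t * g⁻¹ ≠ t * z) : Cfsg.IsExtraspecial 2 F := by
  have hzF : z ∈ F := h.Fc z rfl (fun x hx => (h.Fz x hx).symm)
  have hchar : ∀ A : Subgroup F, A.Characteristic → (∀ a ∈ A, ∀ b ∈ A, a * b = b * a) →
      ∀ a ∈ A, a = 1 ∨ a = ⟨z, hzF⟩ := by
    intro A hA hAa a ha
    have h1 := h.abelian_F hlam hnot (B := A.map F.subtype) (by
      rintro _ ⟨x, _, rfl⟩; exact x.2) (by
      rintro _ ⟨x, hx, rfl⟩ _ ⟨y, hy, rfl⟩
      exact congrArg Subtype.val (hAa x hx y hy)) (by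
      rintro g hg _ ⟨x, hx, rfl⟩
      have hgn : ∀ y : G, y ∈ F ↔ g * y * g⁻¹ ∈ F := by
        intro y
        refine ⟨fun hy => h.Fn g hg y hy, fun hy => ?_⟩
        have h2 := h.Fn g⁻¹ (by rw [inv_mul_eq_iff_eq_mul, ← mul_assoc, hg]; group) _ hy
        have e : g⁻¹ * (g * y * g⁻¹) * g⁻¹⁻¹ = y := by group
        rwa [e] at h2
      let ψ : F ≃* F :=
        { toFun := fun y => ⟨g * y * g⁻¹, (hgn y).1 y.2⟩
          invFun := fun y => ⟨g⁻¹ * y * g, (hgn _).2 (by
            have e : g * (g⁻¹ * (y : G) * g) * g⁻¹ = y := by group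
            rw [e]; exact y.2)⟩
          left_inv := fun y => Subtype.ext (by
            show g⁻¹ * (g * (y : G) * g⁻¹) * g = y
            group)
          right_inv := fun y => Subtype.ext (by
            show g * (g⁻¹ * (y : G) * g) * g⁻¹ = y
            group)
          map_mul' := fun y w => Subtype.ext (by
            show g * ((y : G) * w) * g⁻¹ = g * y * g⁻¹ * (g * w * g⁻¹)
            group) }
      have h2 : ψ x ∈ A := by
        have h3 := characteristic_iff_map_le.1 hA ψ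
        exact h3 ⟨x, hx, rfl⟩
      exact ⟨ψ x, h2, rfl⟩) a ⟨a, ha, rfl⟩
    rcases h1 with h2 | h2
    · exact Or.inl (Subtype.ext h2)
    · exact Or.inr (Subtype.ext h2)
  apply CharAb.extraspecial h.F2 hchar
  by_contra hcon
  push Not at hcon
  have h1 := hchar ⊤ inferInstance (fun a _ b _ => hcon a b) ⟨t, h.tF⟩ (mem_top _)
  obtain ⟨g, hgz, hg, _⟩ := hnot
  apply hg
  rcases h1 with h2 | h2
  · have h3 : t = 1 := congrArg Subtype.val h2
    rw [h3]; group
  · have h3 : t = z := congrArg Subtype.val h2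
    rw [h3, hgz]; group

theorem t_ne (h : XHyp t z P R F) : t ≠ 1 ∧ t ≠ z := by
  obtain ⟨x, hxz, hxt⟩ := h.hx
  constructor
  · rintro h1
    rw [h1, mul_one, mul_inv_cancel, one_mul] at hxt
    exact h.z1 hxt.symm
  · rintro h1
    rw [h1, h.zz, hxz, mul_inv_cancel_right] at hxt
    exact h.z1 hxt

theorem t_notMem (h : XHyp t z P R F) : t ∉ R := by
  intro htR
  rcases h.hmin (zpowers t) (by rw [zpowers_le]; exact htR) (by
    intro n hnt hnz w hw
    obtain ⟨i, rfl⟩ := mem_zpowers_iff.1 hw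
    rw [← conj_zpow]
    apply zpow_mem
    rw [hnt, mul_inv_cancel_right]
    exact mem_zpowers t) with h2 | h2
  · rcases h2 t (mem_zpowers t) with h3 | h3
    · exact h.t_ne.1 h3
    · exact h.t_ne.2 h3
  · obtain ⟨a, ha, b, hb, hab⟩ := h.hna
    rw [← h2] at ha hb
    obtain ⟨i, rfl⟩ := mem_zpowers_iff.1 ha
    obtain ⟨j, rfl⟩ := mem_zpowers_iff.1 hb
    apply hab
    rw [← zpow_add, ← zpow_add, add_comm]

/-- a subgroup with exactly two cosets -/
theorem card_two {A B : Subgroup G} (hAB : A ≤ B) {a : G} (ha : a ∈ B)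
    (h : ∀ b ∈ B, b ∈ A ∨ b * a ∈ A) (h2 : ∀ b ∈ A, b * a ∉ A) : Nat.card B = 2 * Nat.card A := by
  have h1 : (A.subgroupOf B).index = 2 := by
    rw [index_eq_two_iff]
    refine ⟨⟨a, ha⟩, fun b => ?_⟩
    rw [mem_subgroupOf, mem_subgroupOf, coe_mul]
    by_cases hb : (b : G) ∈ A
    · right; exact ⟨hb, h2 _ hb⟩
    · left; exact ⟨(h _ b.2).resolve_left hb, hb⟩
  have h3 := (A.subgroupOf B).card_mul_index
  rw [h1, Nat.card_congr (subgroupOfEquivOfLe hAB).toEquiv] at h3
  omega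

/-- **The case `t ∈ O₂(C(z))`** -/
theorem main [Finite G] (h : XHyp t z P R F)
    (hlam : ∀ φ : centralizer ({z} : Set G) →* ℤˣ, φ ⟨t, mem_centralizer_singleton_iff.2 h.comm⟩ = 1)
    (hnot : ∃ g, g * z = z * g ∧ g * t * g⁻¹ ≠ t ∧ g * t * g⁻¹ ≠ t * z) :
    Cfsg.IsExtraspecial 2 F ∧ R ≤ F ∧ Nat.card F = 4 * Nat.card R := by
  have hex := h.extraspecial hlam hnot
  have hzi : z⁻¹ = z := inv_eq_of_mul_eq_one_left h.zz
  have hzF : z ∈ F := h.Fc z rfl (fun x hx => (h.Fz x hx).symm)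
  -- the centre of `F`
  have hcenF : ∀ c : F, c ∈ center F ↔ (c : G) = 1 ∨ (c : G) = z := by
    have hzc : (⟨z, hzF⟩ : F) ∈ center F := by
      rw [mem_center_iff]
      intro y
      exact Subtype.ext (h.Fz y y.2)
    have hz1 : (⟨z, hzF⟩ : F) ≠ 1 := fun h1 => h.z1 (congrArg Subtype.val h1)
    intro c
    constructor
    · intro hc
      by_contra hcon
      push Not at hcon
      have h3 : ({1, ⟨⟨z, hzF⟩, hzc⟩, ⟨c, hc⟩} : Set (center F)).ncard = 3 := by
        rw [Set.ncard_eq_three]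
        refine ⟨_, _, _, ?_, ?_, ?_, rfl⟩
        · intro h4; exact hz1 (congrArg Subtype.val h4).symm
        · intro h4; exact hcon.1 (congrArg (fun w : center F => ((w : F) : G)) h4).symm
        · intro h4; exact hcon.2 (congrArg (fun w : center F => ((w : F) : G)) h4).symm
      have h4 : ({1, ⟨⟨z, hzF⟩, hzc⟩, ⟨c, hc⟩} : Set (center F)).ncard ≤ Nat.card (center F) := by
        rw [← Set.ncard_univ]
        exact Set.ncard_le_ncard (Set.subset_univ _)
      rw [h3, hex.2] at h4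
      omega
    · rintro (h1 | h1)
      · have : c = 1 := Subtype.ext h1
        rw [this]; exact one_mem _
      · have : c = ⟨z, hzF⟩ := Subtype.ext h1
        rw [this]; exact hzc
  -- conjugates of `t` under `F`
  have hconj : ∀ f ∈ F, f * t * f⁻¹ = t ∨ f * t * f⁻¹ = t * z := by
    intro f hf
    have h1 : ⁅(⟨f, hf⟩ : F), (⟨t, h.tF⟩ : F)⁆ ∈ center F := by
      rw [← hex.1.2.2, _root_.commutator_def]
      exact commutator_mem_commutator (mem_top _) (mem_top _)
    rcases (hcenF _).1 h1 with h2 | h2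
    · left
      have h3 : f * t * f⁻¹ * t⁻¹ = 1 := h2
      rw [mul_inv_eq_one] at h3
      exact h3
    · right
      have h3 : f * t * f⁻¹ * t⁻¹ = z := h2
      rw [mul_inv_eq_iff_eq_mul, ← h.comm] at h3
      exact h3
  -- `X = C_F(t)`
  set X : Subgroup G := F ⊓ centralizer ({t} : Set G) with hX
  have hXt : ∀ w ∈ X, w * t = t * w := fun w hw => mem_centralizer_singleton_iff.1 hw.2
  have hXz : ∀ w ∈ X, w * z = z * w := fun w hw => h.Fz w hw.1
  have hXmem : ∀ w, w ∈ F → w * t = t * w → w ∈ X := fun w h1 h2 =>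
    ⟨h1, mem_centralizer_singleton_iff.2 h2⟩
  have hXn : ∀ n, n * t = t * n → n * z = z * n → ∀ b ∈ X, n * b * n⁻¹ ∈ X := by
    intro n hnt hnz b hb
    apply hXmem _ (h.Fn n hnz b hb.1)
    have h1 := hXt b hb
    have h2 : n⁻¹ * t = t * n⁻¹ := by rw [inv_mul_eq_iff_eq_mul, ← mul_assoc, hnt]; group
    calc n * b * n⁻¹ * t = n * b * (n⁻¹ * t) := by group
      _ = n * (b * t) * n⁻¹ := by rw [h2]; group
      _ = (n * t) * b * n⁻¹ := by rw [h1]; group
      _ = t * (n * b * n⁻¹) := by rw [hnt]; group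
  have htX : t ∈ X := hXmem t h.tF rfl
  obtain ⟨-, hXR⟩ := h.inv_sub (W := X) (h.F2.to_le inf_le_left) hXt hXz hXn
  -- an element of `F` moving `t`
  obtain ⟨f₀, hf₀, hf₀t⟩ : ∃ f ∈ F, f * t * f⁻¹ = t * z := by
    by_contra hcon
    push Not at hcon
    have h1 : (⟨t, h.tF⟩ : F) ∈ center F := by
      rw [mem_center_iff]
      intro y
      apply Subtype.ext
      have h2 := (hconj y y.2).resolve_right (hcon y y.2)
      exact mul_inv_eq_iff_eq_mul.1 h2
    rcases (hcenF _).1 h1 with h2 | h2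
    · exact h.t_ne.1 h2
    · exact h.t_ne.2 h2
  have hzc : ∀ g, g * z = z * g → g * z * g⁻¹ = z := by
    intro g hg; rw [hg]; group
  have hcX : Nat.card F = 2 * Nat.card X := by
    apply card_two inf_le_left hf₀
    · intro b hb
      rcases hconj b hb with h1 | h1
      · left; exact hXmem b hb (mul_inv_eq_iff_eq_mul.1 h1)
      · right
        apply hXmem _ (F.mul_mem hb hf₀)
        rw [← mul_inv_eq_iff_eq_mul]
        calc b * f₀ * t * (b * f₀)⁻¹ = b * (f₀ * t * f₀⁻¹) * b⁻¹ := by group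
          _ = (b * t * b⁻¹) * (b * z * b⁻¹) := by rw [hf₀t]; group
          _ = t := by rw [h1, hzc b (h.Fz b hb), mul_assoc, h.zz, mul_one]
    · intro b hb h1
      have h2 : f₀ ∈ X := by
        have h3 := X.mul_mem (X.inv_mem hb) h1
        rwa [inv_mul_cancel_left] at h3
      have h2 := hXt f₀ h2
      rw [h2, mul_inv_cancel_right] at hf₀t
      exact h.z1 (mul_eq_left.1 hf₀t.symm)
  rcases h.hmin (X ⊓ R) inf_le_right (fun n hnt hnz b hb =>
      ⟨hXn n hnt hnz b hb.1, h.Rn n hnt hnz b hb.2⟩) with h1 | h1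
  · -- `X ≤ ⟨t, z⟩`
    exfalso
    have h2 : ∀ w ∈ X, w = 1 ∨ w = z ∨ w = t ∨ w = t * z := by
      intro w hw
      rcases hXR w hw with h3 | h3
      · rcases h1 w ⟨hw, h3⟩ with h4 | h4
        · exact Or.inl h4
        · exact Or.inr (Or.inl h4)
      · have hti : t⁻¹ = t := inv_eq_of_mul_eq_one_left h.tt
        right; right
        rcases h1 (t * w) ⟨X.mul_mem htX hw, h3⟩ with h4 | h4
        · left; rw [eq_inv_of_mul_eq_one_right h4, hti]
        · right; rw [← h4, ← mul_assoc, h.tt, one_mul]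
    have hXa : ∀ a ∈ X, ∀ b ∈ X, a * b = b * a := by
      intro a ha b hb
      have hbt := hXt b hb
      have hbz := hXz b hb
      rcases h2 a ha with h3 | h3 | h3 | h3
      · rw [h3, one_mul, mul_one]
      · rw [h3, hbz]
      · rw [h3, hbt]
      · rw [h3, mul_assoc, ← hbz, ← mul_assoc, ← hbt, mul_assoc]
    have hPX : ∀ p ∈ P, ∀ a ∈ X, p * a = a * p := by
      intro p hp a ha
      have hbt := h.Pt p hp
      have hbz := h.Pz p hp
      rcases h2 a ha with h3 | h3 | h3 | h3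
      · rw [h3, one_mul, mul_one]
      · rw [h3, hbz]
      · rw [h3, hbt]
      · rw [h3, ← mul_assoc, hbt, mul_assoc, hbz, ← mul_assoc]
    have hPF : ∀ f ∈ F, ∀ p ∈ P, p * f = f * p := by
      intro f hf
      apply perfect_cent h.Pp hXa hPX
      intro p hp
      have hpf := h.Fn p (h.Pz p hp) f hf
      apply hXmem _ (F.mul_mem (F.inv_mem hf) hpf)
      have hpt : p * t * p⁻¹ = t := by rw [h.Pt p hp]; group
      have hpz : p * z * p⁻¹ = z := hzc p (h.Pz p hp)
      have h3 : (p * f * p⁻¹) * t * (p * f * p⁻¹)⁻¹ = f * t * f⁻¹ := by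
        have e : (p * f * p⁻¹) * t * (p * f * p⁻¹)⁻¹ = p * (f * (p⁻¹ * t * p) * f⁻¹) * p⁻¹ := by group
        have e2 : p⁻¹ * t * p = t := by rw [mul_assoc, ← h.Pt p hp]; group
        rw [e, e2]
        rcases hconj f hf with h4 | h4
        · rw [h4, hpt]
        · rw [h4]
          calc p * (t * z) * p⁻¹ = (p * t * p⁻¹) * (p * z * p⁻¹) := by group
            _ = t * z := by rw [hpt, hpz]
      rw [← mul_inv_eq_iff_eq_mul]
      calc f⁻¹ * (p * f * p⁻¹) * t * (f⁻¹ * (p * f * p⁻¹))⁻¹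
          = f⁻¹ * ((p * f * p⁻¹) * t * (p * f * p⁻¹)⁻¹) * f := by group
        _ = t := by rw [h3]; group
    obtain ⟨a, ha, b, hb, hab⟩ := h.hna
    have hbF : b ∈ F := h.Fc b (h.Rz b hb) (fun x hx => hPF x hx b (h.RP hb))
    exact hab (hPF b hbF a (h.RP ha))
  · have hRX : R ≤ X := by rw [← h1]; exact inf_le_left
    have hcR : Nat.card X = 2 * Nat.card R := by
      apply card_two hRX htX
      · intro b hb
        rcases hXR b hb with h2 | h2
        · exact Or.inl h2
        · right; rw [hXt b hb]; exact h2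
      · intro b hb h2
        apply h.t_notMem
        have h3 := R.mul_mem (R.inv_mem hb) h2
        rwa [inv_mul_cancel_left] at h3
    refine ⟨hex, hRX.trans inf_le_left, ?_⟩
    rw [hcX, hcR]; ring

theorem t_notMem_P (h : XHyp t z P R F) : t ∉ P := by
  intro htP
  apply h.t_notMem
  have h1 : zpowers t ≤ R := by
    apply h.hR
    · rw [zpowers_le]; exact htP
    · exact h.F2.to_le (by rw [zpowers_le]; exact h.tF)
    · intro n hnt hnz w hw
      obtain ⟨i, rfl⟩ := mem_zpowers_iff.1 hw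
      rw [← conj_zpow]
      apply zpow_mem
      rw [hnt, mul_inv_cancel_right]
      exact mem_zpowers t
  exact h1 (mem_zpowers t)

/-- **The case `⟨t, z⟩ ⊴ C(z)`**: if `N / P` is abelian and some `x` with `t ^ x = tz` commutes with `N` modulo `P`, then
`t` is not in the commutator subgroup of `C(z)`. -/
theorem notMem_commutator (h : XHyp t z P R F)
    (hnor : ∀ g, g * z = z * g → g * t * g⁻¹ = t ∨ g * t * g⁻¹ = t * z)
    (hNN : ∀ a, a * t = t * a → a * z = z * a → ∀ b, b * t = t * b → b * z = z * b →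
      a * b * a⁻¹ * b⁻¹ ∈ P)
    {x : G} (hxz : x * z = z * x) (hxt : x * t * x⁻¹ = t * z)
    (hxn : ∀ n, n * t = t * n → n * z = z * n → n * x * n⁻¹ * x⁻¹ ∈ P) :
    (⟨t, mem_centralizer_singleton_iff.2 h.comm⟩ : centralizer ({z} : Set G)) ∉
      commutator (centralizer ({z} : Set G)) := by
  have hzc : ∀ g, g * z = z * g → g * z * g⁻¹ = z := by
    intro g hg; rw [hg]; group
  -- `N`
  set N : Subgroup G := centralizer ({t} : Set G) ⊓ centralizer ({z} : Set G) with hN
  have hmem : ∀ n, n ∈ N ↔ n * t = t * n ∧ n * z = z * n := by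
    intro n
    rw [hN, mem_inf, mem_centralizer_singleton_iff, mem_centralizer_singleton_iff]
  have hPN : P = ⁅N, N⁆ := by
    apply le_antisymm
    · conv_lhs => rw [← h.Pp]
      have h1 : P ≤ N := fun p hp => (hmem p).2 ⟨h.Pt p hp, h.Pz p hp⟩
      exact commutator_mono h1 h1
    · rw [commutator_le]
      intro a ha b hb
      obtain ⟨ha1, ha2⟩ := (hmem a).1 ha
      obtain ⟨hb1, hb2⟩ := (hmem b).1 hb
      exact hNN a ha1 ha2 b hb1 hb2
  have hNH : ∀ g, g * z = z * g → ∀ n ∈ N, g * n * g⁻¹ ∈ N := by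
    intro g hg n hn
    obtain ⟨h1, h2⟩ := (hmem n).1 hn
    have hg' : g⁻¹ * z = z * g⁻¹ := by rw [inv_mul_eq_iff_eq_mul, ← mul_assoc, hg]; group
    have hgi : g⁻¹ * t * g = t ∨ g⁻¹ * t * g = t * z := by
      have := hnor g⁻¹ hg'
      rwa [inv_inv] at this
    rw [hmem]
    constructor
    · have h3 : n * (g⁻¹ * t * g) = (g⁻¹ * t * g) * n := by
        rcases hgi with h4 | h4
        · rw [h4, h1]
        · rw [h4, ← mul_assoc, h1, mul_assoc, h2, ← mul_assoc]
      calc g * n * g⁻¹ * t = g * (n * (g⁻¹ * t * g)) * g⁻¹ := by group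
        _ = g * ((g⁻¹ * t * g) * n) * g⁻¹ := by rw [h3]
        _ = t * (g * n * g⁻¹) := by group
    · calc g * n * g⁻¹ * z = g * n * (g⁻¹ * z) := by group
        _ = g * (n * z) * g⁻¹ := by rw [hg']; group
        _ = (g * z) * n * g⁻¹ := by rw [h2]; group
        _ = z * (g * n * g⁻¹) := by rw [hg]; group
  have hPH : ∀ g, g * z = z * g → ∀ p ∈ P, g * p * g⁻¹ ∈ P := by
    intro g hg p hp
    have h1 : P.map (MulAut.conj g).toMonoidHom ≤ P := by
      conv_lhs => rw [hPN]
      rw [map_commutator]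
      have h2 : N.map (MulAut.conj g).toMonoidHom ≤ N := by
        rintro _ ⟨n, hn, rfl⟩
        exact hNH g hg n hn
      rw [hPN]
      exact commutator_mono h2 h2
    exact h1 ⟨p, hp, rfl⟩
  -- all commutators lie in `P`
  set H := centralizer ({z} : Set G) with hH
  have hHz : ∀ g : H, (g : G) * z = z * g := fun g => mem_centralizer_singleton_iff.1 g.2
  let PH : Subgroup H := P.subgroupOf H
  have hPHn : PH.Normal := ⟨fun p hp g => hPH g (hHz g) p hp⟩
  let xH : H := ⟨x, mem_centralizer_singleton_iff.2 hxz⟩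
  have hdec : ∀ g : H, (g : G) ∈ N ∨ ∃ n : H, (n : G) ∈ N ∧ g = n * xH := by
    intro g
    rcases hnor g (hHz g) with h1 | h1
    · left
      exact (hmem _).2 ⟨mul_inv_eq_iff_eq_mul.1 h1, hHz g⟩
    · right
      refine ⟨g * xH⁻¹, ?_, by group⟩
      rw [hmem]
      refine ⟨?_, hHz _⟩
      rw [← mul_inv_eq_iff_eq_mul]
      show (g : G) * x⁻¹ * t * ((g : G) * x⁻¹)⁻¹ = t
      have h2 : x⁻¹ * t * x = t * z := by
        have hxz' : x⁻¹ * z * x = z := by rw [mul_assoc, ← hxz]; group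
        calc x⁻¹ * t * x = x⁻¹ * (t * z * z) * x := by rw [mul_assoc t z z, h.zz, mul_one]
          _ = x⁻¹ * (x * t * x⁻¹ * z) * x := by rw [hxt]
          _ = t * (x⁻¹ * z * x) := by group
          _ = t * z := by rw [hxz']
      calc (g : G) * x⁻¹ * t * ((g : G) * x⁻¹)⁻¹ = g * (x⁻¹ * t * x) * (g : G)⁻¹ := by group
        _ = (g * t * (g : G)⁻¹) * (g * z * (g : G)⁻¹) := by rw [h2]; group
        _ = t := by rw [h1, hzc g (hHz g), mul_assoc, h.zz, mul_one]
  let mk : H →* H ⧸ PH := QuotientGroup.mk' PH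
  have hmk : ∀ a b : H, (a : G) * b * (a : G)⁻¹ * (b : G)⁻¹ ∈ P → mk a * mk b = mk b * mk a := by
    intro a b hab
    rw [← map_mul, ← map_mul]
    show ((a * b : H) : H ⧸ PH) = ((b * a : H) : H ⧸ PH)
    rw [QuotientGroup.eq]
    show ((a * b)⁻¹ * (b * a) : G) ∈ P
    have h1 := hPH ((b * a : H) : G)⁻¹ (by
      have := hHz (b * a)⁻¹
      exact this) _ (P.inv_mem hab)
    have e : ((b * a : H) : G)⁻¹ * ((a : G) * b * (a : G)⁻¹ * (b : G)⁻¹)⁻¹ * ((b * a : H) : G)⁻¹⁻¹
        = ((a : G) * b)⁻¹ * ((b : G) * a) := by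
      rw [coe_mul]; group
    rwa [e] at h1
  have hcN : ∀ a b : H, (a : G) ∈ N → (b : G) ∈ N → mk a * mk b = mk b * mk a := by
    intro a b ha hb
    obtain ⟨ha1, ha2⟩ := (hmem a).1 ha
    obtain ⟨hb1, hb2⟩ := (hmem b).1 hb
    exact hmk a b (hNN a ha1 ha2 b hb1 hb2)
  have hcx : ∀ a : H, (a : G) ∈ N → mk a * mk xH = mk xH * mk a := by
    intro a ha
    obtain ⟨ha1, ha2⟩ := (hmem a).1 ha
    exact hmk a xH (hxn a ha1 ha2)
  have hall : ∀ a b : H, mk a * mk b = mk b * mk a := by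
    intro a b
    rcases hdec a with ha | ⟨n, hn, rfl⟩ <;> rcases hdec b with hb | ⟨m, hm, rfl⟩
    · exact hcN a b ha hb
    · rw [map_mul, ← mul_assoc, hcN a m ha hm, mul_assoc, hcx a ha, ← mul_assoc]
    · rw [map_mul, mul_assoc, ← hcx b hb, ← mul_assoc, hcN n b hn hb, mul_assoc]
    · rw [map_mul, map_mul]
      calc mk n * mk xH * (mk m * mk xH) = mk n * (mk xH * mk m) * mk xH := by group
        _ = mk n * (mk m * mk xH) * mk xH := by rw [hcx m hm]
        _ = (mk n * mk m) * mk xH * mk xH := by group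
        _ = (mk m * mk n) * mk xH * mk xH := by rw [hcN n m hn hm]
        _ = mk m * (mk n * mk xH) * mk xH := by group
        _ = mk m * (mk xH * mk n) * mk xH := by rw [hcx n hn]
        _ = mk m * mk xH * (mk n * mk xH) := by group
  intro hcon
  have h1 : commutator H ≤ PH := by
    rw [_root_.commutator_def, commutator_le]
    intro a _ b _
    rw [← QuotientGroup.eq_one_iff]
    show mk ⁅a, b⁆ = 1
    rw [map_commutatorElement, commutatorElement_eq_one_iff_mul_comm]
    exact hall a b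
  exact h.t_notMem_P (h1 hcon)

/-- no outer part -/
theorem hxn_of_inner (h : XHyp t z P R F) {x : G} (hxt : x * t * x⁻¹ = t * z)
    (hzP : z ∈ P) (hxP : ∀ p ∈ P, x * p * x⁻¹ ∈ P)
    (hN : ∀ n, n * t = t * n → n * z = z * n → n ∈ P ∨ t * n ∈ P) :
    ∀ n, n * t = t * n → n * z = z * n → n * x * n⁻¹ * x⁻¹ ∈ P := by
  have hti : t⁻¹ = t := inv_eq_of_mul_eq_one_left h.tt
  have key : ∀ p ∈ P, p * x * p⁻¹ * x⁻¹ ∈ P := by
    intro p hp
    have e : p * x * p⁻¹ * x⁻¹ = p * (x * p⁻¹ * x⁻¹) := by group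
    rw [e]
    exact P.mul_mem hp (hxP _ (P.inv_mem hp))
  intro n hnt hnz
  rcases hN n hnt hnz with h1 | h1
  · exact key n h1
  · have h2 := key _ h1
    have e : n * x * n⁻¹ * x⁻¹ = t * ((t * n) * x * (t * n)⁻¹ * x⁻¹) * t⁻¹ * (t * (x * t * x⁻¹)) := by
      rw [mul_inv_rev]
      calc n * x * n⁻¹ * x⁻¹ = (t * t) * n * x * n⁻¹ * x⁻¹ := by rw [h.tt, one_mul]
        _ = t * ((t * n) * x * (n⁻¹ * t⁻¹) * x⁻¹) * (x * t * x⁻¹) := by group
        _ = t * ((t * n) * x * (n⁻¹ * t⁻¹) * x⁻¹) * ((t⁻¹ * t) * (x * t * x⁻¹)) := by group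
        _ = _ := by group
    rw [e, hxt, ← mul_assoc t t z, h.tt, one_mul]
    apply P.mul_mem _ hzP
    exact h.Pn t rfl h.comm _ h2

/-- with an outer part: `x` centralises `R` -/
theorem hxn_of_cent (h : XHyp t z P R F) {x : G} (hxz : x * z = z * x) (hxt : x * t * x⁻¹ = t * z)
    (hzP : z ∈ P) (hxR : ∀ r ∈ R, x * r = r * x)
    (hCR : ∀ n, n * t = t * n → n * z = z * n → (∀ r ∈ R, n * r = r * n) →
      n = 1 ∨ n = z ∨ n = t ∨ n = t * z) :
    ∀ n, n * t = t * n → n * z = z * n → n * x * n⁻¹ * x⁻¹ ∈ P := by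
  have hti : t⁻¹ = t := inv_eq_of_mul_eq_one_left h.tt
  have hzi : z⁻¹ = z := inv_eq_of_mul_eq_one_left h.zz
  have hzc : ∀ g, g * z = z * g → g * z * g⁻¹ = z := by
    intro g hg; rw [hg]; group
  have hxt' : x * t = t * z * x := mul_inv_eq_iff_eq_mul.1 hxt
  have hxi : x⁻¹ * z * x = z := by rw [mul_assoc, ← hxz]; group
  have hxti : x⁻¹ * t * x = t * z := by
    calc x⁻¹ * t * x = x⁻¹ * (t * z * z) * x := by rw [mul_assoc t z z, h.zz, mul_one]
      _ = x⁻¹ * (x * t * x⁻¹ * z) * x := by rw [hxt]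
      _ = t * (x⁻¹ * z * x) := by group
      _ = t * z := by rw [hxi]
  -- `x²`
  have hx2 : x * x = 1 ∨ x * x = z := by
    rcases hCR (x * x) (by
      calc x * x * t = x * (x * t) := by group
        _ = x * (t * z * x) := by rw [hxt']
        _ = (x * t) * (z * x) := by group
        _ = (t * z * x) * (z * x) := by rw [hxt']
        _ = t * z * (x * z) * x := by group
        _ = t * (z * z) * (x * x) := by rw [hxz]; group
        _ = t * (x * x) := by rw [h.zz, mul_one]) (by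
      calc x * x * z = x * (x * z) := by group
        _ = (x * z) * x := by nth_rewrite 1 [hxz]; group
        _ = z * (x * x) := by rw [hxz]; group) (fun r hr => by
      calc x * x * r = x * (x * r) := by group
        _ = (x * r) * x := by nth_rewrite 1 [hxR r hr]; group
        _ = r * (x * x) := by rw [hxR r hr]; group) with h1 | h1 | h1 | h1
    · exact Or.inl h1
    · exact Or.inr h1
    · exfalso
      have h2 : x * t * x⁻¹ = t := by rw [← h1]; group
      rw [hxt] at h2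
      exact h.z1 (mul_eq_left.1 h2)
    · exfalso
      have h2 : x * (t * z) * x⁻¹ = t * z := by rw [← h1]; group
      have h3 : x * (t * z) * x⁻¹ = t := by
        calc x * (t * z) * x⁻¹ = (x * t * x⁻¹) * (x * z * x⁻¹) := by group
          _ = t := by rw [hxt, hzc x hxz, mul_assoc, h.zz, mul_one]
      rw [h2] at h3
      exact h.z1 (mul_eq_left.1 h3)
  intro n hnt hnz
  have hnti : n⁻¹ * t = t * n⁻¹ := by rw [inv_mul_eq_iff_eq_mul, ← mul_assoc, hnt]; group
  have hnzi : n⁻¹ * z = z * n⁻¹ := by rw [inv_mul_eq_iff_eq_mul, ← mul_assoc, hnz]; group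
  set y := n * x * n⁻¹ with hy
  have hyR : ∀ r ∈ R, y * r = r * y := by
    intro r hr
    have h1 : n⁻¹ * r * n ∈ R := conj_inv_mem h.Rn hnt hnz hr
    have h2 := hxR _ h1
    calc n * x * n⁻¹ * r = n * (x * (n⁻¹ * r * n)) * n⁻¹ := by group
      _ = n * ((n⁻¹ * r * n) * x) * n⁻¹ := by rw [h2]
      _ = r * (n * x * n⁻¹) := by group
  have hyz : y * z = z * y := by
    calc n * x * n⁻¹ * z = n * x * (n⁻¹ * z) := by group
      _ = n * (x * z) * n⁻¹ := by rw [hnzi]; group
      _ = (n * z) * x * n⁻¹ := by rw [hxz]; group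
      _ = z * (n * x * n⁻¹) := by rw [hnz]; group
  have hyt : y * t * y⁻¹ = t * z := by
    calc n * x * n⁻¹ * t * (n * x * n⁻¹)⁻¹ = n * (x * (n⁻¹ * t * n) * x⁻¹) * n⁻¹ := by group
      _ = n * (x * t * x⁻¹) * n⁻¹ := by
          have : n⁻¹ * t * n = t := by rw [mul_assoc, ← hnt]; group
          rw [this]
      _ = (n * t * n⁻¹) * (n * z * n⁻¹) := by rw [hxt]; group
      _ = t * z := by rw [hzc n hnz, hnt]; group
  have hy2 : y * y = x * x := by
    have h1 : n * (x * x) * n⁻¹ = x * x := by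
      rcases hx2 with h2 | h2
      · rw [h2]; group
      · rw [h2, hzc n hnz]
    rw [← h1, hy]; group
  -- `y x⁻¹ ∈ ⟨t, z⟩`
  rcases hCR (y * x⁻¹) (by
      rw [← mul_inv_eq_iff_eq_mul]
      calc y * x⁻¹ * t * (y * x⁻¹)⁻¹ = y * (x⁻¹ * t * x) * y⁻¹ := by group
        _ = (y * t * y⁻¹) * (y * z * y⁻¹) := by rw [hxti]; group
        _ = t := by rw [hyt, hzc y hyz, mul_assoc, h.zz, mul_one]) (by
      rw [← mul_inv_eq_iff_eq_mul]
      calc y * x⁻¹ * z * (y * x⁻¹)⁻¹ = y * (x⁻¹ * z * x) * y⁻¹ := by group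
        _ = z := by rw [hxi, hzc y hyz]) (fun r hr => by
      have h1 : x⁻¹ * r = r * x⁻¹ := by rw [inv_mul_eq_iff_eq_mul, ← mul_assoc, hxR r hr]; group
      calc y * x⁻¹ * r = y * (x⁻¹ * r) := by group
        _ = (y * r) * x⁻¹ := by rw [h1]; group
        _ = r * (y * x⁻¹) := by rw [hyR r hr]; group) with h1 | h1 | h1 | h1
  · rw [h1]; exact P.one_mem
  · rw [h1]; exact hzP
  · exfalso
    have h2 : y = t * x := by rw [← h1]; group
    rw [h2] at hy2
    have h3 : t * x * (t * x) = z * (x * x) := by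
      calc t * x * (t * x) = t * (x * t) * x := by group
        _ = (t * t) * z * x * x := by rw [hxt']; group
        _ = z * (x * x) := by rw [h.tt]; group
    rw [h3] at hy2
    exact h.z1 (mul_eq_right.1 hy2)
  · exfalso
    have h2 : y = t * z * x := by rw [← h1]; group
    rw [h2] at hy2
    have h3 : t * z * x * (t * z * x) = z * (x * x) := by
      calc t * z * x * (t * z * x) = t * z * (x * t) * z * x := by group
        _ = t * z * (t * z * x) * z * x := by rw [hxt']
        _ = t * (z * t) * z * (x * z) * x := by group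
        _ = t * (t * z) * z * (z * x) * x := by rw [← h.comm, hxz]
        _ = (t * t) * (z * z) * z * (x * x) := by group
        _ = z * (x * x) := by rw [h.tt, h.zz]; group
    rw [h3] at hy2
    exact h.z1 (mul_eq_right.1 hy2)

end XHyp

end Cfsg.Agent.OddHalf.D8.CaseX

end
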