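import Cfsg.Agent.OddHalf.Front.OfSheet
import Cfsg.Agent.OddHalf.D8.SheetMap
import Cfsg.Agent.OddHalf.D8.Rows
import Cfsg.Agent.OddHalf.D8.Phi.RuEnd
import Cfsg.Agent.OddHalf.D9.Ru.XFA
import Cfsg.Agent.OddHalf.D9.Ru.XR
import Cfsg.Agent.OddHalf.D9.Ru.XfRes
import Cfsg.Agent.KFacts.Ru.EndWords
import Cfsg.Agent.KFacts.Ru.InvC
import Cfsg.Agent.KFacts.Ru.Core
import Cfsg.Agent.OddHalf.D8.RuFam.Facts
import Cfsg.Agent.GTwoFour.Tools
import Cfsg.Agent.KFacts.Ru.EndFacts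
import Cfsg.Agent.OddHalf.D8.RuFam.Tw
import Cfsg.Agent.OddHalf.D8.RuFam.PlaneRu
import Cfsg.Agent.KFacts.Ru.PackD

-- merged: Cfsg.Agent.OddHalf.D8.RowRu
section

/-!
# ODD half, D8: the row of the Rudvalis group (helper294)

* `sheet`: `Basic z P` on the model `H = RuOrder.H` with `z = S²`, `P = P1 = C(z)'` of index 2 in `C(z)`;
* `R1`: the statement of the existence of one element of the family (`OddHalf/D8/RuFam`, helper936);
* `row_of`: the row, from `R1` and the facts `RuEnd.Facts` on the model (helpers 879, 871, 953).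
-/

set_option autoImplicit false

namespace Cfsg.Agent.OddHalf.D8.RowRu

open Subgroup Cfsg Cfsg.Agent.SporadicB Cfsg.Agent.RuD.Letters Cfsg.Agent.OddHalf.D8.Sheet
open Cfsg.Agent.OddHalf.D9.Ru Cfsg.Agent.OddHalf.D9.Ru.XDef Cfsg.Agent.OddHalf.Front
open Cfsg.Agent.KFacts.Ru.ConjWord Cfsg.Agent.SporRec.TCUpperCert Cfsg.Agent.SporRec.R3.Kernel
open scoped commutatorElement

universe u

/-! ### the sheet -/

/-- a sheet for a group all whose automorphisms are inner -/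
theorem basic_of {K : Type*} [Group K] {z : K} {P : Subgroup K} (zz : z * z = 1) (z1 : z ≠ 1)
    (syl : ∃ S : Sylow 2 K, z ∈ S ∧ (∀ x ∈ S, x * z = z * x) ∧
      ∀ y ∈ S, (∀ x ∈ S, x * y = y * x) → y = 1 ∨ y = z)
    (zP : z ∈ P) (cen : ∀ x ∈ P, x * z = z * x) (perf : ⁅P, P⁆ = P)
    (der : ∃ m, TR.dser m (centralizer ({z} : Set K)) ≤ P)
    (inn : ∀ α : MulAut K, ∃ k : K, α = MulAut.conj k) : Basic z P where
  zz := zz
  z1 := z1
  syl := syl
  zP := zP
  cen := cen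
  perf := perf
  der := der
  out := by
    have h : (MulAut.conj : K →* MulAut K).range = ⊤ := by
      rw [eq_top_iff]
      intro α _
      obtain ⟨k, rfl⟩ := inn α
      exact ⟨k, rfl⟩
    rw [h, index_top]
    norm_num
  schreier := ⟨0, fun α _ => by
    obtain ⟨k, rfl⟩ := inn α
    exact ⟨k, rfl⟩⟩
  sylAut := fun _ _ α _ _ => inn α

/-- the model is a Rudvalis group -/
theorem isoRu_H : Spor.IsoRu RuOrder.H := ⟨Cfsg.Agent.RuLat.Main.equiv.symm⟩

theorem inn_of {K : Type*} [Group K] (e : RuOrder.H ≃* K) (α : MulAut K) :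
    ∃ k : K, α = MulAut.conj k := by
  obtain ⟨g, hg⟩ := Cfsg.Agent.OddHalf.Table.OutRu.inner (e.trans (α.trans e.symm))
  refine ⟨e g, ?_⟩
  ext x
  have h1 := congrArg (fun t : MulAut _ => t (e.symm x)) hg
  have h2 : e.symm (α x) = g * e.symm x * g⁻¹ := by
    have h3 : e.symm (α (e (e.symm x))) = g * e.symm x * g⁻¹ := h1
    rwa [e.apply_symm_apply] at h3
  rw [MulAut.conj_apply]
  apply e.symm.injective
  rw [h2, map_mul, map_mul, map_inv, e.symm_apply_apply]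

/-- the element `S²` is not trivial -/
theorem z1 : S * S ≠ 1 := by
  intro h
  have h1 := XFAU.card_cent_eq
  have h2 : (Subgroup.centralizer {S * S} : Subgroup RuOrder.H) = ⊤ := by
    rw [eq_top_iff]
    intro x _
    rw [mem_centralizer_singleton_iff, h, mul_one, one_mul]
  rw [h2, card_top, RuOrder.card_H] at h1
  norm_num at h1

theorem finH : Finite RuOrder.H := XFA.finH

/-- `S²` is 2-central and generates the centre of a Sylow subgroup -/
theorem syl_H : ∃ P : Sylow 2 RuOrder.H, S * S ∈ P ∧ (∀ x ∈ P, x * (S * S) = S * S * x) ∧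
    ∀ y ∈ P, (∀ x ∈ P, x * y = y * x) → y = 1 ∨ y = S * S := by
  have := finH
  have : Fact (Nat.Prime 2) := ⟨Nat.prime_two⟩
  obtain ⟨C, -⟩ := Cfsg.Agent.KFacts.Ru.exists_core isoRu_H
  obtain ⟨P, -, hz, -, -, hZ⟩ := Cfsg.Agent.KFacts.Ru.InvC.exists_sylow C
  set CZ : Subgroup RuOrder.H := Subgroup.centralizer {S * S} with hCZ
  obtain ⟨Q⟩ : Nonempty (Sylow 2 CZ) := inferInstance
  have hp : IsPGroup 2 ↥((Q : Subgroup CZ).map CZ.subtype) := Q.isPGroup'.map _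
  have hi : ¬ 2 ∣ ((Q : Subgroup CZ).map CZ.subtype).index := by
    rw [index_map_subtype]
    exact Nat.prime_two.not_dvd_mul Q.not_dvd_index XFAU.odd
  let Q' : Sylow 2 RuOrder.H := hp.toSylow hi
  have hQ' : (Q' : Subgroup RuOrder.H) = (Q : Subgroup CZ).map CZ.subtype := rfl
  obtain ⟨g, hg⟩ := MulAction.exists_smul_eq RuOrder.H P Q'
  have hmem : ∀ x, x ∈ P → g * x * g⁻¹ ∈ Q' := by
    intro x hx
    rw [← hg]
    exact ⟨x, hx, rfl⟩
  have hcen : ∀ x ∈ Q', x * (S * S) = S * S * x := by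
    intro x hx
    obtain ⟨y, -, rfl⟩ := hx
    exact mem_centralizer_singleton_iff.1 y.2
  have key : ∀ y : RuOrder.H, (∀ x ∈ Q', x * y = y * x) → g⁻¹ * y * g = 1 ∨ g⁻¹ * y * g = C.z 1 := by
    intro y hy
    refine hZ _ fun x hx => ?_
    have h1 := hy _ (hmem x hx)
    calc x * (g⁻¹ * y * g) = g⁻¹ * (g * x * g⁻¹ * y) * g := by group
      _ = g⁻¹ * (y * (g * x * g⁻¹)) * g := by rw [h1]
      _ = g⁻¹ * y * g * x := by group
  have hz1 : g⁻¹ * (S * S) * g = C.z 1 := by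
    rcases key _ hcen with h | h
    · exfalso
      apply z1
      calc S * S = g * (g⁻¹ * (S * S) * g) * g⁻¹ := by group
        _ = 1 := by rw [h]; group
    · exact h
  refine ⟨Q', ?_, hcen, ?_⟩
  · -- a 2-element commuting with `Q'`
    have h2 : IsPGroup 2 ↥(zpowers (S * S)) := by
      refine IsPGroup.of_card (n := 1) ?_
      rw [Nat.card_zpowers, pow_one, orderOf_eq_prime_iff]
      exact ⟨by rw [pow_two]; exact XR.zz, z1⟩
    have h3 : (zpowers (S * S) : Subgroup RuOrder.H) ≤ normalizer ((Q' : Subgroup RuOrder.H) : Set RuOrder.H) := by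
      rw [zpowers_le, mem_normalizer_iff]
      intro x
      constructor
      · intro hx
        have : S * S * x * (S * S)⁻¹ = x := by rw [← hcen x hx]; group
        rw [this]
        exact hx
      · intro hx
        have h4 := hcen _ hx
        have h5 : x = S * S * x * (S * S)⁻¹ := by
          refine mul_left_cancel (a := S * S) ?_
          rw [← h4, inv_mul_cancel_right]
        rw [h5]
        exact hx
    have h4 : IsPGroup 2 ↥(zpowers (S * S) ⊔ (Q' : Subgroup RuOrder.H)) :=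
      h2.to_sup_of_normal_right' Q'.isPGroup' h3
    have h5 := Q'.is_maximal' h4 le_sup_right
    have h6 : S * S ∈ zpowers (S * S) ⊔ (Q' : Subgroup RuOrder.H) :=
      (le_sup_left : zpowers (S * S) ≤ zpowers (S * S) ⊔ (Q' : Subgroup RuOrder.H)) (mem_zpowers _)
    rw [h5] at h6
    exact h6
  · intro y _ hyc
    rcases key y hyc with h | h
    · left
      calc y = g * (g⁻¹ * y * g) * g⁻¹ := by group
        _ = 1 := by rw [h]; group
    · right
      rw [← hz1] at h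
      calc y = g * (g⁻¹ * y * g) * g⁻¹ := by group
        _ = S * S := by rw [h]; group

/-- `C(z)' ≤ P1` -/
theorem der_H : ∃ m, TR.dser m (centralizer ({S * S} : Set RuOrder.H)) ≤ P1 := by
  refine ⟨1, ?_⟩
  rw [TR.dser_succ', TR.dser_zero]
  obtain ⟨h, hCZ, -, -, hc⟩ := XFA.cover
  by_cases hh : h ∈ P1
  · have hall : ∀ x ∈ (Subgroup.centralizer {S * S} : Subgroup RuOrder.H), x ∈ P1 := by
      intro x hx
      rcases hc x hx with h1 | h1
      · exact h1
      · have := mul_mem hh h1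
        rwa [mul_inv_cancel_left] at this
    rw [commutator_le]
    intro a ha b hb
    exact mul_mem (mul_mem (mul_mem (hall a ha) (hall b hb)) (inv_mem (hall a ha))) (inv_mem (hall b hb))
  · set CZ : Subgroup RuOrder.H := Subgroup.centralizer {S * S} with hCZd
    set N : Subgroup CZ := P1.subgroupOf CZ with hN
    have hidx : N.index = 2 := by
      rw [index_eq_two_iff_exists_notMem_and]
      refine ⟨⟨h, hCZ⟩, fun h1 => hh (mem_subgroupOf.1 h1), fun b => ?_⟩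
      rcases hc b⁻¹ (inv_mem b.2) with h1 | h1
      · exact Or.inr (mem_subgroupOf.2 (inv_mem_iff.1 h1))
      · left
        rw [← mul_inv_rev] at h1
        exact mem_subgroupOf.2 (inv_mem_iff.1 h1)
    rw [commutator_le]
    intro a ha b hb
    have h1 : (⟨a, ha⟩ * ⟨b, hb⟩ * ⟨a, ha⟩⁻¹ * ⟨b, hb⟩⁻¹ : CZ) ∈ N := by
      rw [mul_mem_iff_of_index_two hidx, mul_mem_iff_of_index_two hidx, mul_mem_iff_of_index_two hidx,
        inv_mem_iff, inv_mem_iff]
      tauto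
    exact h1

theorem sheet_H : Basic (S * S) P1 :=
  basic_of XR.zz z1 syl_H (mul_mem XR.S_mem XR.S_mem) XR.z_comm XFA.P1_perf der_H
    Cfsg.Agent.OddHalf.Table.OutRu.inner

/-- the sheet of a group isomorphic to the model -/
theorem sheet {K : Type*} [Group K] (e : RuOrder.H ≃* K) : Basic (e (S * S)) (P1.map e.toMonoidHom) := by
  have h := sheet_H
  refine basic_of ?_ ?_ (SheetMap.syl_map e h.syl) ⟨_, h.zP, rfl⟩ ?_ ?_ ?_ (inn_of e)
  · rw [← map_mul, h.zz, map_one]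
  · exact fun h1 => h.z1 (e.injective (by rw [h1, map_one]))
  · rintro _ ⟨x, hx, rfl⟩
    show e x * e (S * S) = e (S * S) * e x
    rw [← map_mul, h.cen x hx, map_mul]
  · rw [← map_commutator, h.perf]
  · obtain ⟨m, hm⟩ := h.der
    refine ⟨m, ?_⟩
    rw [SheetMap.centralizer_map, SheetMap.dser_map]
    exact Subgroup.map_mono hm

/-! ### the row -/

/-- **(R1)**: in the starting position there is an involution `a` with `tᵃ = t z` centralising `C_K(z)` -/
def R1 : Prop := ∀ (G : Type u) [Group G] [Finite G] (K : Subgroup G) (e : RuOrder.H ≃* ↥K) (t x : G),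
  t * t = 1 → t ∉ K → (∀ k ∈ K, k * t = t * k) → (∀ g : G, g * t = t * g → g ∈ K ∨ t * g ∈ K) →
  x * t * x⁻¹ = t * (e (S * S) : G) → x * (e (S * S) : G) * x⁻¹ = (e (S * S) : G) →
  ∃ a : G, a * a = 1 ∧ a * t * a = t * (e (S * S) : G) ∧
    ∀ k ∈ K, k * (e (S * S) : G) = (e (S * S) : G) * k → k * a = a * k

/-- `W` and `S²` are conjugate -/
theorem chkW : chkRel [cj [2, 1] [2] [1, 1]] = true := by decide +kernel

theorem W_eq : (W * S) * W * (W * S)⁻¹ = S * S := by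
  have h := conj_of (g := [2, 1]) (p := [2]) (q := [1, 1]) (rel_of_chk chkW _ (by simp))
  have e1 : (wprod ml [2, 1] : RuOrder.H) = W * S := by
    rw [wprod_cons, wprod_cons, wprod_nil, mul_one]; rfl
  have e2 : (wprod ml [2] : RuOrder.H) = W := by
    rw [wprod_cons, wprod_nil, mul_one]; rfl
  have e3 : (wprod ml [1, 1] : RuOrder.H) = S * S := by
    rw [wprod_cons, wprod_cons, wprod_nil, mul_one]; rfl
  rwa [e1, e2, e3] at h

/-- **(R3)**: the facts of the end -/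
def R3 : Prop := ∃ q r v₁ q' r' y y' v₂ w s u₂ u₃ u₄ : RuOrder.H,
  Phi.RuEnd.Facts (⊤ : Subgroup RuOrder.H) Cfsg.Agent.KFacts.Ru.EndWords.D W q r v₁ q' r' y y' v₂ w s u₂ u₃ u₄

/-- no homomorphism onto `{1, -1}` -/
theorem no_hom {G : Type*} [Group G] (hG : commutator G = ⊤) {t : G} (m : G →* ℤˣ) (hm : m t = -1) : False := by
  have h1 : commutator G ≤ m.ker := Abelianization.commutator_subset_ker m
  rw [hG] at h1
  have h2 : m t = 1 := h1 (mem_top t)
  rw [hm] at h2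
  exact absurd h2 (by decide)

/-- the centralizer of `t` -/
theorem cen_t {G : Type u} [Group G] {K : Subgroup G} (e : RuOrder.H ≃* ↥K) {t q : G} (h : FE.Start K t q)
    (hQ : ∀ y ∈ zpowers q, y = 1 ∨ y = t) (g : G) (hg : g * t = t * g) : g ∈ K ∨ t * g ∈ K := by
  obtain ⟨k, hk⟩ := inn_of e (K.normalizerMonoidHom ⟨g, h.nK g hg⟩)
  have h2 := GlueE.exists_of_conj (h.nK g hg) hk
  have h4 := h.Kt (k : G)⁻¹ (K.inv_mem k.2)
  have h3 : (k : G)⁻¹ * g ∈ zpowers q := by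
    apply h.cK
    · calc (k : G)⁻¹ * g * t = (k : G)⁻¹ * (g * t) := by group
        _ = ((k : G)⁻¹ * t) * g := by rw [hg]; group
        _ = t * ((k : G)⁻¹ * g) := by rw [h4]; group
    · exact h2
  rcases hQ _ h3 with h5 | h5
  · left
    have : g = k := by
      calc g = (k : G) * ((k : G)⁻¹ * g) := by group
        _ = k := by rw [h5, mul_one]
    rw [this]
    exact k.2
  · right
    have : t * g = k := by
      calc t * g = t * ((k : G) * ((k : G)⁻¹ * g)) := by group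
        _ = t * ((k : G) * t) := by rw [h5]
        _ = t * (t * (k : G)) := by rw [h.Kt _ k.2]
        _ = k := by rw [← mul_assoc, h.tt, one_mul]
    rw [this]
    exact k.2

/-- **the row**, from (R1) and (R3) -/
theorem row_of (h1 : R1.{u}) (h3 : R3) : Rows.Row.{u} (fun K _ => Spor.IsoRu K) := by
  intro G _ hG K hK hC hR
  have := hG.fin
  obtain ⟨e1⟩ := hR
  let e : RuOrder.H ≃* ↥K := (e1.trans Cfsg.Agent.RuLat.Main.equiv).symm
  have hcen : center ↥K = ⊥ := by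
    rw [eq_bot_iff]
    intro x hx
    rw [mem_bot]
    apply e.symm.injective
    rw [map_one]
    refine Inn.center_H _ fun b => ?_
    have h2 := mem_center_iff.1 hx (e b)
    apply e.injective
    rw [map_mul, map_mul, e.apply_symm_apply, h2]
  obtain ⟨t, q, T, S', x, hp⟩ := OfSheet.front hG hK hC hcen (sheet e)
  have tK : t ∉ K := hp.toEmb.tK
  have comm : ∀ k ∈ K, k * t = t * k := hp.st.Kt
  have cen := cen_t e hp.st hp.Q2
  obtain ⟨a, aa, at', ac⟩ := h1 G K e t x hp.st.tt tK comm cen hp.xt hp.xz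
  obtain ⟨fam, hfam, -⟩ := Phi.exists_fam hp.st.tt tK comm cen (e (S * S)).2 (hp.toEmb.zz) aa at' ac
  obtain ⟨q, r, v₁, q', r', y, y', v₂, w, s, u₂, u₃, u₄, F⟩ := h3
  have F' := F.map (K.subtype.comp e.toMonoidHom) (K.subtype_injective.comp e.injective)
  have hrange : (K.subtype.comp e.toMonoidHom).range = K := by
    rw [MonoidHom.range_comp, MonoidHom.range_eq_top.2 e.surjective, ← MonoidHom.range_eq_map, range_subtype]
  have hD : (K.subtype.comp e.toMonoidHom) '' Cfsg.Agent.KFacts.Ru.EndWords.D =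
      {v | ∃ k ∈ K, v = k * (e (S * S) : G) * k⁻¹} := by
    ext v
    constructor
    · rintro ⟨_, ⟨k, rfl⟩, rfl⟩
      refine ⟨e (k * (W * S)⁻¹), (e (k * (W * S)⁻¹)).2, ?_⟩
      have h5 : k * W * k⁻¹ = k * (W * S)⁻¹ * (S * S) * (k * (W * S)⁻¹)⁻¹ := by
        rw [← W_eq]
        group
      show ((e (k * W * k⁻¹) : K) : G) = _
      rw [h5, map_mul, map_mul, map_inv]
      rfl
    · rintro ⟨k, hk, rfl⟩
      refine ⟨(e.symm ⟨k, hk⟩ * (W * S)) * W * (e.symm ⟨k, hk⟩ * (W * S))⁻¹, ⟨_, rfl⟩, ?_⟩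
      have h5 : (e.symm ⟨k, hk⟩ * (W * S)) * W * (e.symm ⟨k, hk⟩ * (W * S))⁻¹ =
          e.symm ⟨k, hk⟩ * (S * S) * (e.symm ⟨k, hk⟩)⁻¹ := by
        rw [← W_eq]
        group
      rw [h5]
      show ((e (e.symm ⟨k, hk⟩ * (S * S) * (e.symm ⟨k, hk⟩)⁻¹) : K) : G) = _
      rw [map_mul, map_mul, map_inv, e.apply_symm_apply]
      rfl
  rw [hrange, hD] at F'
  obtain ⟨m, hm⟩ := F'.exists_hom hfam
  exact no_hom (FE.commutator_eq_top hG) m hm

end Cfsg.Agent.OddHalf.D8.RowRu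

end

-- merged: Cfsg.Agent.OddHalf.D8.RuFam.Base
section

/-!
# ODD half, D8, K = Ru: existence of the family, steps (0) and (1) (helper936)

`Pos t K`: `C_G(t) = ⟨t⟩ × K`. `YY t z y`: `tʸ = t z`, `[y, z] = 1`.

* `exists_cent`: there is `y` with `YY t z y` centralising `E`;
* `exists_m`: there is `m` with `MM t z R E m`: `tᵐ = t z`, `[m, E] = 1`, `[m, R] ≤ ⟨z⟩`.
-/

set_option autoImplicit false

namespace Cfsg.Agent.OddHalf.D8.RuFam

open Subgroup
open scoped commutatorElement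

variable {G : Type*} [Group G]

/-- `C_G(t) = ⟨t⟩ × K` -/
structure Pos (t : G) (K : Subgroup G) : Prop where
  tt : t * t = 1
  tK : t ∉ K
  comm : ∀ k ∈ K, k * t = t * k
  cen : ∀ g : G, g * t = t * g → g ∈ K ∨ t * g ∈ K

/-- `tʸ = t z` and `[y, z] = 1` -/
structure YY (t z y : G) : Prop where
  yt : y * t * y⁻¹ = t * z
  yz : y * z = z * y

/-- condition (M) -/
structure MM (t z : G) (R E : Subgroup G) (m : G) : Prop extends YY t z m where
  mE : ∀ e ∈ E, m * e = e * m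
  mR : ∀ r ∈ R, m * r * m⁻¹ = r ∨ m * r * m⁻¹ = r * z

variable {t z : G} {K P₀ R B E : Subgroup G}

theorem conj_comm {x p q : G} (h : p * q = q * p) :
    x * p * x⁻¹ * (x * q * x⁻¹) = x * q * x⁻¹ * (x * p * x⁻¹) := by
  calc x * p * x⁻¹ * (x * q * x⁻¹) = x * (p * q) * x⁻¹ := by group
    _ = x * q * x⁻¹ * (x * p * x⁻¹) := by rw [h]; group

namespace Loc

theorem RK (L : Loc K z P₀ R B E) : R ≤ K := L.RP.trans L.PK

theorem EleR (L : Loc K z P₀ R B E) : E ≤ R := by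
  rw [← L.RR, commutator_le]
  intro a ha b hb
  rw [commutatorElement_def]
  exact mul_mem (mul_mem (mul_mem ha hb) (inv_mem ha)) (inv_mem hb)

theorem BP₀ (L : Loc K z P₀ R B E) : B ≤ P₀ := L.BR.trans L.RP

theorem EP (L : Loc K z P₀ R B E) : E ≤ P₀ := L.EleR.trans L.RP

theorem BK (L : Loc K z P₀ R B E) : B ≤ K := L.BR.trans L.RK

theorem EK (L : Loc K z P₀ R B E) : E ≤ K := L.EleR.trans L.RK

theorem Einv (L : Loc K z P₀ R B E) {e : G} (he : e ∈ E) : e⁻¹ = e := inv_eq_of_mul_eq_one_right (L.EE e he)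

theorem Eab (L : Loc K z P₀ R B E) {e e' : G} (he : e ∈ E) (he' : e' ∈ E) : e * e' = e' * e := by
  have h1 := L.Einv (mul_mem he he')
  rw [mul_inv_rev, L.Einv he, L.Einv he'] at h1
  exact h1.symm

theorem EleB (L : Loc K z P₀ R B E) : E ≤ B := fun e he =>
  (L.cenE e (L.EK he)).2 fun _ he' => L.Eab he he'

theorem cB (L : Loc K z P₀ R B E) {b e : G} (hb : b ∈ B) (he : e ∈ E) : b * e = e * b :=
  (L.cenE b (L.BK hb)).1 hb e he

theorem Rz (L : Loc K z P₀ R B E) {r : G} (hr : r ∈ R) : r * z = z * r := L.Pz r (L.RP hr)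

theorem zR (L : Loc K z P₀ R B E) : z ∈ R := L.EleR L.zE

theorem zinv (L : Loc K z P₀ R B E) : z⁻¹ = z := L.Einv L.zE

/-- conjugation of `e ∈ E` by `r ∈ R` -/
theorem RE' (L : Loc K z P₀ R B E) {r e : G} (hr : r ∈ R) (he : e ∈ E) :
    r * e * r⁻¹ = e ∨ r * e * r⁻¹ = e * z := by
  rcases L.RE r hr e he with h | h
  · left
    exact mul_inv_eq_one.1 h
  · right
    rw [mul_inv_eq_iff_eq_mul] at h
    rw [h, L.Eab L.zE he]

end Loc

/-! ### elements normalising `P₀` -/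

/-- `x` normalises `R` and `E` if it normalises `P₀` -/
theorem Loc.nor_R (L : Loc K z P₀ R B E) {x : G} (h1 : ∀ p ∈ P₀, x * p * x⁻¹ ∈ P₀)
    (h2 : ∀ p ∈ P₀, x⁻¹ * p * x ∈ P₀) : ∀ r ∈ R, x * r * x⁻¹ ∈ R := by
  have h3 : R.map (MulAut.conj x).toMonoidHom ≤ R := by
    apply L.Rmax
    · rintro _ ⟨r, hr, rfl⟩
      exact h1 r (L.RP hr)
    · exact L.R2.map _
    · rintro p hp _ ⟨r, hr, rfl⟩
      refine ⟨x⁻¹ * p * x * r * (x⁻¹ * p * x)⁻¹, L.Rn _ (h2 p hp) r hr, ?_⟩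
      show x * (x⁻¹ * p * x * r * (x⁻¹ * p * x)⁻¹) * x⁻¹ = p * (x * r * x⁻¹) * p⁻¹
      group
  intro r hr
  exact h3 ⟨r, hr, rfl⟩

theorem Loc.nor_E (L : Loc K z P₀ R B E) {x : G} (h1 : ∀ r ∈ R, x * r * x⁻¹ ∈ R) :
    ∀ e ∈ E, x * e * x⁻¹ ∈ E := by
  have h2 : E ≤ E.comap (MulAut.conj x).toMonoidHom := by
    conv_lhs => rw [← L.RR]
    rw [commutator_le]
    intro a ha b hb
    show x * ⁅a, b⁆ * x⁻¹ ∈ E
    have h3 : x * ⁅a, b⁆ * x⁻¹ = ⁅x * a * x⁻¹, x * b * x⁻¹⁆ := by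
      rw [commutatorElement_def, commutatorElement_def]; group
    rw [h3, ← L.RR]
    exact commutator_mem_commutator (h1 a ha) (h1 b hb)
  intro e he
  exact h2 he

/-- elements of `C_K(z)` normalise `P₀` -/
theorem Loc.nor_cen (L : Loc K z P₀ R B E) {k : G} (hk : k ∈ K) (hkz : k * z = z * k) :
    ∀ p ∈ P₀, k * p * k⁻¹ ∈ P₀ := by
  intro p hp
  have h1 := L.com k hk p (L.PK hp) hkz (L.Pz p hp)
  have h2 := mul_mem h1 hp
  have e : k * p * k⁻¹ * p⁻¹ * p = k * p * k⁻¹ := by group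
  rwa [e] at h2

theorem Loc.nor_cen' (L : Loc K z P₀ R B E) {k : G} (hk : k ∈ K) (hkz : k * z = z * k) :
    ∀ p ∈ P₀, k⁻¹ * p * k ∈ P₀ := by
  have h1 : k⁻¹ * z = z * k⁻¹ := by
    calc k⁻¹ * z = k⁻¹ * (z * k) * k⁻¹ := by group
      _ = z * k⁻¹ := by rw [← hkz]; group
  intro p hp
  have := L.nor_cen (inv_mem hk) h1 p hp
  rwa [inv_inv] at this

theorem Loc.cen_R (L : Loc K z P₀ R B E) {k : G} (hk : k ∈ K) (hkz : k * z = z * k) :
    ∀ r ∈ R, k * r * k⁻¹ ∈ R := L.nor_R (L.nor_cen hk hkz) (L.nor_cen' hk hkz)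

theorem Loc.cen_E (L : Loc K z P₀ R B E) {k : G} (hk : k ∈ K) (hkz : k * z = z * k) :
    ∀ e ∈ E, k * e * k⁻¹ ∈ E := L.nor_E (L.cen_R hk hkz)

namespace YY

theorem inv {y : G} (h : YY t z y) (zz : z * z = 1) : YY t z y⁻¹ where
  yt := by
    have h1 : y⁻¹ * z * y = z := by
      calc y⁻¹ * z * y = y⁻¹ * (z * y) := by group
        _ = z := by rw [← h.yz]; group
    have h2 : t = y⁻¹ * t * y * z := by
      calc t = y⁻¹ * (y * t * y⁻¹) * y := by group
        _ = y⁻¹ * t * y * (y⁻¹ * z * y) := by rw [h.yt]; group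
        _ = y⁻¹ * t * y * z := by rw [h1]
    calc y⁻¹ * t * y⁻¹⁻¹ = y⁻¹ * t * y * (z * z) := by rw [zz]; group
      _ = y⁻¹ * t * y * z * z := by group
      _ = t * z := by rw [← h2]
  yz := by
    calc y⁻¹ * z = y⁻¹ * (z * y) * y⁻¹ := by group
      _ = z * y⁻¹ := by rw [← h.yz]; group

/-- multiplication by an element of `C(t) ∩ C(z)` on the left -/
theorem mul_left {y c : G} (h : YY t z y) (ct : c * t = t * c) (cz : c * z = z * c) : YY t z (c * y) where
  yt := by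
    calc c * y * t * (c * y)⁻¹ = c * (y * t * y⁻¹) * c⁻¹ := by group
      _ = c * t * z * c⁻¹ := by rw [h.yt]; group
      _ = t * (c * z) * c⁻¹ := by rw [ct]; group
      _ = t * z := by rw [cz]; group
  yz := by
    calc c * y * z = c * (y * z) := by group
      _ = c * z * y := by rw [h.yz]; group
      _ = z * (c * y) := by rw [cz]; group

theorem mul_right {y c : G} (h : YY t z y) (ct : c * t = t * c) (cz : c * z = z * c) : YY t z (y * c) where
  yt := by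
    calc y * c * t * (y * c)⁻¹ = y * (c * t) * c⁻¹ * y⁻¹ := by group
      _ = y * t * y⁻¹ := by rw [ct]; group
      _ = t * z := h.yt
  yz := by
    calc y * c * z = y * (c * z) := by group
      _ = y * z * c := by rw [cz]; group
      _ = z * (y * c) := by rw [h.yz]; group

end YY

theorem Pos.tz (h : Pos t K) (L : Loc K z P₀ R B E) : z * t = t * z := h.comm z L.zK

/-- `C(t) ∩ C(z) = ⟨t⟩ × C_K(z)` -/
theorem Pos.cases (h : Pos t K) (L : Loc K z P₀ R B E) {c : G} (ct : c * t = t * c) (cz : c * z = z * c) :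
    ∃ k ∈ K, k * z = z * k ∧ (c = k ∨ c = t * k) := by
  rcases h.cen c ct with h1 | h1
  · exact ⟨c, h1, cz, Or.inl rfl⟩
  · refine ⟨t * c, h1, ?_, Or.inr ?_⟩
    · calc t * c * z = t * (c * z) := by group
        _ = t * z * c := by rw [cz]; group
        _ = z * (t * c) := by rw [← h.tz L]; group
    · rw [← mul_assoc, h.tt, one_mul]

theorem Pos.comm_mem (h : Pos t K) (L : Loc K z P₀ R B E) {c d : G} (ct : c * t = t * c) (cz : c * z = z * c)
    (dt : d * t = t * d) (dz : d * z = z * d) : c * d * c⁻¹ * d⁻¹ ∈ P₀ := by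
  obtain ⟨k, hk, kz, hc⟩ := h.cases L ct cz
  obtain ⟨l, hl, lz, hd⟩ := h.cases L dt dz
  have key := L.com k hk l hl kz lz
  have kt := h.comm k hk
  have lt := h.comm l hl
  have e : c * d * c⁻¹ * d⁻¹ = k * l * k⁻¹ * l⁻¹ := by
    have h1 : ∀ d' : G, (d' = l ∨ d' = t * l) → k * d' * k⁻¹ * d'⁻¹ = k * l * k⁻¹ * l⁻¹ := by
      rintro d' (rfl | rfl)
      · rfl
      · calc k * (t * l) * k⁻¹ * (t * l)⁻¹ = (k * t) * l * k⁻¹ * l⁻¹ * t⁻¹ := by group
          _ = t * (k * l * k⁻¹ * l⁻¹) * t⁻¹ := by rw [kt]; group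
          _ = (k * l * k⁻¹ * l⁻¹) * t * t⁻¹ := by rw [h.comm _ (L.PK key)]
          _ = _ := by group
    rcases hc with rfl | rfl
    · exact h1 d hd
    · rw [← h1 d hd]
      calc t * k * d * (t * k)⁻¹ * d⁻¹ = t * (k * d * k⁻¹) * (t⁻¹ * d⁻¹) := by group
        _ = t * (k * d * k⁻¹) * (d * t)⁻¹ := by rw [mul_inv_rev d t]
        _ = t * (k * d * k⁻¹) * (t * d)⁻¹ := by rw [dt]
        _ = t * (k * d * k⁻¹ * d⁻¹) * t⁻¹ := by group
        _ = (k * d * k⁻¹ * d⁻¹) * t * t⁻¹ := by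
            have h2 : t * (k * d * k⁻¹ * d⁻¹) = (k * d * k⁻¹ * d⁻¹) * t := by
              have e1 : d⁻¹ * t = t * d⁻¹ := by
                calc d⁻¹ * t = d⁻¹ * (t * d) * d⁻¹ := by group
                  _ = t * d⁻¹ := by rw [← dt]; group
              have e2 : k⁻¹ * t = t * k⁻¹ := h.comm _ (inv_mem hk)
              calc t * (k * d * k⁻¹ * d⁻¹) = (t * k) * d * k⁻¹ * d⁻¹ := by group
                _ = k * (t * d) * k⁻¹ * d⁻¹ := by rw [← kt]; group
                _ = k * d * (t * k⁻¹) * d⁻¹ := by rw [← dt]; group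
                _ = k * d * k⁻¹ * (t * d⁻¹) := by rw [← e2]; group
                _ = k * d * k⁻¹ * d⁻¹ * t := by rw [← e1]; group
            rw [h2]
        _ = _ := by group
  rw [e]
  exact key

/-- `y` normalises `P₀` -/
theorem YY.norP {y : G} (h : YY t z y) (H : Pos t K) (L : Loc K z P₀ R B E) : ∀ p ∈ P₀, y * p * y⁻¹ ∈ P₀ := by
  have hC : ∀ p ∈ P₀, y * p * y⁻¹ * t = t * (y * p * y⁻¹) ∧ y * p * y⁻¹ * z = z * (y * p * y⁻¹) := by
    intro p hp
    have h1 : y * z * y⁻¹ = z := by rw [h.yz]; group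
    have h2 : y * p * y⁻¹ * z = z * (y * p * y⁻¹) := by
      have := conj_comm (x := y) (L.Pz p hp)
      rwa [h1] at this
    refine ⟨?_, h2⟩
    have h3 := conj_comm (x := y) (H.comm p (L.PK hp))
    rw [h.yt] at h3
    have h4 : y * p * y⁻¹ * t * z = t * (y * p * y⁻¹) * z := by
      calc y * p * y⁻¹ * t * z = y * p * y⁻¹ * (t * z) := by group
        _ = t * (z * (y * p * y⁻¹)) := by rw [h3]; group
        _ = t * (y * p * y⁻¹) * z := by rw [← h2]; group
    exact mul_right_cancel h4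
  have h5 : P₀ ≤ P₀.comap (MulAut.conj y).toMonoidHom := by
    conv_lhs => rw [← L.perf]
    rw [commutator_le]
    intro a ha b hb
    show y * ⁅a, b⁆ * y⁻¹ ∈ P₀
    have h3 : y * ⁅a, b⁆ * y⁻¹ = y * a * y⁻¹ * (y * b * y⁻¹) * (y * a * y⁻¹)⁻¹ * (y * b * y⁻¹)⁻¹ := by
      rw [commutatorElement_def]; group
    rw [h3]
    exact H.comm_mem L (hC a ha).1 (hC a ha).2 (hC b hb).1 (hC b hb).2
  intro p hp
  exact h5 hp

theorem YY.norP' {y : G} (h : YY t z y) (H : Pos t K) (L : Loc K z P₀ R B E) : ∀ p ∈ P₀, y⁻¹ * p * y ∈ P₀ := by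
  intro p hp
  have := (h.inv L.zz).norP H L p hp
  rwa [inv_inv] at this

theorem YY.norR {y : G} (h : YY t z y) (H : Pos t K) (L : Loc K z P₀ R B E) : ∀ r ∈ R, y * r * y⁻¹ ∈ R :=
  L.nor_R (h.norP H L) (h.norP' H L)

theorem YY.norE {y : G} (h : YY t z y) (H : Pos t K) (L : Loc K z P₀ R B E) : ∀ e ∈ E, y * e * y⁻¹ ∈ E :=
  L.nor_E (h.norR H L)

/-- odd powers -/
theorem YY.pow {y : G} (h : YY t z y) (zz : z * z = 1) (n : ℕ) : YY t z (y ^ (2 * n + 1)) := by
  have h2t : y * y * t = t * (y * y) := by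
    have h1 : y * y * t * (y * y)⁻¹ = t := by
      calc y * y * t * (y * y)⁻¹ = y * (y * t * y⁻¹) * y⁻¹ := by group
        _ = y * t * (z * y⁻¹) := by rw [h.yt]; group
        _ = y * t * (y⁻¹ * z) := by rw [(h.inv zz).yz]
        _ = y * t * y⁻¹ * z := by group
        _ = t * (z * z) := by rw [h.yt]; group
        _ = t := by rw [zz, mul_one]
    calc y * y * t = y * y * t * (y * y)⁻¹ * (y * y) := by group
      _ = t * (y * y) := by rw [h1]
  have h2z : y * y * z = z * (y * y) := by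
    calc y * y * z = y * (y * z) := by group
      _ = y * (z * y) := by rw [h.yz]
      _ = (y * z) * y := by group
      _ = z * y * y := by rw [h.yz]
      _ = z * (y * y) := by group
  induction n with
  | zero => simpa using h
  | succ n ih =>
    have e : y ^ (2 * (n + 1) + 1) = y ^ (2 * n + 1) * (y * y) := by
      rw [show 2 * (n + 1) + 1 = (2 * n + 1) + 1 + 1 by ring, pow_succ, pow_succ]; group
    rw [e]
    exact ih.mul_right h2t h2z

/-! ### step (0) -/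

/-- two elements of order 5 of `P₀` generate conjugate subgroups -/
theorem exists_conj_five [Finite G] (hcard : ¬ 25 ∣ Nat.card P₀) {a b : G} (ha : a ∈ P₀) (hb : b ∈ P₀)
    (a5 : a ^ 5 = 1) (b5 : b ^ 5 = 1) (a1 : a ≠ 1) (b1 : b ≠ 1) :
    ∃ p ∈ P₀, p * b * p⁻¹ ∈ zpowers a := by
  have hp5 : Fact (Nat.Prime 5) := ⟨by norm_num⟩
  have key : ∀ (x : P₀), x ^ 5 = 1 → x ≠ 1 → ∃ Q : Sylow 5 P₀, (Q : Subgroup P₀) = zpowers x := by
    intro x hx hx1
    have ho : orderOf x = 5 := by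
      rw [orderOf_eq_prime_iff]
      exact ⟨hx, hx1⟩
    have hQ : IsPGroup 5 (zpowers x) := by
      apply IsPGroup.of_card (n := 1)
      rw [Nat.card_zpowers, ho, pow_one]
    obtain ⟨Q, hQ'⟩ := hQ.exists_le_sylow
    refine ⟨Q, ?_⟩
    symm
    apply eq_of_le_of_card_ge hQ'
    obtain ⟨n, hn⟩ := IsPGroup.iff_card.1 Q.isPGroup'
    rw [Nat.card_zpowers, ho, hn]
    have h1 : n ≤ 1 := by
      by_contra h2
      apply hcard
      have h3 : (5 : ℕ) ^ 2 ∣ Nat.card Q := by rw [hn]; exact pow_dvd_pow 5 (by omega)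
      exact dvd_trans (by norm_num) (h3.trans (card_subgroup_dvd_card _))
    calc (5 : ℕ) ^ n ≤ 5 ^ 1 := Nat.pow_le_pow_right (by norm_num) h1
      _ = 5 := by norm_num
  obtain ⟨Qa, hQa⟩ := key ⟨a, ha⟩ (Subtype.ext a5) (fun h => a1 (congrArg Subtype.val h))
  obtain ⟨Qb, hQb⟩ := key ⟨b, hb⟩ (Subtype.ext b5) (fun h => b1 (congrArg Subtype.val h))
  obtain ⟨p, hp⟩ := MulAction.exists_smul_eq P₀ Qb Qa
  refine ⟨p, p.2, ?_⟩
  have h1 : (⟨b, hb⟩ : P₀) ∈ (Qb : Subgroup P₀) := by rw [hQb]; exact mem_zpowers _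
  have h2 : p * ⟨b, hb⟩ * p⁻¹ ∈ (Qa : Subgroup P₀) := by
    rw [← hp, Sylow.coe_subgroup_smul]
    exact ⟨_, h1, by simp [MulAut.conj_apply]⟩
  rw [hQa] at h2
  obtain ⟨i, hi⟩ := mem_zpowers_iff.1 h2
  refine mem_zpowers_iff.2 ⟨i, ?_⟩
  have := congrArg Subtype.val hi
  simpa using this

/-- a 2-element centralising the element `a` of order 5 and `z`, normalising `E`, centralises `E` -/
theorem Loc.cent_of_five [Finite G] (L : Loc K z P₀ R B E) {a y : G} (ha : a ∈ P₀) (a5 : a ^ 5 = 1) (a1 : a ≠ 1)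
    (hirr : ∀ Q ≤ E, z ∈ Q → (∀ q ∈ Q, a * q * a⁻¹ ∈ Q) → (∀ q ∈ Q, q = 1 ∨ q = z) ∨ Q = E)
    (hy : IsPGroup 2 (zpowers y)) (yz : y * z = z * y) (ya : y * a = a * y) (yE : ∀ e ∈ E, y * e * y⁻¹ ∈ E)
    (yE' : ∀ e ∈ E, y⁻¹ * e * y ∈ E) : ∀ e ∈ E, y * e = e * y := by
  have hp2 : Fact (Nat.Prime 2) := ⟨Nat.prime_two⟩
  have aE : ∀ e ∈ E, a * e * a⁻¹ ∈ E := L.cen_E (L.PK ha) (L.Pz a ha)
  have zy : y * z * y⁻¹ = z := by rw [yz]; group
  -- fixed points modulo `z`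
  have h1 : ∃ e ∈ E, ¬ (e = 1 ∨ e = z) ∧ (y * e * y⁻¹ * e⁻¹ = 1 ∨ y * e * y⁻¹ * e⁻¹ = z) := by
    have hEn : E ≤ normalizer (E : Set G) := le_normalizer
    have hyn : zpowers y ≤ normalizer (E : Set G) := by
      rw [zpowers_le, mem_normalizer_iff]
      intro e
      refine ⟨yE e, fun he => ?_⟩
      have := yE' _ he
      have e2 : y⁻¹ * (y * e * y⁻¹) * y = e := by group
      rwa [e2] at this
    have h2E : IsPGroup 2 E := L.R2.to_le L.EleR
    have hS : IsPGroup 2 ↥(E ⊔ zpowers y) := by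
      rw [sup_comm]
      exact hy.to_sup_of_normal_right' h2E hyn
    have hgen : ∀ x ∈ E ⊔ zpowers y, ∀ e ∈ E, x * e * x⁻¹ ∈ E := by
      intro x hx e he
      have h3 : E ⊔ zpowers y ≤ normalizer (E : Set G) := sup_le hEn hyn
      exact ((mem_normalizer_iff.1 (h3 hx)) e).1 he
    have hz : ∀ x ∈ E ⊔ zpowers y, ∀ e ∈ zpowers z, x * e * x⁻¹ ∈ zpowers z := by
      intro x hx e he
      have h3 : E ⊔ zpowers y ≤ centralizer {z} := by
        refine sup_le (fun w hw => mem_centralizer_singleton_iff.2 (L.Eab hw L.zE)) ?_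
        rw [zpowers_le]
        exact mem_centralizer_singleton_iff.2 yz
      have h4 := mem_centralizer_singleton_iff.1 (h3 hx)
      obtain ⟨i, rfl⟩ := mem_zpowers_iff.1 he
      have h5 : x * z ^ i * x⁻¹ = z ^ i := by
        have : Commute x (z ^ i) := (show Commute x z from h4).zpow_right i
        rw [this.eq]; group
      rw [h5]
      exact he
    have hz2 : ∀ x, x ∈ zpowers z ↔ x = 1 ∨ x = z := by
      intro x
      constructor
      · rintro hx
        obtain ⟨i, rfl⟩ := mem_zpowers_iff.1 hx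
        rcases Int.even_or_odd' i with ⟨k, rfl | rfl⟩
        · left; rw [zpow_mul, show z ^ (2 : ℤ) = 1 by rw [zpow_two, L.zz], one_zpow]
        · right; rw [zpow_add, zpow_mul, show z ^ (2 : ℤ) = 1 by rw [zpow_two, L.zz], one_zpow, one_mul, zpow_one]
      · rintro (rfl | rfl)
        · exact one_mem _
        · exact mem_zpowers _
    have hne : ∃ e ∈ E, e ∉ zpowers z := by
      by_contra hcon
      push Not at hcon
      have h6 : ∀ b ∈ B, b ∈ E → b = 1 ∨ b = z := fun b _ hb => (hz2 b).1 (hcon b hb)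
      -- then `a` centralises `E`, so it is in the 2-group `B`
      have h7 : a ∈ B := (L.cenE a (L.PK ha)).2 fun e he => by
        rcases (hz2 e).1 (hcon e he) with rfl | rfl
        · rw [mul_one, one_mul]
        · exact L.Pz a ha
      obtain ⟨n, hn⟩ := L.R2 ⟨a, L.BR h7⟩
      have h8 : a ^ (2 ^ n) = 1 := by
        have := congrArg Subtype.val hn
        simpa using this
      have h9 : orderOf a ∣ 2 ^ n := orderOf_dvd_of_pow_eq_one h8
      have hp5 : Fact (Nat.Prime 5) := ⟨by norm_num⟩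
      have h10 : orderOf a = 5 := orderOf_eq_prime_iff.2 ⟨a5, a1⟩
      rw [h10] at h9
      have h11 := (Nat.Prime.dvd_of_dvd_pow (by norm_num) h9)
      norm_num at h11
    obtain ⟨e, he, hez, hye⟩ := Cfsg.Agent.GTwoFour.Tools.exists_fixed_mod hS (le_sup_left) hgen hz hne
    refine ⟨e, he, fun h => hez ((hz2 e).2 h), ?_⟩
    have := hye y (mem_sup_right (mem_zpowers y))
    rw [commutatorElement_def] at this
    exact (hz2 _).1 this
  -- the subgroup of the fixed points modulo `z`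
  let X : Subgroup G :=
    { carrier := {e | e ∈ E ∧ (y * e * y⁻¹ = e ∨ y * e * y⁻¹ = z * e)}
      one_mem' := ⟨one_mem _, Or.inl (by group)⟩
      mul_mem' := by
        rintro e f ⟨he, h2⟩ ⟨hf, h3⟩
        refine ⟨mul_mem he hf, ?_⟩
        have h4 : y * (e * f) * y⁻¹ = (y * e * y⁻¹) * (y * f * y⁻¹) := by group
        rw [h4]
        have ez : e * z = z * e := L.Eab he L.zE
        rcases h2 with h2 | h2 <;> rcases h3 with h3 | h3 <;> rw [h2, h3]
        · exact Or.inl rfl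
        · exact Or.inr (by rw [← mul_assoc, ez, mul_assoc])
        · exact Or.inr (by rw [mul_assoc])
        · left
          calc z * e * (z * f) = z * (e * z) * f := by group
            _ = z * z * (e * f) := by rw [ez]; group
            _ = e * f := by rw [L.zz, one_mul]
      inv_mem' := by
        rintro e ⟨he, h2⟩
        rw [L.Einv he]
        exact ⟨he, h2⟩ }
  have hX : X = E := by
    have hXE : X ≤ E := fun e he => he.1
    have hzX : z ∈ X := ⟨L.zE, Or.inl zy⟩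
    have hinv : ∀ q ∈ X, a * q * a⁻¹ ∈ X := by
      rintro e ⟨he, h2⟩
      refine ⟨aE e he, ?_⟩
      have h3 : y * (a * e * a⁻¹) * y⁻¹ = a * (y * e * y⁻¹) * a⁻¹ := by
        calc y * (a * e * a⁻¹) * y⁻¹ = (y * a) * e * (y * a)⁻¹ := by group
          _ = (a * y) * e * (a * y)⁻¹ := by rw [ya]
          _ = _ := by group
      rw [h3]
      rcases h2 with h2 | h2
      · exact Or.inl (by rw [h2])
      · right
        rw [h2]
        calc a * (z * e) * a⁻¹ = (a * z) * e * a⁻¹ := by group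
          _ = z * (a * e * a⁻¹) := by rw [L.Pz a ha]; group
    rcases hirr X hXE hzX hinv with h2 | h2
    · exfalso
      obtain ⟨e, he, hez, hye⟩ := h1
      apply hez
      apply h2 e
      refine ⟨he, ?_⟩
      rcases hye with h3 | h3
      · exact Or.inl (mul_inv_eq_one.1 h3)
      · exact Or.inr (mul_inv_eq_iff_eq_mul.1 h3)
    · exact h2
  intro e he
  -- the norm over `⟨a⟩`
  set N := e * (a * e * a⁻¹) * (a ^ 2 * e * (a ^ 2)⁻¹) * (a ^ 3 * e * (a ^ 3)⁻¹) * (a ^ 4 * e * (a ^ 4)⁻¹) with hN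
  have hpow : ∀ i : ℕ, a ^ i * e * (a ^ i)⁻¹ ∈ E := fun i =>
    L.cen_E (L.PK (pow_mem ha i)) (L.Pz _ (pow_mem ha i)) e he
  have e0E : e ∈ E := he
  have e1E : a * e * a⁻¹ ∈ E := by simpa using hpow 1
  have hNE : N ∈ E := mul_mem (mul_mem (mul_mem (mul_mem he e1E) (hpow 2)) (hpow 3)) (hpow 4)
  have hNa : a * N = N * a := by
    have h3 : a * N * a⁻¹ = N := by
      have h4 : a * N * a⁻¹ = (a * e * a⁻¹) * (a ^ 2 * e * (a ^ 2)⁻¹) * (a ^ 3 * e * (a ^ 3)⁻¹) *
          (a ^ 4 * e * (a ^ 4)⁻¹) * (a ^ 5 * e * (a ^ 5)⁻¹) := by rw [hN]; group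
      rw [h4, a5, inv_one, one_mul, mul_one, hN]
      rw [L.Eab (mul_mem (mul_mem (mul_mem e1E (hpow 2)) (hpow 3)) (hpow 4)) he]
      group
    calc a * N = a * N * a⁻¹ * a := by group
      _ = N * a := by rw [h3]
  have hNz : N = 1 ∨ N = z := by
    let Y : Subgroup G := E ⊓ centralizer {a}
    have hinv : ∀ q ∈ Y, a * q * a⁻¹ ∈ Y := by
      rintro w ⟨hw, hwa⟩
      have h8 := mem_centralizer_singleton_iff.1 hwa
      have h9 : a * w * a⁻¹ = w := by rw [← h8]; group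
      rw [h9]
      exact ⟨hw, hwa⟩
    rcases hirr Y inf_le_left ⟨L.zE, mem_centralizer_singleton_iff.2 (L.Pz a ha).symm⟩ hinv with h2 | h2
    · exact h2 N ⟨hNE, mem_centralizer_singleton_iff.2 hNa.symm⟩
    · exfalso
      have h7 : a ∈ B := (L.cenE a (L.PK ha)).2 fun e he => by
        have h8 : e ∈ Y := by rw [h2]; exact he
        exact (mem_centralizer_singleton_iff.1 h8.2).symm
      obtain ⟨n, hn⟩ := L.R2 ⟨a, L.BR h7⟩
      have h8 : a ^ (2 ^ n) = 1 := by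
        have := congrArg Subtype.val hn
        simpa using this
      have h9 : orderOf a ∣ 2 ^ n := orderOf_dvd_of_pow_eq_one h8
      have hp5 : Fact (Nat.Prime 5) := ⟨by norm_num⟩
      have h10 : orderOf a = 5 := orderOf_eq_prime_iff.2 ⟨a5, a1⟩
      rw [h10] at h9
      have h11 := (Nat.Prime.dvd_of_dvd_pow (by norm_num) h9)
      norm_num at h11
  have hNy : y * N * y⁻¹ = N := by
    rcases hNz with h2 | h2 <;> rw [h2]
    · group
    · exact zy
  have heX : e ∈ X := by rw [hX]; exact he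
  rcases heX.2 with h2 | h2
  · calc y * e = y * e * y⁻¹ * y := by group
      _ = e * y := by rw [h2]
  · exfalso
    have hi : ∀ i : ℕ, y * (a ^ i * e * (a ^ i)⁻¹) * y⁻¹ = z * (a ^ i * e * (a ^ i)⁻¹) := by
      intro i
      have h3 : y * a ^ i = a ^ i * y := ((show Commute y a from ya).pow_right i).eq
      have h4 : a ^ i * z = z * a ^ i := L.Pz _ (pow_mem ha i)
      calc y * (a ^ i * e * (a ^ i)⁻¹) * y⁻¹ = (y * a ^ i) * e * (y * a ^ i)⁻¹ := by group
        _ = a ^ i * (y * e * y⁻¹) * (a ^ i)⁻¹ := by rw [h3]; group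
        _ = (a ^ i * z) * e * (a ^ i)⁻¹ := by rw [h2]; group
        _ = _ := by rw [h4]; group
    have h3 : y * N * y⁻¹ = z * N := by
      have e1 : y * N * y⁻¹ = (y * e * y⁻¹) * (y * (a * e * a⁻¹) * y⁻¹) * (y * (a ^ 2 * e * (a ^ 2)⁻¹) * y⁻¹) *
          (y * (a ^ 3 * e * (a ^ 3)⁻¹) * y⁻¹) * (y * (a ^ 4 * e * (a ^ 4)⁻¹) * y⁻¹) := by rw [hN]; group
      have h1' := hi 1
      rw [pow_one] at h1'
      have zc : ∀ w ∈ E, w * z = z * w := fun w hw => L.Eab hw L.zE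
      have z1 := zc _ he
      have z2 := zc _ e1E
      have z3 := zc _ (hpow 2)
      have z4 := zc _ (hpow 3)
      rw [e1, h2, h1', hi 2, hi 3, hi 4, hN]
      set p := a * e * a⁻¹
      set q := a ^ 2 * e * (a ^ 2)⁻¹
      set r := a ^ 3 * e * (a ^ 3)⁻¹
      set s := a ^ 4 * e * (a ^ 4)⁻¹
      calc z * e * (z * p) * (z * q) * (z * r) * (z * s)
          = z * (e * z) * p * (z * q) * (z * r) * (z * s) := by group
        _ = z * z * e * (p * z) * q * (z * r) * (z * s) := by rw [z1]; group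
        _ = z * z * (e * z) * p * q * (z * r) * (z * s) := by rw [z2]; group
        _ = z * z * z * e * p * (q * z) * r * (z * s) := by rw [z1]; group
        _ = z * z * z * e * (p * z) * q * r * (z * s) := by rw [z3]; group
        _ = z * z * z * (e * z) * p * q * r * (z * s) := by rw [z2]; group
        _ = z * z * z * z * e * p * q * (r * z) * s := by rw [z1]; group
        _ = z * z * z * z * e * p * (q * z) * r * s := by rw [z4]; group
        _ = z * z * z * z * e * (p * z) * q * r * s := by rw [z3]; group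
        _ = z * z * z * z * (e * z) * p * q * r * s := by rw [z2]; group
        _ = (z * z) * (z * z) * z * (e * p * q * r * s) := by rw [z1]; group
        _ = z * (e * p * q * r * s) := by rw [L.zz]; group
    rw [hNy] at h3
    apply L.z1
    have h4 : 1 * N = z * N := by rw [one_mul]; exact h3
    exact (mul_right_cancel h4).symm

/-- **step (0)** -/
theorem exists_cent [Finite G] (H : Pos t K) (L : Loc K z P₀ R B E) {y₀ : G} (h0 : YY t z y₀) :
    ∃ y, YY t z y ∧ ∀ e ∈ E, y * e = e * y := by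
  obtain ⟨a, ha, a5, a1, ⟨n, hnK, hnz, hna⟩, hirr⟩ := L.five
  have tP : ∀ p ∈ P₀, p * t = t * p := fun p hp => H.comm p (L.PK hp)
  -- Frattini
  have hb : y₀ * a * y₀⁻¹ ∈ P₀ := h0.norP H L a ha
  have hb5 : (y₀ * a * y₀⁻¹) ^ 5 = 1 := by rw [conj_pow, a5]; group
  have hb1 : y₀ * a * y₀⁻¹ ≠ 1 := by
    intro e
    apply a1
    calc a = y₀⁻¹ * (y₀ * a * y₀⁻¹) * y₀ := by group
      _ = 1 := by rw [e]; group
  obtain ⟨p, hp, hpa⟩ := exists_conj_five L.card ha hb a5 hb5 a1 hb1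
  obtain ⟨i, hi⟩ := mem_zpowers_iff.1 hpa
  have h1 : YY t z (p * y₀) := h0.mul_left (tP p hp) (L.Pz p hp)
  have hi' : p * y₀ * a * (p * y₀)⁻¹ = a ^ i := by rw [hi]; group
  -- a natural exponent
  have ho : orderOf a = 5 := by
    have hp5 : Fact (Nat.Prime 5) := ⟨by norm_num⟩
    exact orderOf_eq_prime_iff.2 ⟨a5, a1⟩
  obtain ⟨k, hk5, hk⟩ : ∃ k : ℕ, k < 5 ∧ a ^ i = a ^ k := by
    refine ⟨(i % 5).toNat, ?_, ?_⟩
    · have := Int.emod_lt_of_pos i (show (0 : ℤ) < 5 by norm_num)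
      have := Int.emod_nonneg i (show (5 : ℤ) ≠ 0 by norm_num)
      omega
    · rw [← zpow_natCast, Int.toNat_of_nonneg (Int.emod_nonneg i (by norm_num)), ← zpow_mod_orderOf a i, ho]
      rfl
  have hk0 : k ≠ 0 := by
    rintro rfl
    rw [pow_zero] at hk
    rw [hk] at hi'
    apply a1
    calc a = (p * y₀)⁻¹ * (p * y₀ * a * (p * y₀)⁻¹) * (p * y₀) := by group
      _ = 1 := by rw [hi']; group
  -- powers of `n`
  have hnj : ∀ j : ℕ, n ^ j * a * (n ^ j)⁻¹ = a ^ (2 ^ j) := by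
    intro j
    induction j with
    | zero => simp
    | succ j ih =>
      calc n ^ (j + 1) * a * (n ^ (j + 1))⁻¹ = n * (n ^ j * a * (n ^ j)⁻¹) * n⁻¹ := by
            rw [pow_succ']; group
        _ = (n * a * n⁻¹) ^ (2 ^ j) := by rw [ih, conj_pow]
        _ = a ^ (2 ^ (j + 1)) := by rw [hna, ← pow_mul, pow_succ' 2 j]
  have hnK' : ∀ j : ℕ, n ^ j ∈ K := fun j => pow_mem hnK j
  have hnz' : ∀ j : ℕ, n ^ j * z = z * n ^ j := fun j => ((show Commute n z from hnz).pow_left j).eq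
  obtain ⟨j, hj⟩ : ∃ j : ℕ, (2 ^ j * k) % 5 = 1 := by
    have h2 : k = 1 ∨ k = 2 ∨ k = 3 ∨ k = 4 := by omega
    rcases h2 with rfl | rfl | rfl | rfl
    · exact ⟨0, by norm_num⟩
    · exact ⟨3, by norm_num⟩
    · exact ⟨1, by norm_num⟩
    · exact ⟨2, by norm_num⟩
  have h2 : YY t z (n ^ j * (p * y₀)) := h1.mul_left (H.comm _ (hnK' j)) (hnz' j)
  have hya : n ^ j * (p * y₀) * a * (n ^ j * (p * y₀))⁻¹ = a := by
    calc n ^ j * (p * y₀) * a * (n ^ j * (p * y₀))⁻¹ = n ^ j * (p * y₀ * a * (p * y₀)⁻¹) * (n ^ j)⁻¹ := by group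
      _ = (n ^ j * a * (n ^ j)⁻¹) ^ k := by rw [hi', hk, conj_pow]
      _ = a ^ (2 ^ j * k) := by rw [hnj, ← pow_mul]
      _ = a := by
          rw [← pow_mod_orderOf, ho, hj, pow_one]
  set y₁ := n ^ j * (p * y₀) with hy₁
  have hya' : y₁ * a = a * y₁ := by
    calc y₁ * a = y₁ * a * y₁⁻¹ * y₁ := by group
      _ = a * y₁ := by rw [hya]
  -- the 2-part
  obtain ⟨s, m, hm, hsm⟩ := Nat.exists_eq_two_pow_mul_odd (orderOf_pos y₁).ne'
  obtain ⟨c, rfl⟩ := hm
  have h3 : YY t z (y₁ ^ (2 * c + 1)) := h2.pow L.zz c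
  have h4 : IsPGroup 2 (zpowers (y₁ ^ (2 * c + 1))) := by
    have h5 : (y₁ ^ (2 * c + 1)) ^ (2 ^ s) = 1 := by
      rw [← pow_mul, mul_comm, ← hsm]
      exact pow_orderOf_eq_one y₁
    have hp2 : Fact (Nat.Prime 2) := ⟨Nat.prime_two⟩
    rw [IsPGroup.iff_card, Nat.card_zpowers]
    obtain ⟨r, -, hr⟩ := (Nat.dvd_prime_pow Nat.prime_two).1 (orderOf_dvd_of_pow_eq_one h5)
    exact ⟨r, hr⟩
  have h6 : y₁ ^ (2 * c + 1) * a = a * y₁ ^ (2 * c + 1) :=
    ((show Commute y₁ a from hya').pow_left _).eq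
  refine ⟨_, h3, L.cent_of_five ha a5 a1 hirr h4 h3.yz h6 (h3.norE H L) ?_⟩
  intro e he
  have := (h3.inv L.zz).norE H L e he
  rwa [inv_inv] at this

end Cfsg.Agent.OddHalf.D8.RuFam

end

-- merged: Cfsg.Agent.OddHalf.D8.RuFam.Norm
section

/-!
# ODD half, D8, K = Ru: existence of the family, step (1) (helper936)

`exists_m`: an element `m` with `tᵐ = t z`, `[m, E] = 1`, `[m, R] ≤ ⟨z⟩`; two such elements differ by `⟨t⟩ E`;
`[m, P₀] ≤ E`.
-/

set_option autoImplicit false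

namespace Cfsg.Agent.OddHalf.D8.RuFam

open Subgroup
open scoped commutatorElement

variable {G : Type*} [Group G] {t z : G} {K P₀ R B E : Subgroup G}

section Cent

variable {y : G}

/-- `[y, P₀] ≤ B` -/
theorem YY.comm_B (h : YY t z y) (H : Pos t K) (L : Loc K z P₀ R B E) (hE : ∀ e ∈ E, y * e = e * y) {p : G}
    (hp : p ∈ P₀) : y * p * y⁻¹ * p⁻¹ ∈ B := by
  have h1 := mul_mem (h.norP H L p hp) (inv_mem hp)
  rw [L.cenE _ (L.PK h1)]
  intro e he
  have h2 : p⁻¹ * e * p ∈ E := by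
    have := L.cen_E (L.PK (inv_mem hp)) (L.Pz _ (inv_mem hp)) e he
    rwa [inv_inv] at this
  have h3 : y⁻¹ * (p⁻¹ * e * p) * y = p⁻¹ * e * p := by
    calc y⁻¹ * (p⁻¹ * e * p) * y = y⁻¹ * ((p⁻¹ * e * p) * y) := by group
      _ = p⁻¹ * e * p := by rw [← hE _ h2]; group
  calc y * p * y⁻¹ * p⁻¹ * e = y * p * (y⁻¹ * (p⁻¹ * e * p) * y) * y⁻¹ * p⁻¹ := by group
    _ = (y * e) * p * y⁻¹ * p⁻¹ := by rw [h3]; group
    _ = e * (y * p * y⁻¹ * p⁻¹) := by rw [hE e he]; group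

/-- `[y, P₀] ≤ E` -/
theorem YY.comm_E (h : YY t z y) (H : Pos t K) (L : Loc K z P₀ R B E) (hE : ∀ e ∈ E, y * e = e * y) {p : G}
    (hp : p ∈ P₀) : y * p * y⁻¹ * p⁻¹ ∈ E := by
  have nE : ∀ q ∈ P₀, ∀ e ∈ E, q * e * q⁻¹ ∈ E := fun q hq => L.cen_E (L.PK hq) (L.Pz q hq)
  let X : Subgroup G :=
    { carrier := {p | p ∈ P₀ ∧ y * p * y⁻¹ * p⁻¹ ∈ E}
      one_mem' := ⟨one_mem _, by simp [one_mem]⟩
      mul_mem' := by
        rintro p q ⟨hp, h1⟩ ⟨hq, h2⟩
        refine ⟨mul_mem hp hq, ?_⟩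
        have e1 : y * (p * q) * y⁻¹ * (p * q)⁻¹ = (y * p * y⁻¹ * p⁻¹) * (p * (y * q * y⁻¹ * q⁻¹) * p⁻¹) := by group
        rw [e1]
        exact mul_mem h1 (nE p hp _ h2)
      inv_mem' := by
        rintro p ⟨hp, h1⟩
        refine ⟨inv_mem hp, ?_⟩
        have e1 : y * p⁻¹ * y⁻¹ * p⁻¹⁻¹ = p⁻¹ * (y * p * y⁻¹ * p⁻¹)⁻¹ * p⁻¹⁻¹ := by group
        rw [e1]
        exact nE _ (inv_mem hp) _ (inv_mem h1) }
  have hX : P₀ ≤ X := by
    conv_lhs => rw [← L.perf]
    rw [commutator_le]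
    intro p hp q hq
    rw [commutatorElement_def]
    have hpq : p * q * p⁻¹ * q⁻¹ ∈ P₀ := mul_mem (mul_mem (mul_mem hp hq) (inv_mem hp)) (inv_mem hq)
    refine ⟨hpq, ?_⟩
    set b := y * p * y⁻¹ * p⁻¹ with hb
    set c := y * q * y⁻¹ * q⁻¹ with hc
    have hbB : b ∈ B := h.comm_B H L hE hp
    have hcB : c ∈ B := h.comm_B H L hE hq
    have hbP := L.BP₀ hbB
    have hcP := L.BP₀ hcB
    have f1 : p * c * p⁻¹ * c⁻¹ ∈ E := L.BP c hcB p hp
    have f2 : (p * q * p⁻¹) * b⁻¹ * (p * q * p⁻¹)⁻¹ * b⁻¹⁻¹ ∈ E :=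
      L.BP b⁻¹ (inv_mem hbB) _ (mul_mem (mul_mem hp hq) (inv_mem hp))
    have f3 : (p * q * p⁻¹ * q⁻¹) * c⁻¹ * (p * q * p⁻¹ * q⁻¹)⁻¹ * c⁻¹⁻¹ ∈ E :=
      L.BP c⁻¹ (inv_mem hcB) _ hpq
    have f4 : b * c * b⁻¹ * c⁻¹ ∈ E := by
      rcases L.BB b hbB c hcB with e | e <;> rw [e]
      exacts [one_mem _, L.zE]
    have e1 : y * (p * q * p⁻¹ * q⁻¹) * y⁻¹ * (p * q * p⁻¹ * q⁻¹)⁻¹ =
        (b * (p * c * p⁻¹ * c⁻¹) * b⁻¹) *
        ((b * c) * ((p * q * p⁻¹) * b⁻¹ * (p * q * p⁻¹)⁻¹ * b⁻¹⁻¹) * (b * c)⁻¹) *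
        ((b * c * b⁻¹) * ((p * q * p⁻¹ * q⁻¹) * c⁻¹ * (p * q * p⁻¹ * q⁻¹)⁻¹ * c⁻¹⁻¹) * (b * c * b⁻¹)⁻¹) *
        (b * c * b⁻¹ * c⁻¹) := by
      rw [hb, hc]; group
    rw [e1]
    exact mul_mem (mul_mem (mul_mem (nE b hbP _ f1) (nE _ (mul_mem hbP hcP) _ f2))
      (nE _ (mul_mem (mul_mem hbP hcP) (inv_mem hbP)) _ f3)) f4
  exact (hX hp).2

/-- `[y, B] ≤ ⟨z⟩` -/
theorem YY.comm_z (h : YY t z y) (H : Pos t K) (L : Loc K z P₀ R B E) (hE : ∀ e ∈ E, y * e = e * y) {b : G}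
    (hb : b ∈ B) : y * b * y⁻¹ * b⁻¹ = 1 ∨ y * b * y⁻¹ * b⁻¹ = z := by
  have he := h.comm_E H L hE (L.BP₀ hb)
  apply L.ZR _ he
  intro r hr
  set e := y * b * y⁻¹ * b⁻¹ with he'
  have hf := h.comm_E H L hE (L.RP hr)
  set f := y * r * y⁻¹ * r⁻¹ with hf'
  have hc : r * b * r⁻¹ * b⁻¹ ∈ E := L.BP b hb r (L.RP hr)
  set c := b * r * b⁻¹ * r⁻¹ with hc'
  have hcE : c ∈ E := by
    have : c = (r * b * r⁻¹ * b⁻¹)⁻¹ := by rw [hc']; group
    rw [this]
    exact inv_mem hc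
  have h1 : y * c * y⁻¹ = c := by rw [hE c hcE]; group
  have h2 : y * c * y⁻¹ = (e * b) * (f * r) * (e * b)⁻¹ * (f * r)⁻¹ := by
    rw [he', hf', hc']; group
  have hreE : r * e⁻¹ * r⁻¹ ∈ E := by
    have := L.cen_E (L.PK (L.RP hr)) (L.Rz hr) e⁻¹ (inv_mem he)
    exact this
  have h3 : (e * b) * (f * r) * (e * b)⁻¹ * (f * r)⁻¹ = c * (e * (r * e⁻¹ * r⁻¹)) := by
    calc (e * b) * (f * r) * (e * b)⁻¹ * (f * r)⁻¹ = e * (b * f) * r * b⁻¹ * e⁻¹ * r⁻¹ * f⁻¹ := by group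
      _ = e * f * c * (r * e⁻¹ * r⁻¹) * f⁻¹ := by rw [L.cB hb hf, hc']; group
      _ = e * (f * (c * (r * e⁻¹ * r⁻¹))) * f⁻¹ := by group
      _ = e * (c * (r * e⁻¹ * r⁻¹) * f) * f⁻¹ := by rw [L.Eab hf (mul_mem hcE hreE)]
      _ = (e * c) * (r * e⁻¹ * r⁻¹) := by group
      _ = c * (e * (r * e⁻¹ * r⁻¹)) := by rw [L.Eab he hcE]; group
  rw [h1] at h2
  rw [h3] at h2
  have h4 : e * (r * e⁻¹ * r⁻¹) = 1 := by
    have h5 : c * 1 = c * (e * (r * e⁻¹ * r⁻¹)) := by rw [mul_one]; exact h2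
    exact (mul_left_cancel h5).symm
  calc e * r = e * (r * e⁻¹ * r⁻¹) * r * e := by group
    _ = r * e := by rw [h4, one_mul]

end Cent

/-- **step (1)** -/
theorem exists_m (H : Pos t K) (L : Loc K z P₀ R B E) {y : G} (h : YY t z y) (hE : ∀ e ∈ E, y * e = e * y) :
    ∃ m, MM t z R E m := by
  obtain ⟨r₁, hr₁, hgen, hfix⟩ := L.hom4
  have nE : ∀ q ∈ P₀, ∀ e ∈ E, q * e * q⁻¹ ∈ E := fun q hq => L.cen_E (L.PK hq) (L.Pz q hq)
  set e := y * r₁ * y⁻¹ * r₁⁻¹ with he'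
  have he : e ∈ E := h.comm_E H L hE (L.RP hr₁)
  have zc : ∀ w ∈ P₀, z * w = w * z := fun w hw => (L.Pz w hw).symm
  obtain ⟨b, hb, hbe⟩ := hfix e he (by
    intro p hp hb₁
    set b₁ := p * r₁ * p⁻¹ * r₁⁻¹ with hb₁'
    set ε := y * p * y⁻¹ * p⁻¹ with hε'
    have hε : ε ∈ E := h.comm_E H L hE hp
    have hr' : p * r₁ * p⁻¹ ∈ R := L.Rn p hp r₁ hr₁
    -- `β(p r₁ p⁻¹)` in two ways
    have e1 : y * (p * r₁ * p⁻¹) * y⁻¹ * (p * r₁ * p⁻¹)⁻¹ =
        ε * (p * e * p⁻¹) * ((p * r₁ * p⁻¹) * ε⁻¹ * (p * r₁ * p⁻¹)⁻¹) := by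
      rw [hε', he']; group
    have e2 : y * (p * r₁ * p⁻¹) * y⁻¹ * (p * r₁ * p⁻¹)⁻¹ = (y * b₁ * y⁻¹ * b₁⁻¹) * (b₁ * e * b₁⁻¹) := by
      rw [he', hb₁']; group
    have e3 : b₁ * e * b₁⁻¹ = e := by rw [L.cB hb₁ he]; group
    rw [e3] at e2
    have hpe : p * e * p⁻¹ ∈ E := nE p hp e he
    have e4 : ∃ w : G, (w = 1 ∨ w = z) ∧ (p * r₁ * p⁻¹) * ε⁻¹ * (p * r₁ * p⁻¹)⁻¹ = ε⁻¹ * w := by
      rcases L.RE' hr' (inv_mem hε) with h5 | h5
      · exact ⟨1, Or.inl rfl, by rw [h5, mul_one]⟩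
      · exact ⟨z, Or.inr rfl, h5⟩
    obtain ⟨w, hw, e5⟩ := e4
    have hwE : w ∈ E := by rcases hw with rfl | rfl; exacts [one_mem _, L.zE]
    have e6 : ε * (p * e * p⁻¹) * (ε⁻¹ * w) = p * e * p⁻¹ * w := by
      rw [L.Eab hε hpe]; group
    rw [e5, e6] at e1
    -- `p e p⁻¹ w = β(b₁) e`
    have e7 : p * e * p⁻¹ * w = (y * b₁ * y⁻¹ * b₁⁻¹) * e := by rw [← e1, e2]
    have hww : w * w = 1 := by rcases hw with rfl | rfl; exacts [mul_one _, L.zz]
    have e8 : p * e * p⁻¹ * e⁻¹ = (y * b₁ * y⁻¹ * b₁⁻¹) * w := by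
      calc p * e * p⁻¹ * e⁻¹ = (p * e * p⁻¹ * w) * w * e⁻¹ := by rw [mul_assoc (p * e * p⁻¹), hww, mul_one]
        _ = (y * b₁ * y⁻¹ * b₁⁻¹) * (e * w) * e⁻¹ := by rw [e7]; group
        _ = _ := by rw [L.Eab he hwE]; group
    rw [e8]
    rcases h.comm_z H L hE hb₁ with h6 | h6 <;> rw [h6] <;> rcases hw with rfl | rfl
    · left; rw [mul_one]
    · right; rw [one_mul]
    · right; rw [mul_one]
    · left; exact L.zz)
  -- `m = b⁻¹ y`
  have hbP := L.BP₀ hb
  have hbK := L.BK hb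
  have hm : YY t z (b⁻¹ * y) := h.mul_left (H.comm _ (inv_mem hbK)) (L.Pz _ (inv_mem hbP))
  have hmE : ∀ e ∈ E, b⁻¹ * y * e = e * (b⁻¹ * y) := by
    intro w hw
    calc b⁻¹ * y * w = b⁻¹ * (y * w) := by group
      _ = (b⁻¹ * w) * y := by rw [hE w hw]; group
      _ = w * (b⁻¹ * y) := by rw [L.cB (inv_mem hb) hw]; group
  set m := b⁻¹ * y with hm'
  let Q : Subgroup G :=
    { carrier := {r | r ∈ R ∧ (m * r * m⁻¹ * r⁻¹ = 1 ∨ m * r * m⁻¹ * r⁻¹ = z)}
      one_mem' := ⟨one_mem _, Or.inl (by group)⟩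
      mul_mem' := by
        rintro r s ⟨hr, h1⟩ ⟨hs, h2⟩
        refine ⟨mul_mem hr hs, ?_⟩
        have e1 : m * (r * s) * m⁻¹ * (r * s)⁻¹ = (m * r * m⁻¹ * r⁻¹) * (r * (m * s * m⁻¹ * s⁻¹) * r⁻¹) := by group
        rw [e1]
        have e2 : r * z * r⁻¹ = z := by rw [L.Rz hr]; group
        rcases h1 with h1 | h1 <;> rcases h2 with h2 | h2 <;> rw [h1, h2]
        · left; group
        · right; rw [e2, one_mul]
        · right; group
        · left; rw [e2, L.zz]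
      inv_mem' := by
        rintro r ⟨hr, h1⟩
        refine ⟨inv_mem hr, ?_⟩
        have e1 : m * r⁻¹ * m⁻¹ * r⁻¹⁻¹ = r⁻¹ * (m * r * m⁻¹ * r⁻¹)⁻¹ * r := by group
        rw [e1]
        rcases h1 with h1 | h1 <;> rw [h1]
        · left; group
        · right
          rw [L.zinv, mul_assoc, ← L.Rz hr]; group }
  have hBQ : B ≤ Q := fun c hc => ⟨L.BR hc, hm.comm_z H L hmE hc⟩
  have hrQ : r₁ ∈ Q := by
    refine ⟨hr₁, ?_⟩
    have hc : b * r₁ * b⁻¹ * r₁⁻¹ ∈ E := by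
      rcases hbe with h1 | h1 <;> rw [h1]
      exacts [he, mul_mem he L.zE]
    have hc2 : b⁻¹ * r₁ * b * r₁⁻¹ = b * r₁ * b⁻¹ * r₁⁻¹ := by
      have e1 : b⁻¹ * r₁ * b * r₁⁻¹ = b⁻¹ * (b * r₁ * b⁻¹ * r₁⁻¹)⁻¹ * b := by group
      rw [e1, L.Einv hc, mul_assoc, ← L.cB hb hc]; group
    have e1 : m * r₁ * m⁻¹ * r₁⁻¹ = e * (b⁻¹ * r₁ * b * r₁⁻¹) := by
      calc m * r₁ * m⁻¹ * r₁⁻¹ = b⁻¹ * e * (r₁ * b * r₁⁻¹) := by rw [hm', he']; group
        _ = e * b⁻¹ * (r₁ * b * r₁⁻¹) := by rw [L.cB (inv_mem hb) he]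
        _ = _ := by group
    rw [e1, hc2]
    rcases hbe with h1 | h1 <;> rw [h1]
    · left; exact L.EE e he
    · right; rw [← mul_assoc, L.EE e he, one_mul]
  have hPQ : ∀ p ∈ P₀, ∀ q ∈ Q, p * q * p⁻¹ ∈ Q := by
    rintro p hp r ⟨hr, h1⟩
    have hr' : p * r * p⁻¹ ∈ R := L.Rn p hp r hr
    refine ⟨hr', ?_⟩
    set δ := m * p * m⁻¹ * p⁻¹ with hδ'
    have hδ : δ ∈ E := hm.comm_E H L hmE hp
    have e1 : m * (p * r * p⁻¹) * m⁻¹ * (p * r * p⁻¹)⁻¹ =
        δ * (p * (m * r * m⁻¹ * r⁻¹) * p⁻¹) * ((p * r * p⁻¹) * δ⁻¹ * (p * r * p⁻¹)⁻¹) := by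
      rw [hδ']; group
    have e2 : p * (m * r * m⁻¹ * r⁻¹) * p⁻¹ = m * r * m⁻¹ * r⁻¹ := by
      rcases h1 with h1 | h1 <;> rw [h1]
      · group
      · rw [L.Pz p hp]; group
    rw [e1, e2]
    rcases h1 with h1 | h1 <;> rw [h1] <;> rcases L.RE' hr' (inv_mem hδ) with h5 | h5 <;> rw [h5]
    · left; group
    · right; group
    · right; rw [L.Eab hδ L.zE]; group
    · left
      rw [L.Eab hδ L.zE]
      calc z * δ * (δ⁻¹ * z) = z * z := by group
        _ = 1 := L.zz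
  have hRQ := hgen Q hBQ hrQ hPQ
  refine ⟨m, ⟨hm, hmE, ?_⟩⟩
  intro r hr
  rcases (hRQ hr).2 with h1 | h1
  · exact Or.inl (mul_inv_eq_one.1 h1)
  · right
    rw [mul_inv_eq_iff_eq_mul] at h1
    rw [h1, L.Rz hr]

end Cfsg.Agent.OddHalf.D8.RuFam

end

-- merged: Cfsg.Agent.OddHalf.D8.RuFam.Plane
section

/-!
# ODD half, D8, K = Ru: existence of the family, steps (2) and (3) (helper936)

`exists_rho`: `m` can be chosen commuting with `ρ`; then `m` commutes with `e₀`, `[m, e₁] ∈ {1, u}`, and in the case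
`[m, e₁] = 1` the element `m` centralises `B`.
-/

set_option autoImplicit false

namespace Cfsg.Agent.OddHalf.D8.RuFam

open Subgroup
open scoped commutatorElement

variable {G : Type*} [Group G] {t z : G} {K P₀ R B E : Subgroup G}

namespace MM

variable {m : G}

theorem comm_E (h : MM t z R E m) (H : Pos t K) (L : Loc K z P₀ R B E) {p : G} (hp : p ∈ P₀) :
    m * p * m⁻¹ * p⁻¹ ∈ E := h.toYY.comm_E H L h.mE hp

theorem inv_E (h : MM t z R E m) {e : G} (he : e ∈ E) : m⁻¹ * e = e * m⁻¹ := by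
  calc m⁻¹ * e = m⁻¹ * (e * m) * m⁻¹ := by group
    _ = e * m⁻¹ := by rw [← h.mE e he]; group

/-- `m e` for `e ∈ E` -/
theorem mul_E (h : MM t z R E m) (H : Pos t K) (L : Loc K z P₀ R B E) {e : G} (he : e ∈ E) :
    MM t z R E (m * e) where
  toYY := h.toYY.mul_right (H.comm e (L.EK he)) (L.Pz e (L.EP he))
  mE := by
    intro x hx
    calc m * e * x = m * (e * x) := by group
      _ = m * x * e := by rw [L.Eab he hx]; group
      _ = x * (m * e) := by rw [h.mE x hx]; group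
  mR := by
    intro r hr
    have h1 : m * e * r * (m * e)⁻¹ = m * (e * r * e⁻¹) * m⁻¹ := by group
    have h2 : e * r * e⁻¹ = r ∨ e * r * e⁻¹ = r * z := by
      rcases L.RE r hr e he with h3 | h3
      · left
        have h4 : r * e * r⁻¹ = e := mul_inv_eq_one.1 h3
        have h5 : r * e = e * r := mul_inv_eq_iff_eq_mul.1 h4
        rw [← h5]; group
      · right
        have h4 : r * e * r⁻¹ = z * e := mul_inv_eq_iff_eq_mul.1 h3
        have h5 : r * e = z * e * r := mul_inv_eq_iff_eq_mul.1 h4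
        calc e * r * e⁻¹ = z * z * e * r * e⁻¹ := by rw [L.zz, one_mul]
          _ = z * (z * e * r) * e⁻¹ := by group
          _ = z * r := by rw [← h5]; group
          _ = r * z := (L.Rz hr).symm
    rw [h1]
    have hz : m * z * m⁻¹ = z := by rw [h.yz]; group
    rcases h2 with h2 | h2 <;> rw [h2]
    · exact h.mR r hr
    · have h3 : m * (r * z) * m⁻¹ = (m * r * m⁻¹) * (m * z * m⁻¹) := by group
      rw [h3, hz]
      rcases h.mR r hr with h4 | h4 <;> rw [h4]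
      · exact Or.inr rfl
      · left
        rw [mul_assoc, L.zz, mul_one]

/-- conjugation by an element of `C_K(z)` -/
theorem conj (h : MM t z R E m) (H : Pos t K) (L : Loc K z P₀ R B E) {g : G} (hg : g ∈ K) (gz : g * z = z * g) :
    MM t z R E (g * m * g⁻¹) where
  yt := by
    have h1 : g⁻¹ * t = t * g⁻¹ := H.comm _ (inv_mem hg)
    calc g * m * g⁻¹ * t * (g * m * g⁻¹)⁻¹ = g * m * (g⁻¹ * t) * g * m⁻¹ * g⁻¹ := by group
      _ = g * (m * t * m⁻¹) * g⁻¹ := by rw [h1]; group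
      _ = (g * t) * z * g⁻¹ := by rw [h.yt]; group
      _ = t * (g * z) * g⁻¹ := by rw [H.comm g hg]; group
      _ = t * z := by rw [gz]; group
  yz := by
    have h1 : g * z * g⁻¹ = z := by rw [gz]; group
    have := conj_comm (x := g) h.yz
    rwa [h1] at this
  mE := by
    intro e he
    have h1 : g⁻¹ * e * g ∈ E := by
      have hg' : g⁻¹ * z = z * g⁻¹ := by
        calc g⁻¹ * z = g⁻¹ * (z * g) * g⁻¹ := by group
          _ = z * g⁻¹ := by rw [← gz]; group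
      have := L.cen_E (inv_mem hg) hg' e he
      rwa [inv_inv] at this
    calc g * m * g⁻¹ * e = g * (m * (g⁻¹ * e * g)) * g⁻¹ := by group
      _ = e * (g * m * g⁻¹) := by rw [h.mE _ h1]; group
  mR := by
    intro r hr
    have h1 : g⁻¹ * r * g ∈ R := by
      have hg' : g⁻¹ * z = z * g⁻¹ := by
        calc g⁻¹ * z = g⁻¹ * (z * g) * g⁻¹ := by group
          _ = z * g⁻¹ := by rw [← gz]; group
      have := L.cen_R (inv_mem hg) hg' r hr
      rwa [inv_inv] at this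
    have e1 : g * m * g⁻¹ * r * (g * m * g⁻¹)⁻¹ = g * (m * (g⁻¹ * r * g) * m⁻¹) * g⁻¹ := by group
    rw [e1]
    rcases h.mR _ h1 with h2 | h2 <;> rw [h2]
    · left; group
    · right
      calc g * (g⁻¹ * r * g * z) * g⁻¹ = r * (g * z) * g⁻¹ := by group
        _ = r * z := by rw [gz]; group

/-- two elements with (M) -/
theorem diff {m' : G} (h : MM t z R E m) (h' : MM t z R E m') (H : Pos t K) (L : Loc K z P₀ R B E) :
    ∃ c e : G, (c = 1 ∨ c = t) ∧ e ∈ E ∧ m' = m * c * e := by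
  set g := m⁻¹ * m' with hg
  have gt : g * t = t * g := by
    have h1 : m⁻¹ * (t * z) * m = t := by
      rw [← h.yt]; group
    have h2 : g * t * g⁻¹ = t := by
      calc g * t * g⁻¹ = m⁻¹ * (m' * t * m'⁻¹) * m := by rw [hg]; group
        _ = t := by rw [h'.yt, h1]
    calc g * t = g * t * g⁻¹ * g := by group
      _ = t * g := by rw [h2]
  have gE : ∀ e ∈ E, g * e = e * g := by
    intro e he
    calc g * e = m⁻¹ * (m' * e) := by rw [hg]; group
      _ = (m⁻¹ * e) * m' := by rw [h'.mE e he]; group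
      _ = e * g := by rw [h.inv_E he, hg]; group
  have gR : ∀ r ∈ R, g * r * g⁻¹ = r ∨ g * r * g⁻¹ = r * z := by
    intro r hr
    have mz : m⁻¹ * z * m = z := by
      have := h.yz
      calc m⁻¹ * z * m = m⁻¹ * (z * m) := by group
        _ = z := by rw [← this]; group
    have hinv : m⁻¹ * r * m = r ∨ m⁻¹ * r * m = r * z := by
      rcases h.mR r hr with h1 | h1
      · left
        calc m⁻¹ * r * m = m⁻¹ * (m * r * m⁻¹) * m := by rw [h1]
          _ = r := by group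
      · right
        have h2 : r = m⁻¹ * r * m * z := by
          calc r = m⁻¹ * (m * r * m⁻¹) * m := by group
            _ = m⁻¹ * r * m * (m⁻¹ * z * m) := by rw [h1]; group
            _ = _ := by rw [mz]
        calc m⁻¹ * r * m = m⁻¹ * r * m * z * z := by rw [mul_assoc _ z z, L.zz, mul_one]
          _ = r * z := by rw [← h2]
    have e1 : g * r * g⁻¹ = m⁻¹ * (m' * r * m'⁻¹) * m := by rw [hg]; group
    rw [e1]
    rcases h'.mR r hr with h1 | h1 <;> rw [h1]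
    · exact hinv
    · have e2 : m⁻¹ * (r * z) * m = (m⁻¹ * r * m) * (m⁻¹ * z * m) := by group
      rw [e2, mz]
      rcases hinv with h3 | h3 <;> rw [h3]
      · exact Or.inr rfl
      · left; rw [mul_assoc, L.zz, mul_one]
  have fin : ∀ k ∈ K, (∀ e ∈ E, k * e = e * k) → (∀ r ∈ R, k * r * k⁻¹ = r ∨ k * r * k⁻¹ = r * z) → k ∈ E := by
    intro k hk h1 h2
    apply L.BE k ((L.cenE k hk).2 h1)
    intro r hr
    rcases h2 r hr with h3 | h3 <;> rw [h3]
    · left; group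
    · right; rw [L.Rz hr]; group
  rcases H.cen g gt with h1 | h1
  · exact ⟨1, g, Or.inl rfl, fin g h1 gE gR, by rw [hg]; group⟩
  · refine ⟨t, t * g, Or.inr rfl, fin _ h1 ?_ ?_, ?_⟩
    · intro e he
      calc t * g * e = t * (g * e) := by group
        _ = (t * e) * g := by rw [gE e he]; group
        _ = e * (t * g) := by rw [← H.comm e (L.EK he)]; group
    · intro r hr
      have e1 : t * g * r * (t * g)⁻¹ = t * (g * r * g⁻¹) * t⁻¹ := by group
      rw [e1]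
      have hrt := H.comm r (L.RK hr)
      rcases gR r hr with h3 | h3 <;> rw [h3]
      · left; rw [← hrt]; group
      · right
        calc t * (r * z) * t⁻¹ = (t * r) * z * t⁻¹ := by group
          _ = r * (t * z) * t⁻¹ := by rw [← hrt]; group
          _ = r * z := by rw [← H.tz L]; group
    · calc m' = m * g := by rw [hg]; group
        _ = m * (t * t) * g := by rw [H.tt, mul_one]
        _ = m * t * (t * g) := by group

/-- `[m, r] ∈ ⟨z⟩` for `r ∈ R`, in the form `m r m⁻¹ = r w` -/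
theorem exists_w (h : MM t z R E m) {r : G} (hr : r ∈ R) : ∃ w : G, (w = 1 ∨ w = z) ∧ m * r * m⁻¹ = r * w := by
  rcases h.mR r hr with h1 | h1
  · exact ⟨1, Or.inl rfl, by rw [h1, mul_one]⟩
  · exact ⟨z, Or.inr rfl, h1⟩

end MM

/-- **`m` can be chosen commuting with `ρ`** -/
theorem exists_rho (H : Pos t K) (L : Loc K z P₀ R B E) {m ρ : G} (h : MM t z R E m) (hρ : ρ ∈ P₀)
    (ρ3 : ρ * ρ * ρ = 1) : ∃ m, MM t z R E m ∧ m * ρ = ρ * m := by
  set x := m⁻¹ * ρ * m * ρ⁻¹ with hx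
  have hi : YY t z m⁻¹ := h.toYY.inv L.zz
  have hxE : x ∈ E := by
    have h1 := hi.comm_E H L (fun e he => h.inv_E he) hρ
    rwa [inv_inv] at h1
  have nE : ∀ e ∈ E, ρ * e * ρ⁻¹ ∈ E := L.cen_E (L.PK hρ) (L.Pz ρ hρ)
  -- `x x^ρ x^{ρρ} = 1`
  have hN : x * (ρ * x * ρ⁻¹) * (ρ * (ρ * x * ρ⁻¹) * ρ⁻¹) = 1 := by
    have e1 : x * (ρ * x * ρ⁻¹) * (ρ * (ρ * x * ρ⁻¹) * ρ⁻¹) = m⁻¹ * (ρ * ρ * ρ) * m * (ρ * ρ * ρ)⁻¹ := by
      rw [hx]; group
    rw [e1, ρ3]; group
  have x1 : ρ * x * ρ⁻¹ ∈ E := nE x hxE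
  have x2 : ρ * (ρ * x * ρ⁻¹) * ρ⁻¹ ∈ E := nE _ x1
  refine ⟨m * (ρ * x * ρ⁻¹), h.mul_E H L x1, ?_⟩
  have h2 : x * (ρ * (ρ * x * ρ⁻¹) * ρ⁻¹) = ρ * x * ρ⁻¹ := by
    have e2 : x * (ρ * x * ρ⁻¹) * (ρ * (ρ * x * ρ⁻¹) * ρ⁻¹) =
        (ρ * x * ρ⁻¹) * (x * (ρ * (ρ * x * ρ⁻¹) * ρ⁻¹)) := by
      rw [L.Eab hxE x1]; group
    rw [e2] at hN
    have := (inv_eq_of_mul_eq_one_right hN).symm
    rw [this, L.Einv x1]
  have h3 : ρ * (m * (ρ * x * ρ⁻¹)) * ρ⁻¹ = m * (ρ * x * ρ⁻¹) := by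
    calc ρ * (m * (ρ * x * ρ⁻¹)) * ρ⁻¹ = m * (x * (ρ * (ρ * x * ρ⁻¹) * ρ⁻¹)) := by rw [hx]; group
      _ = m * (ρ * x * ρ⁻¹) := by rw [h2]
  calc m * (ρ * x * ρ⁻¹) * ρ = ρ * (m * (ρ * x * ρ⁻¹)) * ρ⁻¹ * ρ := by rw [h3]
    _ = ρ * (m * (ρ * x * ρ⁻¹)) := by group

/-- the closure of three commuting involutions -/
theorem mem_closure_three {a b c x : G} (ha : a * a = 1) (hb : b * b = 1) (hc : c * c = 1) (hab : a * b = b * a)
    (hac : a * c = c * a) (hbc : b * c = c * b) (hx : x ∈ closure ({a, b, c} : Set G)) :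
    ∃ p q r : G, (p = 1 ∨ p = a) ∧ (q = 1 ∨ q = b) ∧ (r = 1 ∨ r = c) ∧ x = p * q * r := by
  induction hx using closure_induction with
  | mem y hy =>
    rcases hy with rfl | rfl | rfl
    · exact ⟨y, 1, 1, Or.inr rfl, Or.inl rfl, Or.inl rfl, by group⟩
    · exact ⟨1, y, 1, Or.inl rfl, Or.inr rfl, Or.inl rfl, by group⟩
    · exact ⟨1, 1, y, Or.inl rfl, Or.inl rfl, Or.inr rfl, by group⟩
  | one => exact ⟨1, 1, 1, Or.inl rfl, Or.inl rfl, Or.inl rfl, by group⟩
  | mul x y _ _ h1 h2 =>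
    obtain ⟨p, q, r, hp, hq, hr, rfl⟩ := h1
    obtain ⟨p', q', r', hp', hq', hr', rfl⟩ := h2
    have k1 : ∀ {a p p' : G}, a * a = 1 → (p = 1 ∨ p = a) → (p' = 1 ∨ p' = a) → (p * p' = 1 ∨ p * p' = a) := by
      rintro a p p' ha (rfl | rfl) (rfl | rfl)
      · left; group
      · right; group
      · right; group
      · left; exact ha
    have k2 : ∀ {a b p q : G}, a * b = b * a → (p = 1 ∨ p = a) → (q = 1 ∨ q = b) → p * q = q * p := by
      rintro a b p q hab (rfl | rfl) (rfl | rfl)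
      · rfl
      · group
      · group
      · exact hab
    refine ⟨p * p', q * q', r * r', k1 ha hp hp', k1 hb hq hq', k1 hc hr hr', ?_⟩
    have c1 : r * p' = p' * r := (k2 hac hp' hr).symm
    have c2 : r * q' = q' * r := (k2 hbc hq' hr).symm
    have c3 : q * p' = p' * q := (k2 hab hp' hq).symm
    calc p * q * r * (p' * q' * r') = p * q * (r * p') * q' * r' := by group
      _ = p * (q * p') * (r * q') * r' := by rw [c1]; group
      _ = p * p' * q * q' * r * r' := by rw [c3, c2]; group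
      _ = _ := by group
  | inv x _ h1 =>
    obtain ⟨p, q, r, hp, hq, hr, rfl⟩ := h1
    have k2 : ∀ {a b p q : G}, a * b = b * a → (p = 1 ∨ p = a) → (q = 1 ∨ q = b) → p * q = q * p := by
      rintro a b p q hab (rfl | rfl) (rfl | rfl)
      · rfl
      · group
      · group
      · exact hab
    have k3 : ∀ {a p : G}, a * a = 1 → (p = 1 ∨ p = a) → p⁻¹ = p := by
      rintro a p ha (rfl | rfl)
      · exact inv_one
      · exact inv_eq_of_mul_eq_one_right ha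
    refine ⟨p, q, r, hp, hq, hr, ?_⟩
    rw [mul_inv_rev, mul_inv_rev, k3 ha hp, k3 hb hq, k3 hc hr]
    have c1 : r * p = p * r := (k2 hac hp hr).symm
    have c2 : r * q = q * r := (k2 hbc hq hr).symm
    have c3 : q * p = p * q := (k2 hab hp hq).symm
    calc r * (q * p) = r * (p * q) := by rw [c3]
      _ = (r * p) * q := by group
      _ = p * (r * q) := by rw [c1]; group
      _ = p * q * r := by rw [c2]; group

namespace Plane

variable {k u ρ g j e₀ e₁ g₂ eb j₂ x₂ h f : G}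

theorem u1 (L : Loc K z P₀ R B E) (Q : Plane K z P₀ R B E k u ρ g j e₀ e₁ g₂ eb j₂ x₂ h f) : u ≠ 1 := by
  intro e
  apply L.z1
  calc z = k⁻¹ * (k * z * k⁻¹) * k := by group
    _ = 1 := by rw [Q.ku, e]; group

theorem uEu' (L : Loc K z P₀ R B E) (Q : Plane K z P₀ R B E k u ρ g j e₀ e₁ g₂ eb j₂ x₂ h f) :
    k⁻¹ * u * k ∈ E := by
  have e : k⁻¹ * u * k = z := by rw [← Q.ku]; group
  rw [e]
  exact L.zE

theorem ρE' (L : Loc K z P₀ R B E) (Q : Plane K z P₀ R B E k u ρ g j e₀ e₁ g₂ eb j₂ x₂ h f) {e : G} (he : e ∈ E) :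
    ρ * e * ρ⁻¹ ∈ E := L.cen_E (L.PK Q.ρP) (L.Pz ρ Q.ρP) e he

theorem u'E (L : Loc K z P₀ R B E) (Q : Plane K z P₀ R B E k u ρ g j e₀ e₁ g₂ eb j₂ x₂ h f) :
    ρ * u * ρ⁻¹ ∈ E := Q.ρE' L Q.uE

/-- `E^k` is abelian -/
theorem Eu_comm (L : Loc K z P₀ R B E) {x y : G} (hx : k⁻¹ * x * k ∈ E) (hy : k⁻¹ * y * k ∈ E) : x * y = y * x := by
  have := conj_comm (x := k) (L.Eab hx hy)
  have e1 : k * (k⁻¹ * x * k) * k⁻¹ = x := by group
  have e2 : k * (k⁻¹ * y * k) * k⁻¹ = y := by group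
  rwa [e1, e2] at this

/-- `Π` -/
abbrev Pi (z u ρ : G) : Subgroup G := closure ({z, u, ρ * u * ρ⁻¹} : Set G)

theorem Pi_E (L : Loc K z P₀ R B E) (Q : Plane K z P₀ R B E k u ρ g j e₀ e₁ g₂ eb j₂ x₂ h f) : Pi z u ρ ≤ E := by
  rw [closure_le]
  rintro x (rfl | rfl | rfl)
  exacts [L.zE, Q.uE, Q.u'E L]

theorem Pi_Eu (L : Loc K z P₀ R B E) (Q : Plane K z P₀ R B E k u ρ g j e₀ e₁ g₂ eb j₂ x₂ h f) {x : G}
    (hx : x ∈ Pi z u ρ) : k⁻¹ * x * k ∈ E := by
  have h1 : Pi z u ρ ≤ E.comap (MulAut.conj k⁻¹).toMonoidHom := by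
    rw [closure_le]
    rintro x (rfl | rfl | rfl)
    · show k⁻¹ * x * k⁻¹⁻¹ ∈ E
      rw [inv_inv]; exact Q.zEu
    · show k⁻¹ * x * k⁻¹⁻¹ ∈ E
      rw [inv_inv]; exact Q.uEu' L
    · show k⁻¹ * (ρ * u * ρ⁻¹) * k⁻¹⁻¹ ∈ E
      rw [inv_inv]; exact Q.uEu
  have h2 : k⁻¹ * x * k⁻¹⁻¹ ∈ E := h1 hx
  rwa [inv_inv] at h2

/-- `u^{ρρ} = u u^ρ` -/
theorem u'' (L : Loc K z P₀ R B E) (Q : Plane K z P₀ R B E k u ρ g j e₀ e₁ g₂ eb j₂ x₂ h f) :
    ρ * ρ * u * ρ⁻¹ * ρ⁻¹ = u * (ρ * u * ρ⁻¹) := by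
  have h1 := (inv_eq_of_mul_eq_one_right Q.ρu).symm
  rw [h1, L.Einv (mul_mem Q.uE (Q.u'E L))]

theorem Pi_ρ (L : Loc K z P₀ R B E) (Q : Plane K z P₀ R B E k u ρ g j e₀ e₁ g₂ eb j₂ x₂ h f) {x : G}
    (hx : x ∈ Pi z u ρ) : ρ * x * ρ⁻¹ ∈ Pi z u ρ := by
  have hz : z ∈ Pi z u ρ := subset_closure (by simp)
  have hu : u ∈ Pi z u ρ := subset_closure (by simp)
  have hu' : ρ * u * ρ⁻¹ ∈ Pi z u ρ := subset_closure (by simp)
  have h1 : Pi z u ρ ≤ (Pi z u ρ).comap (MulAut.conj ρ).toMonoidHom := by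
    rw [closure_le]
    rintro x (rfl | rfl | rfl)
    · show ρ * x * ρ⁻¹ ∈ Pi x u ρ
      rw [L.Pz ρ Q.ρP]
      have e : x * ρ * ρ⁻¹ = x := by group
      rw [e]; exact hz
    · exact hu'
    · show ρ * (ρ * u * ρ⁻¹) * ρ⁻¹ ∈ Pi z u ρ
      have e : ρ * (ρ * u * ρ⁻¹) * ρ⁻¹ = ρ * ρ * u * ρ⁻¹ * ρ⁻¹ := by group
      rw [e, Q.u'' L]
      exact mul_mem hu hu'
  exact h1 hx

/-- the elements of `Π` -/
theorem Pi_cases (L : Loc K z P₀ R B E) (Q : Plane K z P₀ R B E k u ρ g j e₀ e₁ g₂ eb j₂ x₂ h f) {x : G}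
    (hx : x ∈ Pi z u ρ) : ∃ p q r : G, (p = 1 ∨ p = z) ∧ (q = 1 ∨ q = u) ∧ (r = 1 ∨ r = ρ * u * ρ⁻¹) ∧
      x = p * q * r :=
  mem_closure_three L.zz (L.EE u Q.uE) (L.EE _ (Q.u'E L)) (L.Eab L.zE Q.uE) (L.Eab L.zE (Q.u'E L))
    (L.Eab Q.uE (Q.u'E L)) hx

/-- an element of `Π` fixed by `g` and of norm 1 is 1 or `u` -/
theorem Pi_fix (L : Loc K z P₀ R B E) (Q : Plane K z P₀ R B E k u ρ g j e₀ e₁ g₂ eb j₂ x₂ h f) {x : G}
    (hx : x ∈ Pi z u ρ) (hg : g * x * g⁻¹ = x) (hN : x * (ρ * x * ρ⁻¹) * (ρ * ρ * x * ρ⁻¹ * ρ⁻¹) = 1) :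
    x = 1 ∨ x = u := by
  obtain ⟨p, q, r, hp, hq, hr, rfl⟩ := Q.Pi_cases L hx
  have hu1 := Q.u1 L
  have gu' : g * (ρ * u * ρ⁻¹) * g⁻¹ = u * (ρ * u * ρ⁻¹) := by
    have h1 : g * u * g⁻¹ = u := by rw [Q.gu]; group
    have hρi : ρ⁻¹ = ρ * ρ := by
      rw [inv_eq_iff_mul_eq_one, ← mul_assoc]; exact Q.ρ3
    have h2 : g * ρ⁻¹ * g⁻¹ = ρ := by
      have : g * ρ⁻¹ * g⁻¹ = (g * ρ * g⁻¹)⁻¹ := by group
      rw [this, Q.gρ, inv_inv]
    calc g * (ρ * u * ρ⁻¹) * g⁻¹ = (g * ρ * g⁻¹) * (g * u * g⁻¹) * (g * ρ⁻¹ * g⁻¹) := by group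
      _ = ρ⁻¹ * u * ρ := by rw [Q.gρ, h1, h2]
      _ = ρ * ρ * u * ρ⁻¹ * ρ⁻¹ := by
          have h3 : ρ = ρ⁻¹ * ρ⁻¹ := by
            have := congrArg (·⁻¹) hρi
            simp only [inv_inv, mul_inv_rev] at this
            exact this
          calc ρ⁻¹ * u * ρ = (ρ * ρ) * u * (ρ⁻¹ * ρ⁻¹) := by rw [← hρi, ← h3]
            _ = _ := by group
      _ = _ := Q.u'' L
  have hpE : p ∈ E := by rcases hp with rfl | rfl; exacts [one_mem _, L.zE]
  have hqE : q ∈ E := by rcases hq with rfl | rfl; exacts [one_mem _, Q.uE]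
  have gp : g * p * g⁻¹ = p := by
    rcases hp with rfl | rfl
    · group
    · rw [Q.gz]; group
  have gq : g * q * g⁻¹ = q := by
    rcases hq with rfl | rfl
    · group
    · rw [Q.gu]; group
  have hr1 : r = 1 := by
    rcases hr with rfl | rfl
    · rfl
    · exfalso
      apply hu1
      have h1 : g * (p * q * (ρ * u * ρ⁻¹)) * g⁻¹ = (g * p * g⁻¹) * (g * q * g⁻¹) * (g * (ρ * u * ρ⁻¹) * g⁻¹) := by
        group
      rw [h1, gp, gq, gu'] at hg
      have h2 : p * q * (u * (ρ * u * ρ⁻¹)) = p * q * (ρ * u * ρ⁻¹) := hg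
      have h3 := mul_left_cancel h2
      have h4 : u * (ρ * u * ρ⁻¹) = 1 * (ρ * u * ρ⁻¹) := by rw [h3, one_mul]
      exact mul_right_cancel h4
  subst hr1
  rw [mul_one] at hN ⊢
  have hp1 : p = 1 := by
    rcases hp with rfl | rfl
    · rfl
    · exfalso
      apply L.z1
      have ρp : ∀ y : G, ρ * (p * y) * ρ⁻¹ = p * (ρ * y * ρ⁻¹) := by
        intro y
        calc ρ * (p * y) * ρ⁻¹ = (ρ * p) * y * ρ⁻¹ := by group
          _ = _ := by rw [L.Pz ρ Q.ρP]; group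
      have ρρp : ∀ y : G, ρ * ρ * (p * y) * ρ⁻¹ * ρ⁻¹ = p * (ρ * ρ * y * ρ⁻¹ * ρ⁻¹) := by
        intro y
        calc ρ * ρ * (p * y) * ρ⁻¹ * ρ⁻¹ = ρ * (ρ * (p * y) * ρ⁻¹) * ρ⁻¹ := by group
          _ = _ := by rw [ρp, ρp]; group
      rw [ρp, ρρp] at hN
      have q1 : ρ * q * ρ⁻¹ ∈ E := Q.ρE' L hqE
      have q2 : ρ * ρ * q * ρ⁻¹ * ρ⁻¹ ∈ E := by
        have := Q.ρE' L q1
        have e : ρ * (ρ * q * ρ⁻¹) * ρ⁻¹ = ρ * ρ * q * ρ⁻¹ * ρ⁻¹ := by group
        rwa [e] at this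
      have hq3 : q * (ρ * q * ρ⁻¹) * (ρ * ρ * q * ρ⁻¹ * ρ⁻¹) = 1 := by
        rcases hq with rfl | rfl
        · group
        · exact Q.ρu
      have e1 : p * q * (p * (ρ * q * ρ⁻¹)) * (p * (ρ * ρ * q * ρ⁻¹ * ρ⁻¹)) =
          p * p * p * (q * (ρ * q * ρ⁻¹) * (ρ * ρ * q * ρ⁻¹ * ρ⁻¹)) := by
        have c1 := L.Eab hpE hqE
        have c2 := L.Eab hpE q1
        set a' := ρ * q * ρ⁻¹
        set b' := ρ * ρ * q * ρ⁻¹ * ρ⁻¹
        calc p * q * (p * a') * (p * b') = p * q * p * (a' * p) * b' := by group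
          _ = p * q * p * (p * a') * b' := by rw [c2]
          _ = p * (q * p) * p * a' * b' := by group
          _ = p * (p * q) * p * a' * b' := by rw [c1]
          _ = p * p * (q * p) * a' * b' := by group
          _ = p * p * (p * q) * a' * b' := by rw [c1]
          _ = _ := by group
      rw [e1, hq3, mul_one, L.zz, one_mul] at hN
      exact hN
  subst hp1
  rw [one_mul]
  exact hq

variable {m : G}

/-- `m^g` acts on `P₀` as `m` -/
theorem act_g (H : Pos t K) (L : Loc K z P₀ R B E) (Q : Plane K z P₀ R B E k u ρ g j e₀ e₁ g₂ eb j₂ x₂ h f)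
    (M : MM t z R E m) (hρ : m * ρ = ρ * m) {x : G} (hx : x ∈ P₀) :
    g * m * g⁻¹ * x * (g * m * g⁻¹)⁻¹ = m * x * m⁻¹ := by
  obtain ⟨c, e, hc, he, hm⟩ := M.diff (M.conj H L Q.gK Q.gz) H L
  have hcx : ∀ y ∈ K, c * y = y * c := by
    intro y hy
    rcases hc with rfl | rfl
    · group
    · exact (H.comm y hy).symm
  have h1 : g * m * g⁻¹ * ρ = ρ * (g * m * g⁻¹) := by
    have h2 := conj_comm (x := g) hρ
    rw [Q.gρ] at h2
    calc g * m * g⁻¹ * ρ = ρ * (ρ⁻¹ * (g * m * g⁻¹)) * ρ := by group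
      _ = ρ * (g * m * g⁻¹ * ρ⁻¹) * ρ := by rw [h2]
      _ = ρ * (g * m * g⁻¹) := by group
  have hρe : ρ * e = e * ρ := by
    have e1 : e = (m * c)⁻¹ * (g * m * g⁻¹) := by rw [hm]; group
    have h3 : m * c * ρ = ρ * (m * c) := by
      calc m * c * ρ = m * (c * ρ) := by group
        _ = (m * ρ) * c := by rw [hcx ρ (L.PK Q.ρP)]; group
        _ = ρ * (m * c) := by rw [hρ]; group
    have h4 : (m * c)⁻¹ * ρ = ρ * (m * c)⁻¹ := by
      calc (m * c)⁻¹ * ρ = (m * c)⁻¹ * (ρ * (m * c)) * (m * c)⁻¹ := by group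
        _ = ρ * (m * c)⁻¹ := by rw [← h3]; group
    rw [e1]
    calc ρ * ((m * c)⁻¹ * (g * m * g⁻¹)) = (ρ * (m * c)⁻¹) * (g * m * g⁻¹) := by group
      _ = (m * c)⁻¹ * (ρ * (g * m * g⁻¹)) := by rw [← h4]; group
      _ = (m * c)⁻¹ * (g * m * g⁻¹) * ρ := by rw [← h1]; group
  have hex : e * x = x * e := by
    rcases Q.ρE e he hρe with rfl | rfl
    · group
    · exact (L.Pz x hx).symm
  rw [hm]
  calc m * c * e * x * (m * c * e)⁻¹ = m * c * (e * x) * e⁻¹ * c⁻¹ * m⁻¹ := by group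
    _ = m * (c * x) * c⁻¹ * m⁻¹ := by rw [hex]; group
    _ = m * x * m⁻¹ := by rw [hcx x (L.PK hx)]; group

/-- `w ∈ {1, z}` is central in `P₀` -/
theorem _root_.Cfsg.Agent.OddHalf.D8.RuFam.Loc.wc (L : Loc K z P₀ R B E) {w x : G} (hw : w = 1 ∨ w = z)
    (hx : x ∈ P₀) : w * x = x * w := by
  rcases hw with rfl | rfl
  · group
  · exact (L.Pz x hx).symm

theorem _root_.Cfsg.Agent.OddHalf.D8.RuFam.Loc.ww (L : Loc K z P₀ R B E) {w : G} (hw : w = 1 ∨ w = z) :
    w * w = 1 := by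
  rcases hw with rfl | rfl
  · exact mul_one _
  · exact L.zz

/-- conjugation by `ρ` commutes with conjugation by `m` -/
theorem conj_ρ (hρ : m * ρ = ρ * m) (x : G) : m * (ρ * x * ρ⁻¹) * m⁻¹ = ρ * (m * x * m⁻¹) * ρ⁻¹ := by
  calc m * (ρ * x * ρ⁻¹) * m⁻¹ = (m * ρ) * x * (m * ρ)⁻¹ := by group
    _ = (ρ * m) * x * (ρ * m)⁻¹ := by rw [hρ]
    _ = _ := by group

/-- **`[m, e₁] ∈ {1, u}`** -/
theorem zeta (H : Pos t K) (L : Loc K z P₀ R B E) (Q : Plane K z P₀ R B E k u ρ g j e₀ e₁ g₂ eb j₂ x₂ h f)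
    (M : MM t z R E m) (hρ : m * ρ = ρ * m) : ∃ ζ : G, (ζ = 1 ∨ ζ = u) ∧ m * e₁ * m⁻¹ = ζ * e₁ := by
  set ζ := m * e₁ * m⁻¹ * e₁⁻¹ with hζ
  have hζE : ζ ∈ E := M.comm_E H L Q.e₁P
  have hme : m * e₁ * m⁻¹ = ζ * e₁ := by rw [hζ]; group
  refine ⟨ζ, ?_, hme⟩
  have hζP : ζ ∈ P₀ := L.EP hζE
  -- `ζ ∈ Π`
  have hPi : ζ ∈ Pi z u ρ := by
    refine Q.test ζ hζE fun c hc hs => ?_
    obtain ⟨w, hw, hcw⟩ := M.exists_w hc
    set s := e₁ * c * e₁⁻¹ * c⁻¹ with hs'
    have h1 : m * s * m⁻¹ = s := by rw [M.mE s hs]; group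
    have h2 : m * s * m⁻¹ = (m * e₁ * m⁻¹) * (m * c * m⁻¹) * (m * e₁ * m⁻¹)⁻¹ * (m * c * m⁻¹)⁻¹ := by
      rw [hs']; group
    rw [hme, hcw] at h2
    have hwx : w * (e₁⁻¹ * ζ⁻¹) = (e₁⁻¹ * ζ⁻¹) * w := L.wc hw (mul_mem (inv_mem Q.e₁P) (inv_mem hζP))
    have h3 : ζ * e₁ * (c * w) * (ζ * e₁)⁻¹ * (c * w)⁻¹ = s * (ζ * c * ζ⁻¹ * c⁻¹) := by
      calc ζ * e₁ * (c * w) * (ζ * e₁)⁻¹ * (c * w)⁻¹ = ζ * e₁ * c * (w * (e₁⁻¹ * ζ⁻¹)) * w⁻¹ * c⁻¹ := by group
        _ = ζ * (e₁ * c * e₁⁻¹ * c⁻¹) * c * ζ⁻¹ * c⁻¹ := by rw [hwx]; group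
        _ = (ζ * s) * c * ζ⁻¹ * c⁻¹ := by rw [hs']
        _ = s * (ζ * c * ζ⁻¹ * c⁻¹) := by rw [L.Eab hζE hs]; group
    rw [h1, h3] at h2
    have h4 : s * 1 = s * (ζ * c * ζ⁻¹ * c⁻¹) := by rw [mul_one]; exact h2
    have h5 := (mul_left_cancel h4).symm
    rw [← mul_inv_eq_iff_eq_mul]
    exact mul_inv_eq_one.1 h5
  -- `g` fixes `ζ`
  have hg : g * ζ * g⁻¹ = ζ := by
    have h1 : g * e₁ * g⁻¹ ∈ P₀ := L.nor_cen Q.gK Q.gz e₁ Q.e₁P
    set s := g * e₁ * g⁻¹ * e₁⁻¹ with hs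
    have hsE : s ∈ E := Q.ge₁
    have hse : g * e₁ * g⁻¹ = s * e₁ := by rw [hs]; group
    have h2 : g * ζ * g⁻¹ = (g * m * g⁻¹ * (g * e₁ * g⁻¹) * (g * m * g⁻¹)⁻¹) * (g * e₁ * g⁻¹)⁻¹ := by
      rw [hζ]; group
    rw [h2, Q.act_g H L M hρ h1, hse]
    calc m * (s * e₁) * m⁻¹ * (s * e₁)⁻¹ = (m * s) * e₁ * m⁻¹ * e₁⁻¹ * s⁻¹ := by group
      _ = s * ζ * s⁻¹ := by rw [M.mE s hsE, hζ]; group
      _ = ζ := by rw [L.Eab hsE hζE]; group
  -- the norm of `ζ`
  have hN : ζ * (ρ * ζ * ρ⁻¹) * (ρ * ρ * ζ * ρ⁻¹ * ρ⁻¹) = 1 := by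
    have h1 := M.mE _ Q.N₁
    set N := e₁ * (ρ * e₁ * ρ⁻¹) * (ρ * ρ * e₁ * ρ⁻¹ * ρ⁻¹) with hN'
    have h2 : m * N * m⁻¹ = N := by rw [h1]; group
    have hPi1 : ρ * ζ * ρ⁻¹ ∈ Pi z u ρ := Q.Pi_ρ L hPi
    have hPi2 : ρ * (ρ * ζ * ρ⁻¹) * ρ⁻¹ ∈ Pi z u ρ := Q.Pi_ρ L hPi1
    have k1 : m * (ρ * e₁ * ρ⁻¹) * m⁻¹ = (ρ * ζ * ρ⁻¹) * (ρ * e₁ * ρ⁻¹) := by
      rw [conj_ρ hρ, hme]; group
    have k2 : m * (ρ * (ρ * e₁ * ρ⁻¹) * ρ⁻¹) * m⁻¹ = (ρ * (ρ * ζ * ρ⁻¹) * ρ⁻¹) * (ρ * (ρ * e₁ * ρ⁻¹) * ρ⁻¹) := by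
      rw [conj_ρ hρ, k1]; group
    have c1 : e₁ * (ρ * ζ * ρ⁻¹) = (ρ * ζ * ρ⁻¹) * e₁ := Eu_comm L Q.e₁E (Q.Pi_Eu L hPi1)
    have c2 : e₁ * (ρ * (ρ * ζ * ρ⁻¹) * ρ⁻¹) = (ρ * (ρ * ζ * ρ⁻¹) * ρ⁻¹) * e₁ :=
      Eu_comm L Q.e₁E (Q.Pi_Eu L hPi2)
    have c3 := conj_comm (x := ρ) c1
    have h3 : m * N * m⁻¹ = (m * e₁ * m⁻¹) * (m * (ρ * e₁ * ρ⁻¹) * m⁻¹) *
        (m * (ρ * (ρ * e₁ * ρ⁻¹) * ρ⁻¹) * m⁻¹) := by rw [hN']; group
    rw [hme, k1, k2] at h3
    set a₁ := ρ * ζ * ρ⁻¹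
    set a₂ := ρ * a₁ * ρ⁻¹
    set b₁ := ρ * e₁ * ρ⁻¹
    set b₂ := ρ * b₁ * ρ⁻¹
    have h4 : ζ * e₁ * (a₁ * b₁) * (a₂ * b₂) = ζ * a₁ * a₂ * (e₁ * b₁ * b₂) := by
      calc ζ * e₁ * (a₁ * b₁) * (a₂ * b₂) = ζ * (e₁ * a₁) * (b₁ * a₂) * b₂ := by group
        _ = ζ * (a₁ * e₁) * (a₂ * b₁) * b₂ := by rw [c1, c3]
        _ = ζ * a₁ * (e₁ * a₂) * b₁ * b₂ := by group
        _ = ζ * a₁ * (a₂ * e₁) * b₁ * b₂ := by rw [c2]
        _ = _ := by group
    have h5 : e₁ * b₁ * b₂ = N := by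
      show e₁ * b₁ * (ρ * (ρ * e₁ * ρ⁻¹) * ρ⁻¹) = N
      rw [hN']; group
    rw [h4, h5, h2] at h3
    have h6 : 1 * N = ζ * a₁ * a₂ * N := by rw [one_mul]; exact h3
    have h7 := (mul_right_cancel h6).symm
    have h8 : a₂ = ρ * ρ * ζ * ρ⁻¹ * ρ⁻¹ := by
      show ρ * (ρ * ζ * ρ⁻¹) * ρ⁻¹ = _
      group
    rw [← h8]
    exact h7
  exact Q.Pi_fix L hPi hg hN

/-- conjugation of `g j g⁻¹` by `m` -/
theorem conj_gj (H : Pos t K) (L : Loc K z P₀ R B E)
    (Q : Plane K z P₀ R B E k u ρ g j e₀ e₁ g₂ eb j₂ x₂ h f) (M : MM t z R E m) (hρ : m * ρ = ρ * m) {w : G}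
    (hw : w = 1 ∨ w = z) (hj : m * j * m⁻¹ = j * w) : m * (g * j * g⁻¹) * m⁻¹ = g * j * g⁻¹ * w := by
  have h1 : g * j * g⁻¹ ∈ P₀ := L.nor_cen Q.gK Q.gz j (L.BP₀ Q.jB)
  rw [← Q.act_g H L M hρ h1]
  have gw : g * w * g⁻¹ = w := by
    rcases hw with rfl | rfl
    · group
    · rw [Q.gz]; group
  calc g * m * g⁻¹ * (g * j * g⁻¹) * (g * m * g⁻¹)⁻¹ = g * (m * j * m⁻¹) * g⁻¹ := by group
    _ = g * j * g⁻¹ * (g * w * g⁻¹) := by rw [hj]; group
    _ = _ := by rw [gw]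

/-- **`[m, e₀] = 1`** -/
theorem comm_e₀ (H : Pos t K) (L : Loc K z P₀ R B E)
    (Q : Plane K z P₀ R B E k u ρ g j e₀ e₁ g₂ eb j₂ x₂ h f) (M : MM t z R E m) (hρ : m * ρ = ρ * m) :
    m * e₀ * m⁻¹ = e₀ := by
  obtain ⟨w, hw, h0⟩ := M.exists_w Q.e₀R
  obtain ⟨v, hv, hj⟩ := M.exists_w (L.BR Q.jB)
  have hgj := Q.conj_gj H L M hρ hv hj
  have hx := M.mE _ Q.N₀
  set N := e₀ * (ρ * e₀ * ρ⁻¹) * (ρ * ρ * e₀ * ρ⁻¹ * ρ⁻¹) with hN
  set x := N * (j * (g * j * g⁻¹))⁻¹ with hx'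
  have hNx : N = x * (j * (g * j * g⁻¹)) := by rw [hx']; group
  have hgjP : g * j * g⁻¹ ∈ P₀ := L.nor_cen Q.gK Q.gz j (L.BP₀ Q.jB)
  have h1 : m * N * m⁻¹ = N := by
    have e1 : m * N * m⁻¹ = (m * x * m⁻¹) * (m * j * m⁻¹) * (m * (g * j * g⁻¹) * m⁻¹) := by rw [hNx]; group
    have e2 : m * x * m⁻¹ = x := by rw [hx]; group
    rw [e1, e2, hj, hgj]
    calc x * (j * v) * (g * j * g⁻¹ * v) = x * j * (v * (g * j * g⁻¹)) * v := by group
      _ = x * j * (g * j * g⁻¹) * (v * v) := by rw [L.wc hv hgjP]; group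
      _ = N := by rw [L.ww hv, hNx]; group
  have hρw : ρ * w * ρ⁻¹ = w := by
    rw [← L.wc hw Q.ρP]; group
  have k1 : m * (ρ * e₀ * ρ⁻¹) * m⁻¹ = (ρ * e₀ * ρ⁻¹) * w := by
    rw [conj_ρ hρ, h0]
    calc ρ * (e₀ * w) * ρ⁻¹ = ρ * e₀ * ρ⁻¹ * (ρ * w * ρ⁻¹) := by group
      _ = _ := by rw [hρw]
  have k2 : m * (ρ * (ρ * e₀ * ρ⁻¹) * ρ⁻¹) * m⁻¹ = (ρ * (ρ * e₀ * ρ⁻¹) * ρ⁻¹) * w := by
    rw [conj_ρ hρ, k1]
    calc ρ * ((ρ * e₀ * ρ⁻¹) * w) * ρ⁻¹ = ρ * (ρ * e₀ * ρ⁻¹) * ρ⁻¹ * (ρ * w * ρ⁻¹) := by group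
      _ = _ := by rw [hρw]
  have e₀P : e₀ ∈ P₀ := L.RP Q.e₀R
  have a1 : ρ * e₀ * ρ⁻¹ ∈ P₀ := mul_mem (mul_mem Q.ρP e₀P) (inv_mem Q.ρP)
  have a2 : ρ * (ρ * e₀ * ρ⁻¹) * ρ⁻¹ ∈ P₀ := mul_mem (mul_mem Q.ρP a1) (inv_mem Q.ρP)
  have h2 : m * N * m⁻¹ = N * w := by
    have e1 : m * N * m⁻¹ = (m * e₀ * m⁻¹) * (m * (ρ * e₀ * ρ⁻¹) * m⁻¹) *
        (m * (ρ * (ρ * e₀ * ρ⁻¹) * ρ⁻¹) * m⁻¹) := by rw [hN]; group
    rw [e1, h0, k1, k2]
    have hN2 : N = e₀ * (ρ * e₀ * ρ⁻¹) * (ρ * (ρ * e₀ * ρ⁻¹) * ρ⁻¹) := by rw [hN]; group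
    rw [hN2]
    set p := ρ * e₀ * ρ⁻¹
    set q := ρ * p * ρ⁻¹
    calc e₀ * w * (p * w) * (q * w) = e₀ * (w * p) * (w * q) * w := by group
      _ = e₀ * (p * w) * (q * w) * w := by rw [L.wc hw a1, L.wc hw a2]
      _ = e₀ * p * (w * q) * (w * w) := by group
      _ = e₀ * p * (q * w) * (w * w) := by rw [L.wc hw a2]
      _ = e₀ * p * q * w := by rw [L.ww hw]; group
  rw [h1] at h2
  have h3 : N * 1 = N * w := by rw [mul_one]; exact h2
  rw [h0, ← mul_left_cancel h3, mul_one]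

/-- **case `[m, e₁] = 1`**: `m` centralises `B` -/
theorem comm_B (H : Pos t K) (L : Loc K z P₀ R B E)
    (Q : Plane K z P₀ R B E k u ρ g j e₀ e₁ g₂ eb j₂ x₂ h f) (M : MM t z R E m) (hρ : m * ρ = ρ * m)
    (h1 : m * e₁ * m⁻¹ = e₁) : ∀ b ∈ B, m * b = b * m := by
  have h0 := Q.comm_e₀ H L M hρ
  obtain ⟨w, hw, hg₂⟩ := M.exists_w Q.g₂R
  have cm : ∀ {x : G}, m * x * m⁻¹ = x → x * m = m * x := by
    intro x hx
    rw [← mul_inv_eq_iff_eq_mul.1 (by rw [hx] : m * x * m⁻¹ = x)]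
  have e₀P : e₀ ∈ P₀ := L.RP Q.e₀R
  have kρ : ∀ {x : G}, m * x * m⁻¹ = x → m * (ρ * x * ρ⁻¹) * m⁻¹ = ρ * x * ρ⁻¹ := by
    intro x hx
    rw [conj_ρ hρ, hx]
  have kg : ∀ {x : G}, x ∈ P₀ → m * x * m⁻¹ = x → m * (g₂ * x * g₂⁻¹) * m⁻¹ = g₂ * x * g₂⁻¹ := by
    intro x hxP hx
    calc m * (g₂ * x * g₂⁻¹) * m⁻¹ = (m * g₂ * m⁻¹) * (m * x * m⁻¹) * (m * g₂ * m⁻¹)⁻¹ := by group
      _ = g₂ * (w * x) * w⁻¹ * g₂⁻¹ := by rw [hg₂, hx]; group
      _ = g₂ * x * g₂⁻¹ := by rw [L.wc hw hxP]; group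
  have ρP : ∀ {x : G}, x ∈ P₀ → ρ * x * ρ⁻¹ ∈ P₀ := fun hx => mul_mem (mul_mem Q.ρP hx) (inv_mem Q.ρP)
  have hj : j ∈ centralizer ({m} : Set G) := by
    refine (closure_le _).2 ?_ Q.jgen
    rintro x (hx | hx)
    · exact mem_centralizer_singleton_iff.2 (M.mE x hx).symm
    · simp only [Set.mem_insert_iff, Set.mem_singleton_iff] at hx
      refine mem_centralizer_singleton_iff.2 (cm ?_)
      rcases hx with rfl | rfl | rfl | rfl | rfl | rfl | rfl | rfl
      · exact h0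
      · exact h1
      · exact kρ h0
      · exact kρ h1
      · have := kρ (kρ h0)
        have e : ρ * (ρ * e₀ * ρ⁻¹) * ρ⁻¹ = ρ * ρ * e₀ * ρ⁻¹ * ρ⁻¹ := by group
        rwa [e] at this
      · have := kρ (kρ h1)
        have e : ρ * (ρ * e₁ * ρ⁻¹) * ρ⁻¹ = ρ * ρ * e₁ * ρ⁻¹ * ρ⁻¹ := by group
        rwa [e] at this
      · exact kg (ρP e₀P) (kρ h0)
      · exact kg (ρP Q.e₁P) (kρ h1)
  have hj' := mem_centralizer_singleton_iff.1 hj
  have hj1 : m * j * m⁻¹ = j * 1 := by rw [← hj', mul_one]; group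
  have hj2 := Q.conj_gj H L M hρ (Or.inl rfl) hj1
  rw [mul_one] at hj2
  have hj3 := cm hj2
  intro b hb
  have fin : ∀ x : G, x * m = m * x → x⁻¹ * b ∈ E → m * b = b * m := by
    intro x hx hxb
    have e1 : b = x * (x⁻¹ * b) := by group
    have e2 := M.mE _ hxb
    calc m * b = m * x * (x⁻¹ * b) := by group
      _ = x * (m * (x⁻¹ * b)) := by rw [← hx]; group
      _ = b * m := by rw [e2]; group
  rcases Q.Bj b hb with h4 | h4 | h4 | h4
  · exact M.mE b h4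
  · exact fin j hj' h4
  · exact fin _ hj3 h4
  · refine fin _ ?_ h4
    calc j * (g * j * g⁻¹) * m = j * ((g * j * g⁻¹) * m) := by group
      _ = (j * m) * (g * j * g⁻¹) := by rw [hj3]; group
      _ = m * (j * (g * j * g⁻¹)) := by rw [hj']; group

end Plane

end Cfsg.Agent.OddHalf.D8.RuFam

end

-- merged: Cfsg.Agent.OddHalf.D8.RuFam.End56
section

/-!
# ODD half, D8, `K = Ru`: existence of the family, steps (5) and (6)

`t` an involution, `C_G(t) = ⟨t⟩ × K`, `z ∈ K` a `2`-central involution, `P = C_K(z)`, `P₀ = P'` perfect of index two.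

`exists_a`: if `m` satisfies `tᵐ = t z`, centralises `B = C_K(E)`, maps `R` to `R` modulo `⟨z⟩` and normalises `P₀`, then
there is an involution `a` with `tᵃ = t z` centralising `C_K(z)`.
-/

set_option autoImplicit false

namespace Cfsg.Agent.OddHalf.D8.RuFam

open Subgroup

variable {G : Type*} [Group G]

/-- a homomorphism of a perfect group into `{1, z}` is trivial: `m` centralises `P₀` -/
theorem comm_of_perfect {z m : G} {P0 : Subgroup G} (zz : z * z = 1) (zP : ∀ p ∈ P0, p * z = z * p)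
    (perf : P0 ≤ ⁅P0, P0⁆) (hm : ∀ p ∈ P0, m * p * m⁻¹ = p ∨ m * p * m⁻¹ = p * z) :
    ∀ p ∈ P0, m * p = p * m := by
  have zi : z⁻¹ = z := inv_eq_of_mul_eq_one_left zz
  have h1 : ⁅P0, P0⁆ ≤ centralizer ({m} : Set G) := by
    rw [commutator_le]
    intro p hp q hq
    rw [mem_centralizer_iff]
    rintro _ rfl
    rename_i m
    rw [commutatorElement_def]
    have h2 : m * (p * q * p⁻¹ * q⁻¹) * m⁻¹ = p * q * p⁻¹ * q⁻¹ := by
      have h3 : m * (p * q * p⁻¹ * q⁻¹) * m⁻¹ =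
          (m * p * m⁻¹) * (m * q * m⁻¹) * (m * p * m⁻¹)⁻¹ * (m * q * m⁻¹)⁻¹ := by group
      have zq := zP q hq
      have zp := zP p hp
      have zp' := zP _ (inv_mem hp)
      have zq' := zP _ (inv_mem hq)
      rw [h3]
      rcases hm p hp with h | h <;> rcases hm q hq with h' | h' <;> rw [h, h']
      · rw [mul_inv_rev, zi]
        calc p * (q * z) * p⁻¹ * (z * q⁻¹) = p * q * z * (p⁻¹ * z) * q⁻¹ := by group
          _ = p * q * (z * z) * p⁻¹ * q⁻¹ := by rw [zp']; group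
          _ = p * q * p⁻¹ * q⁻¹ := by rw [zz]; group
      · rw [mul_inv_rev, zi]
        calc p * z * q * (z * p⁻¹) * q⁻¹ = p * z * (q * z) * p⁻¹ * q⁻¹ := by group
          _ = p * (z * z) * q * p⁻¹ * q⁻¹ := by rw [zq]; group
          _ = p * q * p⁻¹ * q⁻¹ := by rw [zz]; group
      · rw [mul_inv_rev, mul_inv_rev, zi]
        calc p * z * (q * z) * (z * p⁻¹) * (z * q⁻¹) = p * (z * q) * (z * z) * (p⁻¹ * z) * q⁻¹ := by group
          _ = p * (q * z) * (z * p⁻¹) * q⁻¹ := by rw [zz, ← zq, zp']; group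
          _ = p * q * (z * z) * p⁻¹ * q⁻¹ := by group
          _ = p * q * p⁻¹ * q⁻¹ := by rw [zz]; group
    calc m * (p * q * p⁻¹ * q⁻¹) = m * (p * q * p⁻¹ * q⁻¹) * m⁻¹ * m := by group
      _ = p * q * p⁻¹ * q⁻¹ * m := by rw [h2]
  intro p hp
  exact (mem_centralizer_iff.1 (h1 (perf hp))) m rfl

namespace Loc

variable {t z m : G} {K P0 R B E : Subgroup G}

theorem ER (L : Loc K z P0 R B E) : E ≤ R := by
  rw [← L.RR]
  exact commutator_le_left_of R
where
  commutator_le_left_of (R : Subgroup G) : ⁅R, R⁆ ≤ R := by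
    rw [commutator_le]
    intro a ha b hb
    rw [commutatorElement_def]
    exact mul_mem (mul_mem (mul_mem ha hb) (inv_mem ha)) (inv_mem hb)

theorem Ez (L : Loc K z P0 R B E) {e : G} (he : e ∈ E) : e * z = z * e := L.Pz _ (L.RP (L.ER he))

theorem EEc (L : Loc K z P0 R B E) {e e' : G} (he : e ∈ E) (he' : e' ∈ E) : e * e' = e' * e := by
  have h1 : (e * e')⁻¹ = e * e' := inv_eq_of_mul_eq_one_left (L.EE _ (mul_mem he he'))
  have h2 : e⁻¹ = e := inv_eq_of_mul_eq_one_left (L.EE e he)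
  have h3 : e'⁻¹ = e' := inv_eq_of_mul_eq_one_left (L.EE e' he')
  rw [← h1, mul_inv_rev, h2, h3]

/-- `E ≤ B` -/
theorem EB (L : Loc K z P0 R B E) : E ≤ B := fun e he =>
  (L.cenE e (L.PK (L.RP (L.ER he)))).2 fun _ hx => L.EEc he hx

/-- `C_K(R) = ⟨z⟩` -/
theorem CR (L : Loc K z P0 R B E) {k : G} (hk : k ∈ K) (h : ∀ r ∈ R, k * r = r * k) : k = 1 ∨ k = z := by
  have h1 : k ∈ B := (L.cenE k hk).2 fun e he => h e (L.ER he)
  have h2 : k ∈ E := L.BE k h1 fun r hr => Or.inl (by rw [h r hr]; group)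
  exact L.ZR k h2 h

end Loc

/-- **(5)** -/
theorem five {t z m : G} {K P0 R B E : Subgroup G} (L : Loc K z P0 R B E) (tt : t * t = 1)
    (comm : ∀ k ∈ K, k * t = t * k) (cen : ∀ g : G, g * t = t * g → g ∈ K ∨ t * g ∈ K)
    (mt : m * t * m⁻¹ = t * z) (mR : ∀ r ∈ R, m * r * m⁻¹ = r ∨ m * r * m⁻¹ = r * z)
    (mB : ∀ b ∈ B, m * b = b * m) (mP : ∀ p ∈ P0, m * p * m⁻¹ ∈ P0) :
    ∃ a : G, a * a = 1 ∧ a * t * a = t * z ∧ ∀ p ∈ P0, p * a = a * p := by
  have mz : m * z = z * m := mB z (L.EB L.zE)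
  -- the subgroup `Q = C_R(m)`
  let Q : Subgroup G := R ⊓ centralizer ({m} : Set G)
  have hQ : ∀ {r : G}, r ∈ Q ↔ r ∈ R ∧ m * r = r * m := by
    intro r
    simp only [Q, mem_inf, mem_centralizer_iff, Set.mem_singleton_iff, forall_eq]
  have hn : ∀ r ∈ R, r ∉ Q → m * r * m⁻¹ = r * z := by
    intro r hr hn
    rcases mR r hr with h | h
    · exfalso
      apply hn
      rw [hQ]
      refine ⟨hr, ?_⟩
      calc m * r = m * r * m⁻¹ * m := by group
        _ = r * m := by rw [h]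
    · exact h
  obtain ⟨e, he, hQe⟩ := L.dual Q inf_le_left
    (fun b hb => hQ.2 ⟨L.BR hb, mB b hb⟩) (by
      intro r hr s hs h1 h2
      rw [hQ]
      refine ⟨mul_mem hr hs, ?_⟩
      have h3 := hn r hr h1
      have h4 := hn s hs h2
      have h5 := L.Pz s (L.RP hs)
      calc m * (r * s) = (m * r * m⁻¹) * (m * s * m⁻¹) * m := by group
        _ = r * (z * s) * z * m := by rw [h3, h4]; group
        _ = r * s * (z * z) * m := by rw [← h5]; group
        _ = r * s * m := by rw [L.zz]; group)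
  have eR := L.ER he
  have eP := L.RP eR
  have eK := L.PK eP
  have ee := L.EE e he
  have ei : e⁻¹ = e := inv_eq_of_mul_eq_one_left ee
  have et := comm e eK
  have me := mB e (L.EB he)
  -- `n = m e` centralises `R`
  obtain ⟨n, hn'⟩ : ∃ n, n = m * e := ⟨_, rfl⟩
  have nR : ∀ r ∈ R, n * r = r * n := by
    intro r hr
    by_cases h : r ∈ Q
    · have h1 := (hQe r hr).1 h
      have h2 := (hQ.1 h).2
      rw [hn']
      calc m * e * r = m * r * e := by rw [mul_assoc, h1]; group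
        _ = r * (m * e) := by rw [h2]; group
    · have h1 : e * r ≠ r * e := fun h' => h ((hQe r hr).2 h')
      have h2 : r * e * r⁻¹ * e⁻¹ = z := by
        rcases L.RE r hr e he with h3 | h3
        · exfalso
          apply h1
          calc e * r = (r * e * r⁻¹ * e⁻¹) * e * r := by rw [h3]; group
            _ = r * e := by group
        · exact h3
      have h3 := hn r hr h
      have h4 : m * r = r * z * m := by rw [← h3]; group
      have rz := L.Pz r (L.RP hr)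
      -- `r e = z e r`
      have h5 : r * e = z * e * r := by
        calc r * e = (r * e * r⁻¹ * e⁻¹) * e * r := by group
          _ = z * e * r := by rw [h2]
      have ez := L.Ez he
      have h6 : e * r = z * r * e := by
        calc e * r = z * z * e * r := by rw [L.zz, one_mul]
          _ = z * (z * e * r) := by group
          _ = z * r * e := by rw [← h5]; group
      rw [hn']
      calc m * e * r = m * (e * r) := by group
        _ = (m * z) * r * e := by rw [h6]; group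
        _ = z * (m * r) * e := by rw [mz]; group
        _ = (z * r) * z * m * e := by rw [h4]; group
        _ = r * (z * z) * m * e := by rw [← rz]; group
        _ = r * (m * e) := by rw [L.zz]; group
  have nt : n * t * n⁻¹ = t * z := by
    rw [hn']
    calc m * e * t * (m * e)⁻¹ = m * (e * t) * e⁻¹ * m⁻¹ := by group
      _ = m * t * m⁻¹ := by rw [et]; group
      _ = t * z := mt
  have nz : n * z = z * n := nR z (L.ER L.zE)
  have nP : ∀ p ∈ P0, n * p * n⁻¹ ∈ P0 := by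
    intro p hp
    have h1 := mP _ (mul_mem (mul_mem eP hp) (inv_mem eP))
    rw [hn']
    have h2 : m * e * p * (m * e)⁻¹ = m * (e * p * e⁻¹) * m⁻¹ := by group
    rw [h2]
    exact h1
  have n1 : ∀ p ∈ P0, n * p * n⁻¹ = p ∨ n * p * n⁻¹ = p * z := by
    intro p hp
    have h1 : n * p * n⁻¹ * p⁻¹ ∈ P0 := mul_mem (nP p hp) (inv_mem hp)
    have h2 := L.CR (L.PK h1) (by
      intro r hr
      have h3 := nR _ (L.Rn _ (inv_mem hp) r hr)
      have h4 : n⁻¹ * (p⁻¹ * r * p⁻¹⁻¹) = (p⁻¹ * r * p⁻¹⁻¹) * n⁻¹ := by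
        calc n⁻¹ * (p⁻¹ * r * p⁻¹⁻¹) = n⁻¹ * ((p⁻¹ * r * p⁻¹⁻¹) * n) * n⁻¹ := by group
          _ = (p⁻¹ * r * p⁻¹⁻¹) * n⁻¹ := by rw [← h3]; group
      calc n * p * n⁻¹ * p⁻¹ * r = n * p * (n⁻¹ * (p⁻¹ * r * p⁻¹⁻¹)) * p⁻¹ := by group
        _ = (n * r) * p * n⁻¹ * p⁻¹ := by rw [h4]; group
        _ = r * (n * p * n⁻¹ * p⁻¹) := by rw [nR r hr]; group)
    rcases h2 with h | h
    · left
      exact mul_inv_eq_one.1 h
    · right
      rw [L.Pz p hp, ← h]
      group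
  have n2 := comm_of_perfect L.zz L.Pz (le_of_eq L.perf.symm) n1
  -- `n²`
  have hnt : n * t = t * z * n := by rw [← nt]; group
  have tz := comm z L.zK
  have h3 : n * n * t = t * (n * n) := by
    calc n * n * t = n * (n * t) := by group
      _ = n * (t * z * n) := by rw [hnt]
      _ = (n * t) * z * n := by group
      _ = t * z * n * z * n := by rw [hnt]
      _ = t * z * (n * z) * n := by group
      _ = t * (z * z) * (n * n) := by rw [nz]; group
      _ = t * (n * n) := by rw [L.zz, mul_one]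
  have tR : ∀ r ∈ R, t * r = r * t := fun r hr => (comm r (L.PK (L.RP hr))).symm
  have nnR : ∀ r ∈ R, n * n * r = r * (n * n) := by
    intro r hr
    calc n * n * r = n * (n * r) := by group
      _ = n * (r * n) := by rw [nR r hr]
      _ = n * r * n := by group
      _ = r * n * n := by rw [nR r hr]
      _ = r * (n * n) := by group
  have hne : n * t ≠ t * n := by
    intro h
    apply L.z1
    calc z = t⁻¹ * (t * z * n) * n⁻¹ := by group
      _ = 1 := by rw [← hnt, h]; group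
  have h4 : n * n = 1 ∨ n * n = z := by
    rcases cen _ h3 with h | h
    · exact L.CR h nnR
    · exfalso
      have h5 := L.CR h (by
        intro r hr
        calc t * (n * n) * r = t * (n * n * r) := by group
          _ = (t * r) * (n * n) := by rw [nnR r hr]; group
          _ = r * (t * (n * n)) := by rw [tR r hr]; group)
      -- `n n = t` or `t z`
      have h6 : n * n = t ∨ n * n = t * z := by
        rcases h5 with h5 | h5
        · left
          calc n * n = t * t * (n * n) := by rw [tt, one_mul]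
            _ = t * (t * (n * n)) := by group
            _ = t := by rw [h5, mul_one]
        · right
          calc n * n = t * t * (n * n) := by rw [tt, one_mul]
            _ = t * (t * (n * n)) := by group
            _ = t * z := by rw [h5]
      apply hne
      rcases h6 with h6 | h6
      · rw [← h6]; group
      · have h7 : t = n * n * z := by rw [h6, mul_assoc, L.zz, mul_one]
        rw [h7]
        calc n * (n * n * z) = n * n * (n * z) := by group
          _ = n * n * z * n := by rw [nz]; group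
  rcases h4 with h4 | h4
  · refine ⟨n, h4, ?_, fun p hp => (n2 p hp).symm⟩
    have : n⁻¹ = n := inv_eq_of_mul_eq_one_left h4
    rw [this] at nt
    exact nt
  · refine ⟨n * t, ?_, ?_, ?_⟩
    · calc n * t * (n * t) = (n * t) * n * t := by group
        _ = t * z * (n * n) * t := by rw [hnt]; group
        _ = t * (z * z) * t := by rw [h4]; group
        _ = 1 := by rw [L.zz, mul_one, tt]
    · calc n * t * t * (n * t) = n * (t * t) * (n * t) := by group
        _ = n * (t * z * n) := by rw [tt, mul_one, hnt]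
        _ = (n * t) * z * n := by group
        _ = t * z * (n * z) * n := by rw [hnt]; group
        _ = t * (z * z) * (n * n) := by rw [nz]; group
        _ = t * z := by rw [L.zz, mul_one, h4]
    · intro p hp
      calc p * (n * t) = (p * n) * t := by group
        _ = n * (p * t) := by rw [← n2 p hp]; group
        _ = n * t * p := by rw [comm p (L.PK hp)]; group

/-- `a^p` is `a` or `a z` -/
theorem conj_cases {t z a : G} {K P0 R B E : Subgroup G} (L : Loc K z P0 R B E) (tt : t * t = 1)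
    (comm : ∀ k ∈ K, k * t = t * k)
    (cen : ∀ g : G, g * t = t * g → g ∈ K ∨ t * g ∈ K) (aa : a * a = 1) (at' : a * t * a = t * z)
    (aP : ∀ p ∈ P0, p * a = a * p) {p : G} (hp : p ∈ K) (hpz : p * z = z * p) :
    p * a * p⁻¹ = a ∨ p * a * p⁻¹ = a * z := by
  have az : z * a = a * z := aP z (L.RP (L.ER L.zE))
  have pt := comm p hp
  have ai : a⁻¹ = a := inv_eq_of_mul_eq_one_left aa
  obtain ⟨b, hb⟩ : ∃ b, b = p * a * p⁻¹ := ⟨_, rfl⟩
  have bb : b * b = 1 := by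
    rw [hb]
    calc p * a * p⁻¹ * (p * a * p⁻¹) = p * (a * a) * p⁻¹ := by group
      _ = 1 := by rw [aa]; group
  have hpz' : p⁻¹ * z = z * p⁻¹ := by
    calc p⁻¹ * z = p⁻¹ * (z * p) * p⁻¹ := by group
      _ = z * p⁻¹ := by rw [← hpz]; group
  have pt' : p⁻¹ * t = t * p⁻¹ := comm _ (inv_mem hp)
  have bz : b * z = z * b := by
    rw [hb]
    calc p * a * p⁻¹ * z = p * a * (p⁻¹ * z) := by group
      _ = p * (a * z) * p⁻¹ := by rw [hpz']; group
      _ = (p * z) * a * p⁻¹ := by rw [← az]; group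
      _ = z * (p * a * p⁻¹) := by rw [hpz]; group
  have bt : b * t * b = t * z := by
    rw [hb]
    calc p * a * p⁻¹ * t * (p * a * p⁻¹) = p * a * (p⁻¹ * t) * p * a * p⁻¹ := by group
      _ = p * (a * t * a) * p⁻¹ := by rw [pt']; group
      _ = (p * t) * z * p⁻¹ := by rw [at']; group
      _ = t * (p * z) * p⁻¹ := by rw [pt]; group
      _ = t * z := by rw [hpz]; group
  have bP : ∀ q ∈ P0, q * b = b * q := by
    intro q hq
    have h1 : p⁻¹ * q * p⁻¹⁻¹ ∈ P0 := by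
      have h2 := L.com _ (inv_mem hp) q (L.PK hq) hpz' (L.Pz q hq)
      have h3 := mul_mem h2 hq
      have h4 : p⁻¹ * q * p⁻¹⁻¹ * q⁻¹ * q = p⁻¹ * q * p⁻¹⁻¹ := by group
      rwa [h4] at h3
    have h2 := aP _ h1
    rw [hb]
    calc q * (p * a * p⁻¹) = p * ((p⁻¹ * q * p⁻¹⁻¹) * a) * p⁻¹ := by group
      _ = p * a * p⁻¹ * q := by rw [h2]; group
  -- `c = b a`
  have ta : t * a = a * t * z := by
    calc t * a = a * a * t * a := by rw [aa, one_mul]
      _ = a * (a * t * a) := by group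
      _ = a * t * z := by rw [at']; group
  have tb : t * b = b * t * z := by
    calc t * b = b * b * t * b := by rw [bb, one_mul]
      _ = b * (b * t * b) := by group
      _ = b * t * z := by rw [bt]; group
  have ct : b * a * t = t * (b * a) := by
    symm
    calc t * (b * a) = t * b * a := by group
      _ = b * t * (z * a) := by rw [tb]; group
      _ = b * (t * a) * z := by rw [az]; group
      _ = b * a * t * (z * z) := by rw [ta]; group
      _ = b * a * t := by rw [L.zz, mul_one]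
  have cR : ∀ r ∈ R, b * a * r = r * (b * a) := by
    intro r hr
    calc b * a * r = b * (a * r) := by group
      _ = b * r * a := by rw [← aP r (L.RP hr)]; group
      _ = r * (b * a) := by rw [← bP r (L.RP hr)]; group
  rw [← hb]
  have fin : b * a = 1 ∨ b * a = z → b = a ∨ b = a * z := by
    rintro (h | h)
    · left
      calc b = b * a * a⁻¹ := by group
        _ = a := by rw [h, ai, one_mul]
    · right
      calc b = b * a * a⁻¹ := by group
        _ = a * z := by rw [h, ai, az]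
  rcases cen _ ct with h | h
  · exact fin (L.CR h cR)
  · exfalso
    have h1 := L.CR h (by
      intro r hr
      calc t * (b * a) * r = t * (b * a * r) := by group
        _ = (t * r) * (b * a) := by rw [cR r hr]; group
        _ = r * (t * (b * a)) := by rw [← comm r (L.PK (L.RP hr))]; group)
    -- `b = t a` or `t z a`
    have h2 : b = t * a ∨ b = t * (z * a) := by
      rcases h1 with h1 | h1
      · left
        calc b = t * t * (b * a) * a⁻¹ := by rw [tt]; group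
          _ = t * (t * (b * a)) * a⁻¹ := by group
          _ = t * a := by rw [h1, ai, mul_one]
      · right
        calc b = t * t * (b * a) * a⁻¹ := by rw [tt]; group
          _ = t * (t * (b * a)) * a⁻¹ := by group
          _ = t * (z * a) := by rw [h1, ai]; group
    apply L.z1
    rcases h2 with h2 | h2
    · rw [h2] at bb
      calc z = t * t * z := by rw [tt, one_mul]
        _ = t * (a * t * a) := by rw [at']; group
        _ = t * a * (t * a) := by group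
        _ = 1 := bb
    · rw [h2] at bb
      have zt := comm z L.zK
      calc z = t * t * z * (z * z) := by rw [tt, L.zz]; group
        _ = t * (t * z) * z * z := by group
        _ = t * (z * t) * z * z := by rw [zt]
        _ = t * z * (t * z) * z := by group
        _ = t * z * (a * t * (a * z)) := by rw [← at']; group
        _ = t * (z * a) * (t * (z * a)) := by rw [← az]; group
        _ = 1 := bb

/-- **(6)**: `a` centralises `C_K(z)` -/
theorem twist {t z a : G} {K P0 R B E : Subgroup G} {k2 k3 v f2 : G} (L : Loc K z P0 R B E)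
    (T : Twist K z P0 k2 k3 v f2) (tt : t * t = 1) (comm : ∀ k ∈ K, k * t = t * k)
    (cen : ∀ g : G, g * t = t * g → g ∈ K ∨ t * g ∈ K) (aa : a * a = 1) (at' : a * t * a = t * z)
    (aP : ∀ p ∈ P0, p * a = a * p) : ∀ p ∈ K, p * z = z * p → p * a = a * p := by
  by_contra hcon
  push Not at hcon
  obtain ⟨p, hp, hpz, hpa⟩ := hcon
  have az : z * a = a * z := aP z (L.RP (L.ER L.zE))
  have h1 : p * a * p⁻¹ = a * z := by
    rcases conj_cases L tt comm cen aa at' aP hp hpz with h | h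
    · exfalso
      apply hpa
      calc p * a = p * a * p⁻¹ * p := by group
        _ = a * p := by rw [h]
    · exact h
  have hp0 : p ∉ P0 := fun h => hpa (aP p h)
  -- every element outside `P0` is twisted
  have key : ∀ q ∈ K, q * z = z * q → q ∉ P0 → q * a * q⁻¹ = a * z := by
    intro q hq hqz hq0
    have h2 := L.idx q hq p hp hqz hpz hq0 hp0
    have h3 := aP _ h2
    have h4 := L.Pz _ h2
    have h5 : p⁻¹ * a * p = a * z := by
      have : a * z * z = a := by rw [mul_assoc, L.zz, mul_one]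
      calc p⁻¹ * a * p = p⁻¹ * (a * z * z) * p := by rw [this]
        _ = p⁻¹ * (p * a * p⁻¹) * (z * p) := by rw [h1]; group
        _ = a * p⁻¹ * (p * z) := by rw [hpz]; group
        _ = a * z := by group
    calc q * a * q⁻¹ = (q * p) * (p⁻¹ * a * p) * (q * p)⁻¹ := by group
      _ = (q * p) * a * z * (q * p)⁻¹ := by rw [h5]; group
      _ = a * ((q * p) * z) * (q * p)⁻¹ := by rw [h3]; group
      _ = a * z := by rw [h4]; group
  obtain ⟨b, hb⟩ : ∃ b, b = k2 * a * k2⁻¹ := ⟨_, rfl⟩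
  obtain ⟨c, hc⟩ : ∃ c, c = k3 * a * k3⁻¹ := ⟨_, rfl⟩
  -- commuting
  have hcb : ∀ {k x : G}, k⁻¹ * x * k ∈ P0 → x * (k * a * k⁻¹) = (k * a * k⁻¹) * x := by
    intro k x hx
    have := aP _ hx
    calc x * (k * a * k⁻¹) = k * ((k⁻¹ * x * k) * a) * k⁻¹ := by group
      _ = (k * a * k⁻¹) * x := by rw [this]; group
  have hct : ∀ {k w : G}, k ∈ K → k * z * k⁻¹ = w → t * (k * a * k⁻¹) = (k * a * k⁻¹) * t * w := by
    intro k w hk hw
    have e1 := comm k hk
    have e2 := comm _ (inv_mem hk)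
    have ta : t * a = a * t * z := by
      calc t * a = a * a * t * a := by rw [aa, one_mul]
        _ = a * (a * t * a) := by group
        _ = a * t * z := by rw [at']; group
    calc t * (k * a * k⁻¹) = (t * k) * a * k⁻¹ := by group
      _ = k * (t * a) * k⁻¹ := by rw [← e1]; group
      _ = k * a * (t * k⁻¹) * (k * z * k⁻¹) := by rw [ta]; group
      _ = (k * a * k⁻¹) * t * w := by rw [← e2, hw]; group
  have zb : z * b = b * z := by rw [hb]; exact hcb T.z₂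
  have zc : z * c = c * z := by rw [hc]; exact hcb T.z₃
  have vc : v * c = c * v := by rw [hc]; exact hcb T.v₃
  have va : v * a = a * v := aP v T.vP
  have vz : v * z = z * v := L.Pz v T.vP
  have tb : t * b = b * t * v := by rw [hb]; exact hct T.k₂K T.kv
  have tc : t * c = c * t * (z * v) := by rw [hc]; exact hct T.k₃K T.kzv
  have ta : t * a = a * t * z := by
    calc t * a = a * a * t * a := by rw [aa, one_mul]
      _ = a * (a * t * a) := by group
      _ = a * t * z := by rw [at']; group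
  have vv : v * v = 1 := by
    rw [← T.kv]
    calc k2 * z * k2⁻¹ * (k2 * z * k2⁻¹) = k2 * (z * z) * k2⁻¹ := by group
      _ = 1 := by rw [L.zz]; group
  have et : a * b * c * t = t * (a * b * c) := by
    symm
    calc t * (a * b * c) = t * a * b * c := by group
      _ = a * t * (z * b) * c := by rw [ta]; group
      _ = a * (t * b) * z * c := by rw [zb]; group
      _ = a * b * t * v * (z * c) := by rw [tb]; group
      _ = a * b * t * (v * c) * z := by rw [zc]; group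
      _ = a * b * (t * c) * v * z := by rw [vc]; group
      _ = a * b * c * t * (z * (v * v) * z) := by rw [tc]; group
      _ = a * b * c * t := by rw [vv, mul_one, L.zz, mul_one]
  -- conjugation by `f2`
  have fa : f2 * a * f2⁻¹ = a * z := key f2 T.fK T.fz T.n₁
  have fb : f2 * b * f2⁻¹ = b * v := by
    have h2 : k2⁻¹ * f2 * k2 * z = z * (k2⁻¹ * f2 * k2) := by
      calc k2⁻¹ * f2 * k2 * z = k2⁻¹ * (f2 * (k2 * z * k2⁻¹)) * k2 := by group
        _ = k2⁻¹ * (k2 * z * k2⁻¹ * f2) * k2 := by rw [T.kv, T.fv]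
        _ = z * (k2⁻¹ * f2 * k2) := by group
    have h3 := key _ (mul_mem (mul_mem (inv_mem T.k₂K) T.fK) T.k₂K) h2 T.n₂
    rw [hb]
    calc f2 * (k2 * a * k2⁻¹) * f2⁻¹ = k2 * (k2⁻¹ * f2 * k2 * a * (k2⁻¹ * f2 * k2)⁻¹) * k2⁻¹ := by group
      _ = k2 * a * k2⁻¹ * (k2 * z * k2⁻¹) := by rw [h3]; group
      _ = k2 * a * k2⁻¹ * v := by rw [T.kv]
  have fc : f2 * c * f2⁻¹ = c := by
    have h2 : f2 * c = c * f2 := by rw [hc]; exact hcb T.n₃
    calc f2 * c * f2⁻¹ = c * f2 * f2⁻¹ := by rw [h2]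
      _ = c := by group
  have fe : f2 * (a * b * c) * f2⁻¹ = a * b * c * (z * v) := by
    calc f2 * (a * b * c) * f2⁻¹ = (f2 * a * f2⁻¹) * (f2 * b * f2⁻¹) * (f2 * c * f2⁻¹) := by group
      _ = a * (z * b) * v * c := by rw [fa, fb, fc]; group
      _ = a * b * z * (v * c) := by rw [zb]; group
      _ = a * b * (z * c) * v := by rw [vc]; group
      _ = a * b * c * (z * v) := by rw [zc]; group
  -- `a b c` commutes with the intersection
  have hx : ∀ x ∈ P0, k2⁻¹ * x * k2 ∈ P0 → k3⁻¹ * x * k3 ∈ P0 → a * b * c * x = x * (a * b * c) := by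
    intro x h1 h2 h3
    have e1 := aP x h1
    have e2 : x * b = b * x := by rw [hb]; exact hcb h2
    have e3 : x * c = c * x := by rw [hc]; exact hcb h3
    symm
    calc x * (a * b * c) = x * a * b * c := by group
      _ = a * (x * b) * c := by rw [e1]; group
      _ = a * b * (x * c) := by rw [e2]; group
      _ = a * b * c * x := by rw [e3]; group
  have ef : a * b * c * f2 = f2 * (a * b * c) := by
    rcases cen _ et with h | h
    · exact T.cen _ h hx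
    · have h2 := T.cen _ h (by
        intro x h1 h2 h3
        calc t * (a * b * c) * x = t * (a * b * c * x) := by group
          _ = t * x * (a * b * c) := by rw [hx x h1 h2 h3]; group
          _ = x * (t * (a * b * c)) := by rw [← comm x (L.PK h1)]; group)
      have h3 : t * (a * b * c * f2) = t * (f2 * (a * b * c)) := by
        calc t * (a * b * c * f2) = t * (a * b * c) * f2 := by group
          _ = f2 * (t * (a * b * c)) := h2
          _ = (f2 * t) * (a * b * c) := by group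
          _ = t * (f2 * (a * b * c)) := by rw [comm f2 T.fK]; group
      exact mul_left_cancel h3
  have h2 : z * v = 1 := by
    have h3 : a * b * c * (z * v) = a * b * c * 1 := by
      rw [← fe, ← ef]; group
    exact mul_left_cancel h3
  apply L.z1
  have h3 := T.kzv
  rw [h2] at h3
  calc z = k3⁻¹ * (k3 * z * k3⁻¹) * k3 := by group
    _ = 1 := by rw [h3]; group

theorem exists_a [Finite G] {t z m : G} {K P0 R B E : Subgroup G} {k2 k3 v f2 : G} (L : Loc K z P0 R B E)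
    (T : Twist K z P0 k2 k3 v f2) (tt : t * t = 1) (tK : t ∉ K) (comm : ∀ k ∈ K, k * t = t * k)
    (cen : ∀ g : G, g * t = t * g → g ∈ K ∨ t * g ∈ K) (mt : m * t * m⁻¹ = t * z)
    (mR : ∀ r ∈ R, m * r * m⁻¹ = r ∨ m * r * m⁻¹ = r * z) (mB : ∀ b ∈ B, m * b = b * m)
    (mP : ∀ p ∈ P0, m * p * m⁻¹ ∈ P0) :
    ∃ a : G, a * a = 1 ∧ a * t * a = t * z ∧ ∀ k ∈ K, k * z = z * k → k * a = a * k := by
  obtain ⟨a, aa, at', aP⟩ := five L tt comm cen mt mR mB mP
  exact ⟨a, aa, at', twist L T tt comm cen aa at' aP⟩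

end Cfsg.Agent.OddHalf.D8.RuFam

end

-- merged: Cfsg.Agent.OddHalf.D8.RuFam.Kill4
section

/-!
# ODD half, D8, `K = Ru`: existence of the family, step (4)

The case `[m, e₁] = u` is impossible: `y = m eb` centralises `E_u = k E k⁻¹` and `[y, j₂] = u z`; for `h` of order 3 in
`C_K(u)` with `z zʰ zʰʰ = 1` the element `w = y yʰ yʰʰ` lies in `⟨t⟩ × C_K(E_u)`, and `[w, f] ∈ ⟨z, zʰ⟩`, so
`w ∈ ⟨t⟩ × E_u` centralises `j₂`; but `[w, j₂] = u`.
-/

set_option autoImplicit false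

namespace Cfsg.Agent.OddHalf.D8.RuFam

open Subgroup
open scoped commutatorElement

variable {G : Type*} [Group G]

/-- `E` is normal in `P₀` -/
theorem Loc.En {z : G} {K P0 R B E : Subgroup G} (L : Loc K z P0 R B E) {p : G} (hp : p ∈ P0) {x : G}
    (hx : x ∈ E) : p * x * p⁻¹ ∈ E := by
  rw [← L.RR] at hx ⊢
  have h2 : ⁅R, R⁆ ≤ (⁅R, R⁆).comap (MulAut.conj p).toMonoidHom := by
    rw [commutator_le]
    intro a ha b hb
    rw [mem_comap]
    have h3 := L.Rn p hp a ha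
    have h4 := L.Rn p hp b hb
    have h5 := commutator_mem_commutator h3 h4
    have h6 : (MulAut.conj p).toMonoidHom ⁅a, b⁆ = ⁅p * a * p⁻¹, p * b * p⁻¹⁆ := by
      simp only [commutatorElement_def, MulEquiv.toMonoidHom_eq_coe, MonoidHom.coe_coe, MulAut.conj_apply]
      group
    rw [h6]
    exact h5
  have := h2 hx
  simpa using this

/-- **(4)** -/
theorem false_of_e1 {t z m : G} {K P0 R B E : Subgroup G} {k u ρ g j e0 e1 g2 eb j2 x2 h f : G}
    (L : Loc K z P0 R B E) (Pl : Plane K z P0 R B E k u ρ g j e0 e1 g2 eb j2 x2 h f)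
    (comm : ∀ k ∈ K, k * t = t * k) (cen : ∀ g : G, g * t = t * g → g ∈ K ∨ t * g ∈ K)
    (mt : m * t * m⁻¹ = t * z) (mE : ∀ e ∈ E, m * e = e * m)
    (mR : ∀ r ∈ R, m * r * m⁻¹ = r ∨ m * r * m⁻¹ = r * z) (mρ : m * ρ = ρ * m) (me0 : m * e0 = e0 * m)
    (me1 : m * e1 * m⁻¹ * e1⁻¹ = u) : False := by
  have EK : ∀ {x : G}, x ∈ E → x ∈ K := fun hx => L.PK (L.RP (L.ER hx))
  -- `U = E_u`
  let U : Subgroup G := E.map (MulAut.conj k).toMonoidHom
  have hU : ∀ {x : G}, x ∈ U ↔ k⁻¹ * x * k ∈ E := by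
    intro x
    simp only [U, mem_map]
    constructor
    · rintro ⟨y, hy, rfl⟩
      simpa [mul_assoc] using hy
    · intro hx
      exact ⟨_, hx, by simp [mul_assoc]⟩
  have UU : ∀ {x y : G}, x ∈ U → y ∈ U → x * y = y * x := by
    intro x y hx hy
    have := L.EEc (hU.1 hx) (hU.1 hy)
    calc x * y = k * (k⁻¹ * x * k * (k⁻¹ * y * k)) * k⁻¹ := by group
      _ = y * x := by rw [this]; group
  have UK : ∀ {x : G}, x ∈ U → x ∈ K := by
    intro x hx
    have h1 := mul_mem (mul_mem Pl.kK (EK (hU.1 hx))) (inv_mem Pl.kK)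
    have h2 : k * (k⁻¹ * x * k) * k⁻¹ = x := by group
    rwa [h2] at h1
  have zU : z ∈ U := hU.2 Pl.zEu
  have uU : u ∈ U := hU.2 (by
    rw [← Pl.ku]
    have : k⁻¹ * (k * z * k⁻¹) * k = z := by group
    rw [this]
    exact L.zE)
  have vU : ρ * u * ρ⁻¹ ∈ U := hU.2 Pl.uEu
  have e0U : e0 ∈ U := hU.2 Pl.e₀E
  have uu : u * u = 1 := L.EE u Pl.uE
  have u1 : u ≠ 1 := by
    intro h1
    apply L.z1
    have := Pl.ku
    rw [h1] at this
    calc z = k⁻¹ * (k * z * k⁻¹) * k := by group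
      _ = 1 := by rw [this]; group
  have mu := mE u Pl.uE
  have mz := mE z L.zE
  -- `s = u^{ρρ}`
  obtain ⟨s, hs⟩ : ∃ s, s = ρ * ρ * u * ρ⁻¹ * ρ⁻¹ := ⟨_, rfl⟩
  have vE : ρ * u * ρ⁻¹ ∈ E := L.En Pl.ρP Pl.uE
  have sE : s ∈ E := by
    have := L.En Pl.ρP vE
    have h2 : ρ * (ρ * u * ρ⁻¹) * ρ⁻¹ = s := by rw [hs]; group
    rwa [h2] at this
  have ss := L.EE s sE
  have si : s⁻¹ = s := inv_eq_of_mul_eq_one_left ss
  have ms := mE s sE
  -- `m` on `e₁`, `j₂`
  have he1 : m * e1 = u * e1 * m := by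
    rw [← me1]
    group
  have mρi : m * ρ⁻¹ = ρ⁻¹ * m := by
    calc m * ρ⁻¹ = ρ⁻¹ * (ρ * m) * ρ⁻¹ := by group
      _ = ρ⁻¹ * m := by rw [← mρ]; group
  have mρρ : m * (ρ * ρ) = ρ * ρ * m := by
    rw [← mul_assoc, mρ, mul_assoc, mρ, mul_assoc]
  have mρρi : m * (ρ⁻¹ * ρ⁻¹) = ρ⁻¹ * ρ⁻¹ * m := by
    rw [← mul_assoc, mρi, mul_assoc, mρi, mul_assoc]
  have s0 : s * (ρ * e0 * ρ⁻¹) = ρ * e0 * ρ⁻¹ * s := by
    have h1 := UU vU e0U
    calc s * (ρ * e0 * ρ⁻¹) = ρ * ((ρ * u * ρ⁻¹) * e0) * ρ⁻¹ := by rw [hs]; group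
      _ = ρ * e0 * ρ⁻¹ * s := by rw [h1, hs]; group
  have mρ0 : m * (ρ * e0 * ρ⁻¹) = ρ * e0 * ρ⁻¹ * m := by
    calc m * (ρ * e0 * ρ⁻¹) = (m * ρ) * e0 * ρ⁻¹ := by group
      _ = ρ * (m * e0) * ρ⁻¹ := by rw [mρ]; group
      _ = ρ * e0 * (m * ρ⁻¹) := by rw [me0]; group
      _ = ρ * e0 * ρ⁻¹ * m := by rw [mρi]; group
  have mρ1 : m * (ρ * ρ * (e0 * e1) * ρ⁻¹ * ρ⁻¹) = s * (ρ * ρ * (e0 * e1) * ρ⁻¹ * ρ⁻¹) * m := by
    have h1 := UU e0U uU
    calc m * (ρ * ρ * (e0 * e1) * ρ⁻¹ * ρ⁻¹) = (m * (ρ * ρ)) * e0 * e1 * (ρ⁻¹ * ρ⁻¹) := by group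
      _ = ρ * ρ * (m * e0) * e1 * (ρ⁻¹ * ρ⁻¹) := by rw [mρρ]; group
      _ = ρ * ρ * e0 * (m * e1) * (ρ⁻¹ * ρ⁻¹) := by rw [me0]; group
      _ = ρ * ρ * (e0 * u) * e1 * (m * (ρ⁻¹ * ρ⁻¹)) := by rw [he1]; group
      _ = (ρ * ρ * u * ρ⁻¹ * ρ⁻¹) * (ρ * ρ * (e0 * e1) * ρ⁻¹ * ρ⁻¹) * m := by rw [h1, mρρi]; group
      _ = s * (ρ * ρ * (e0 * e1) * ρ⁻¹ * ρ⁻¹) * m := by rw [hs]
  have mj : m * j2 = s * j2 * m := by
    have h1 := mE x2 Pl.x₂E
    have h2 := L.EEc sE Pl.x₂E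
    rw [Pl.j₂e]
    calc m * (x2 * (ρ * e0 * ρ⁻¹) * (ρ * ρ * (e0 * e1) * ρ⁻¹ * ρ⁻¹)) =
          (m * x2) * (ρ * e0 * ρ⁻¹) * (ρ * ρ * (e0 * e1) * ρ⁻¹ * ρ⁻¹) := by group
      _ = x2 * (m * (ρ * e0 * ρ⁻¹)) * (ρ * ρ * (e0 * e1) * ρ⁻¹ * ρ⁻¹) := by rw [h1]; group
      _ = x2 * (ρ * e0 * ρ⁻¹) * (m * (ρ * ρ * (e0 * e1) * ρ⁻¹ * ρ⁻¹)) := by rw [mρ0]; group
      _ = x2 * (ρ * e0 * ρ⁻¹ * s) * (ρ * ρ * (e0 * e1) * ρ⁻¹ * ρ⁻¹) * m := by rw [mρ1]; group
      _ = (x2 * s) * (ρ * e0 * ρ⁻¹) * (ρ * ρ * (e0 * e1) * ρ⁻¹ * ρ⁻¹) * m := by rw [← s0]; group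
      _ = s * (x2 * (ρ * e0 * ρ⁻¹) * (ρ * ρ * (e0 * e1) * ρ⁻¹ * ρ⁻¹)) * m := by rw [← h2]; group
  -- `eb`
  have ebE := Pl.ebE
  have b0 : eb * e0 = e0 * eb := by
    calc eb * e0 = (eb * e0 * eb⁻¹ * e0⁻¹) * e0 * eb := by group
      _ = e0 * eb := by rw [Pl.eb₀, one_mul]
  have b1 : eb * e1 = u * e1 * eb := by
    calc eb * e1 = (eb * e1 * eb⁻¹ * e1⁻¹) * e1 * eb := by group
      _ = u * e1 * eb := by rw [Pl.eb₁]
  have bj : eb * j2 = u * z * s * j2 * eb := by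
    have h1 := Pl.kap
    rw [← hs] at h1
    have h2 : eb * j2 * eb⁻¹ * j2⁻¹ = u * z * s := by
      rw [← h1]
      calc eb * j2 * eb⁻¹ * j2⁻¹ = eb * j2 * eb⁻¹ * j2⁻¹ * (s * s) := by rw [ss, mul_one]
        _ = eb * j2 * eb⁻¹ * j2⁻¹ * s * s := by group
    rw [← h2]
    group
  -- `y = m eb`
  obtain ⟨y, hy⟩ : ∃ y, y = m * eb := ⟨_, rfl⟩
  have yE : ∀ {x : G}, x ∈ E → y * x = x * y := by
    intro x hx
    rw [hy]
    calc m * eb * x = m * (eb * x) := by group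
      _ = (m * x) * eb := by rw [L.EEc ebE hx]; group
      _ = x * (m * eb) := by rw [mE x hx]; group
  have y0 : y * e0 = e0 * y := by
    rw [hy]
    calc m * eb * e0 = m * (eb * e0) := by group
      _ = (m * e0) * eb := by rw [b0]; group
      _ = e0 * (m * eb) := by rw [me0]; group
  have y1 : y * e1 = e1 * y := by
    rw [hy]
    calc m * eb * e1 = m * (eb * e1) := by group
      _ = (m * u) * e1 * eb := by rw [b1]; group
      _ = u * (m * e1) * eb := by rw [mu]; group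
      _ = (u * u) * e1 * m * eb := by rw [he1]; group
      _ = e1 * (m * eb) := by rw [uu]; group
  have yU : ∀ {x : G}, x ∈ U → y * x = x * y := by
    intro x hx
    have h1 := Pl.gen _ (hU.1 hx)
    have h2 : k * (k⁻¹ * x * k) * k⁻¹ = x := by group
    rw [h2] at h1
    have h3 : closure ({z, u, ρ * u * ρ⁻¹, e0, e1} : Set G) ≤ centralizer ({y} : Set G) := by
      rw [closure_le]
      rintro w hw
      rw [SetLike.mem_coe, mem_centralizer_iff]
      rintro _ rfl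
      simp only [Set.mem_insert_iff, Set.mem_singleton_iff] at hw
      rcases hw with rfl | rfl | rfl | rfl | rfl
      · exact yE L.zE
      · exact yE Pl.uE
      · exact yE vE
      · exact y0
      · exact y1
    exact (mem_centralizer_iff.1 (h3 h1)) y rfl
  have yt : y * t = t * z * y := by
    rw [hy]
    calc m * eb * t = m * (eb * t) := by group
      _ = (m * t * m⁻¹) * m * eb := by rw [comm eb (EK ebE)]; group
      _ = t * z * (m * eb) := by rw [mt]; group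
  have yj : y * j2 = u * z * j2 * y := by
    rw [hy]
    calc m * eb * j2 = m * (eb * j2) := by group
      _ = (m * u) * z * s * j2 * eb := by rw [bj]; group
      _ = u * (m * z) * s * j2 * eb := by rw [mu]; group
      _ = u * z * (m * s) * j2 * eb := by rw [mz]; group
      _ = u * z * s * (m * j2) * eb := by rw [ms]; group
      _ = u * z * (s * s) * j2 * m * eb := by rw [mj]; group
      _ = u * z * j2 * (m * eb) := by rw [ss]; group
  have yR : ∀ {r : G}, r ∈ R → ∃ ζ : G, (ζ = 1 ∨ ζ = z) ∧ y * r = ζ * r * y := by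
    intro r hr
    have h1 : ∃ ζ : G, (ζ = 1 ∨ ζ = z) ∧ eb * r = ζ * r * eb := by
      rcases L.RE r hr eb ebE with h' | h'
      · refine ⟨1, Or.inl rfl, ?_⟩
        calc eb * r = (r * eb * r⁻¹ * eb⁻¹) * eb * r := by rw [h']; group
          _ = 1 * r * eb := by group
      · refine ⟨z, Or.inr rfl, ?_⟩
        calc eb * r = z * z * eb * r := by rw [L.zz, one_mul]
          _ = z * ((r * eb * r⁻¹ * eb⁻¹) * eb * r) := by rw [h']; group
          _ = z * r * eb := by group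
    have h2 : ∃ ζ : G, (ζ = 1 ∨ ζ = z) ∧ m * r = ζ * r * m := by
      rcases mR r hr with h' | h'
      · refine ⟨1, Or.inl rfl, ?_⟩
        calc m * r = (m * r * m⁻¹) * m := by group
          _ = 1 * r * m := by rw [h']; group
      · refine ⟨z, Or.inr rfl, ?_⟩
        calc m * r = (m * r * m⁻¹) * m := by group
          _ = r * z * m := by rw [h']
          _ = z * r * m := by rw [L.Pz r (L.RP hr)]
    obtain ⟨a, ha, ha'⟩ := h1
    obtain ⟨b, hb, hb'⟩ := h2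
    refine ⟨a * b, ?_, ?_⟩
    · rcases ha with rfl | rfl <;> rcases hb with rfl | rfl
      · left; group
      · right; group
      · right; group
      · left; exact L.zz
    · have h3 : m * a = a * m := by
        rcases ha with rfl | rfl
        · group
        · exact mz
      rw [hy]
      calc m * eb * r = m * (eb * r) := by group
        _ = (m * a) * r * eb := by rw [ha']; group
        _ = a * (m * r) * eb := by rw [h3]; group
        _ = a * b * r * (m * eb) := by rw [hb']; group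
  -- `h`
  have hh : h = h⁻¹ * h⁻¹ := by
    calc h = (h * h * h) * h⁻¹ * h⁻¹ := by group
      _ = h⁻¹ * h⁻¹ := by rw [Pl.h₀, one_mul]
  have hi : h⁻¹ = h * h := by
    calc h⁻¹ = (h * h * h) * h⁻¹ := by rw [Pl.h₀, one_mul]
      _ = h * h := by group
  have hU1 : ∀ {x : G}, x ∈ U → h⁻¹ * x * h ∈ U := by
    intro x hx
    have h1 := Pl.hE _ (hU.1 hx)
    refine hU.2 ?_
    have h2 : k⁻¹ * (h⁻¹ * (k * (k⁻¹ * x * k) * k⁻¹) * h) * k = k⁻¹ * (h⁻¹ * x * h) * k := by group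
    rwa [h2] at h1
  have hU2 : ∀ {x : G}, x ∈ U → h * x * h⁻¹ ∈ U := by
    intro x hx
    have h1 := hU1 (hU1 hx)
    have h2 : h * x * h⁻¹ = h⁻¹ * (h⁻¹ * x * h) * h := by
      calc h * x * h⁻¹ = (h⁻¹ * h⁻¹) * x * (h⁻¹ * h⁻¹)⁻¹ := by rw [← hh]
        _ = h⁻¹ * (h⁻¹ * x * h) * h := by simp only [mul_inv_rev, inv_inv, mul_assoc]
    rw [h2]
    exact h1
  obtain ⟨b, hb⟩ : ∃ b, b = h * z * h⁻¹ := ⟨_, rfl⟩
  obtain ⟨c, hc⟩ : ∃ c, c = h⁻¹ * z * h := ⟨_, rfl⟩
  have bU : b ∈ U := by rw [hb]; exact hU2 zU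
  have cU : c ∈ U := by rw [hc]; exact hU1 zU
  have bb : b * b = 1 := by
    rw [hb]
    calc h * z * h⁻¹ * (h * z * h⁻¹) = h * (z * z) * h⁻¹ := by group
      _ = 1 := by rw [L.zz]; group
  have cc : c * c = 1 := by
    rw [hc]
    calc h⁻¹ * z * h * (h⁻¹ * z * h) = h⁻¹ * (z * z) * h := by group
      _ = 1 := by rw [L.zz]; group
  have zbc : z * b * c = 1 := by rw [hb, hc]; exact Pl.hz
  have zb := UU zU bU
  have zc := UU zU cU
  have cbz : c * b * z = 1 := by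
    have h1 : (z * b * c)⁻¹ = 1 := by rw [zbc, inv_one]
    rw [mul_inv_rev, mul_inv_rev, inv_eq_of_mul_eq_one_left cc, inv_eq_of_mul_eq_one_left bb,
      inv_eq_of_mul_eq_one_left L.zz, ← mul_assoc] at h1
    exact h1
  -- conjugates of `y`
  obtain ⟨p, hp⟩ : ∃ p, p = h * y * h⁻¹ := ⟨_, rfl⟩
  obtain ⟨q, hq⟩ : ∃ q, q = h⁻¹ * y * h := ⟨_, rfl⟩
  have pU : ∀ {x : G}, x ∈ U → p * x = x * p := by
    intro x hx
    rw [hp]
    calc h * y * h⁻¹ * x = h * (y * (h⁻¹ * x * h)) * h⁻¹ := by group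
      _ = x * (h * y * h⁻¹) := by rw [yU (hU1 hx)]; group
  have qU : ∀ {x : G}, x ∈ U → q * x = x * q := by
    intro x hx
    rw [hq]
    calc h⁻¹ * y * h * x = h⁻¹ * (y * (h * x * h⁻¹)) * h := by group
      _ = x * (h⁻¹ * y * h) := by rw [yU (hU2 hx)]; group
  have ht := comm h Pl.hK
  have ht' := comm _ (inv_mem Pl.hK)
  have pt : p * t = t * b * p := by
    rw [hp, hb]
    calc h * y * h⁻¹ * t = h * y * (h⁻¹ * t) := by group
      _ = h * (y * t) * h⁻¹ := by rw [ht']; group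
      _ = (h * t) * z * y * h⁻¹ := by rw [yt]; group
      _ = t * (h * z * h⁻¹) * (h * y * h⁻¹) := by rw [ht]; group
  have qt : q * t = t * c * q := by
    rw [hq, hc]
    calc h⁻¹ * y * h * t = h⁻¹ * y * (h * t) := by group
      _ = h⁻¹ * (y * t) * h := by rw [ht]; group
      _ = (h⁻¹ * t) * z * y * h := by rw [yt]; group
      _ = t * (h⁻¹ * z * h) * (h⁻¹ * y * h) := by rw [ht']; group
  obtain ⟨w, hw⟩ : ∃ w, w = y * p * q := ⟨_, rfl⟩
  have wU : ∀ {x : G}, x ∈ U → w * x = x * w := by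
    intro x hx
    rw [hw]
    calc y * p * q * x = y * p * (q * x) := by group
      _ = y * (p * x) * q := by rw [qU hx]; group
      _ = (y * x) * p * q := by rw [pU hx]; group
      _ = x * (y * p * q) := by rw [yU hx]; group
  have wt : w * t = t * w := by
    rw [hw]
    calc y * p * q * t = y * p * (q * t) := by group
      _ = y * (p * t) * c * q := by rw [qt]; group
      _ = (y * t) * b * (p * c) * q := by rw [pt]; group
      _ = t * z * (y * b) * c * p * q := by rw [yt, pU cU]; group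
      _ = t * z * b * (y * c) * p * q := by rw [yU bU]; group
      _ = t * (z * b * c) * (y * p * q) := by rw [yU cU]; group
      _ = t * (y * p * q) := by rw [zbc, mul_one]
  -- `[w, f]`
  obtain ⟨a0, ha0, ha0'⟩ := yR Pl.fR
  obtain ⟨a1, ha1, ha1'⟩ := yR Pl.fR₁
  obtain ⟨a2, ha2, ha2'⟩ := yR Pl.fR₂
  have pf : p * f = (h * a1 * h⁻¹) * f * p := by
    rw [hp]
    calc h * y * h⁻¹ * f = h * (y * (h⁻¹ * f * h)) * h⁻¹ := by group
      _ = (h * a1 * h⁻¹) * f * (h * y * h⁻¹) := by rw [ha1']; group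
  have qf : q * f = (h⁻¹ * a2 * h) * f * q := by
    rw [hq]
    calc h⁻¹ * y * h * f = h⁻¹ * (y * (h * f * h⁻¹)) * h := by group
      _ = (h⁻¹ * a2 * h) * f * (h⁻¹ * y * h) := by rw [ha2']; group
  have hα : h * a1 * h⁻¹ = 1 ∨ h * a1 * h⁻¹ = b := by
    rcases ha1 with rfl | rfl
    · left; group
    · right; exact hb.symm
  have hβ : h⁻¹ * a2 * h = 1 ∨ h⁻¹ * a2 * h = c := by
    rcases ha2 with rfl | rfl
    · left; group
    · right; exact hc.symm
  generalize h * a1 * h⁻¹ = α at pf hα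
  generalize h⁻¹ * a2 * h = β at qf hβ
  have αU : α ∈ U := by
    rcases hα with rfl | rfl
    · exact one_mem _
    · exact bU
  have βU : β ∈ U := by
    rcases hβ with rfl | rfl
    · exact one_mem _
    · exact cU
  have wf : w * f = β * α * a0 * f * w := by
    rw [hw]
    calc y * p * q * f = y * p * (q * f) := by group
      _ = y * (p * β) * f * q := by rw [qf]; group
      _ = (y * β) * (p * f) * q := by rw [pU βU]; group
      _ = β * (y * α) * f * p * q := by rw [yU βU, pf]; group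
      _ = β * α * (y * f) * p * q := by rw [yU αU]; group
      _ = β * α * a0 * f * (y * p * q) := by rw [ha0']; group
  have hX : β * α * a0 = 1 ∨ β * α * a0 = z ∨ β * α * a0 = h * z * h⁻¹ ∨ β * α * a0 = h⁻¹ * z * h := by
    rw [← hb, ← hc]
    have c1 : c = z * b := by
      have h1 : c = (z * b)⁻¹ := eq_inv_of_mul_eq_one_right zbc
      rw [h1, mul_inv_rev, inv_eq_of_mul_eq_one_left bb, inv_eq_of_mul_eq_one_left L.zz, zb]
    have b1' : c * z = b := by
      rw [← zc, c1, ← mul_assoc, L.zz, one_mul]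
    have b2' : c * b = z := by
      rw [c1, mul_assoc, bb, mul_one]
    rcases hβ with h1 | h1 <;> rcases hα with h2 | h2 <;> rcases ha0 with h3 | h3 <;> rw [h1, h2, h3]
    · left; group
    · right; left; group
    · right; right; left; group
    · right; right; right
      rw [c1, zb, one_mul]
    · right; right; right; group
    · right; right; left
      rw [mul_one, b1']
    · right; left
      rw [b2', mul_one]
    · left
      rw [b2', L.zz]
  have fK : f ∈ K := L.PK (L.RP Pl.fR)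
  have jK : j2 ∈ K := by
    have h1 := mul_mem (mul_mem Pl.kK (L.PK (L.RP (L.BR Pl.j₂B)))) (inv_mem Pl.kK)
    have h2 : k * (k⁻¹ * j2 * k) * k⁻¹ = j2 := by group
    rwa [h2] at h1
  -- `w j₂ = j₂ w`
  have wj : w * j2 = j2 * w := by
    -- for `w' ∈ K` which agrees with `w` up to `t`
    have gen : ∀ w' : G, w' ∈ K → (∀ x ∈ U, w' * x = x * w') → w' * f * w'⁻¹ * f⁻¹ = β * α * a0 →
        w' * j2 = j2 * w' := by
      intro w' h1 h2 h3
      have h4 : k⁻¹ * w' * k ∈ K := mul_mem (mul_mem (inv_mem Pl.kK) h1) Pl.kK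
      have h5 : k⁻¹ * w' * k ∈ B := (L.cenE _ h4).2 (by
        intro e he
        have h6 : k * e * k⁻¹ ∈ U := hU.2 (by
          have : k⁻¹ * (k * e * k⁻¹) * k = e := by group
          rw [this]; exact he)
        have h7 := h2 _ h6
        calc k⁻¹ * w' * k * e = k⁻¹ * (w' * (k * e * k⁻¹)) * k := by group
          _ = e * (k⁻¹ * w' * k) := by rw [h7]; group)
      have h6 := Pl.fb _ h5 ⟨β * α * a0, hX, by
        rw [← h3]
        group⟩
      have h7 := (L.cenE _ (L.PK (L.RP (L.BR Pl.j₂B)))).1 Pl.j₂B _ h6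
      calc w' * j2 = k * ((k⁻¹ * w' * k) * (k⁻¹ * j2 * k)) * k⁻¹ := by group
        _ = j2 * w' := by rw [← h7]; group
    have h3 : w * f * w⁻¹ * f⁻¹ = β * α * a0 := by rw [wf]; group
    rcases cen w wt with h1 | h1
    · exact gen w h1 (fun x hx => wU hx) h3
    · have h4 := gen (t * w) h1 (by
        intro x hx
        calc t * w * x = t * (w * x) := by group
          _ = (t * x) * w := by rw [wU hx]; group
          _ = x * (t * w) := by rw [← comm x (UK hx)]; group) (by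
        have h5 : t⁻¹ * f⁻¹ = f⁻¹ * t⁻¹ := by
          rw [← mul_inv_rev, ← mul_inv_rev, comm f fK]
        calc t * w * f * (t * w)⁻¹ * f⁻¹ = t * w * f * w⁻¹ * (t⁻¹ * f⁻¹) := by group
          _ = t * (w * f * w⁻¹ * f⁻¹) * t⁻¹ := by rw [h5]; group
          _ = t * (β * α * a0) * t⁻¹ := by rw [h3]
          _ = β * α * a0 := by
              have h6 : β * α * a0 ∈ K := by
                refine mul_mem (mul_mem (UK βU) (UK αU)) ?_
                rcases ha0 with rfl | rfl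
                · exact one_mem _
                · exact L.zK
              rw [← comm _ h6]; group)
      have h5 : t * (w * j2) = t * (j2 * w) := by
        calc t * (w * j2) = t * w * j2 := by group
          _ = j2 * (t * w) := h4
          _ = (j2 * t) * w := by group
          _ = t * (j2 * w) := by rw [comm j2 jK]; group
      exact mul_left_cancel h5
  -- `w j₂ = u j₂ w`
  have hu' : h⁻¹ * u = u * h⁻¹ := by
    calc h⁻¹ * u = h⁻¹ * (u * h) * h⁻¹ := by group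
      _ = u * h⁻¹ := by rw [← Pl.hu]; group
  have xU : j2⁻¹ * (h⁻¹ * j2 * h) ∈ U := hU.2 Pl.hj
  have xU' : j2⁻¹ * (h * j2 * h⁻¹) ∈ U := by
    have h1 := inv_mem (hU2 xU)
    have h2 : (h * (j2⁻¹ * (h⁻¹ * j2 * h)) * h⁻¹)⁻¹ = j2⁻¹ * (h * j2 * h⁻¹) := by group
    rwa [h2] at h1
  have pj : p * j2 = u * b * j2 * p := by
    rw [hp, hb]
    have h1 : y * (h⁻¹ * j2 * h) = u * z * (h⁻¹ * j2 * h) * y := by
      calc y * (h⁻¹ * j2 * h) = (y * j2) * (j2⁻¹ * (h⁻¹ * j2 * h)) := by group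
        _ = u * z * j2 * (y * (j2⁻¹ * (h⁻¹ * j2 * h))) := by rw [yj]; group
        _ = u * z * (h⁻¹ * j2 * h) * y := by rw [yU xU]; group
    calc h * y * h⁻¹ * j2 = h * (y * (h⁻¹ * j2 * h)) * h⁻¹ := by group
      _ = (h * u) * z * h⁻¹ * j2 * (h * y * h⁻¹) := by rw [h1]; group
      _ = u * (h * z * h⁻¹) * j2 * (h * y * h⁻¹) := by rw [Pl.hu]; group
  have qj : q * j2 = u * c * j2 * q := by
    rw [hq, hc]
    have h1 : y * (h * j2 * h⁻¹) = u * z * (h * j2 * h⁻¹) * y := by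
      calc y * (h * j2 * h⁻¹) = (y * j2) * (j2⁻¹ * (h * j2 * h⁻¹)) := by group
        _ = u * z * j2 * (y * (j2⁻¹ * (h * j2 * h⁻¹))) := by rw [yj]; group
        _ = u * z * (h * j2 * h⁻¹) * y := by rw [yU xU']; group
    calc h⁻¹ * y * h * j2 = h⁻¹ * (y * (h * j2 * h⁻¹)) * h := by group
      _ = (h⁻¹ * u) * z * h * j2 * (h⁻¹ * y * h) := by rw [h1]; group
      _ = u * (h⁻¹ * z * h) * j2 * (h⁻¹ * y * h) := by rw [hu']; group
  have wj' : w * j2 = u * j2 * w := by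
    have ucU : u * c ∈ U := mul_mem uU cU
    have ubU : u * b ∈ U := mul_mem uU bU
    rw [hw]
    calc y * p * q * j2 = y * p * (q * j2) := by group
      _ = y * (p * (u * c)) * j2 * q := by rw [qj]; group
      _ = (y * (u * c)) * (p * j2) * q := by rw [pU ucU]; group
      _ = (u * c) * (y * (u * b)) * j2 * p * q := by rw [yU ucU, pj]; group
      _ = (u * c) * (u * b) * (y * j2) * p * q := by rw [yU ubU]; group
      _ = (u * c) * (u * b) * (u * z) * j2 * (y * p * q) := by rw [yj]; group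
      _ = u * j2 * (y * p * q) := by
          have h1 : (u * c) * (u * b) * (u * z) = u := by
            calc (u * c) * (u * b) * (u * z) = u * (c * u) * (b * u) * z := by group
              _ = u * (u * c) * (u * b) * z := by rw [UU cU uU, UU bU uU]
              _ = (u * u) * (c * u) * b * z := by group
              _ = u * (c * b * z) := by rw [uu, UU cU uU]; group
              _ = u := by rw [cbz, mul_one]
          rw [h1]
  apply u1
  have h1 : u * (j2 * w) = 1 * (j2 * w) := by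
    rw [one_mul, ← mul_assoc, ← wj', wj]
  exact mul_right_cancel h1

end Cfsg.Agent.OddHalf.D8.RuFam

end

-- merged: Cfsg.Agent.OddHalf.D8.RuFam.Exists
section

/-!
# ODD half, D8, K = Ru: existence of the family (helper936)

`exists_a_of`: from `C_G(t) = ⟨t⟩ × K`, an element `x` with `tˣ = t z`, `[x, z] = 1` and the facts `Loc`, `Plane`,
`Twist` on `K`, an involution `a` with `tᵃ = t z` centralising `C_K(z)`; `exists_fam_of`: the equivariant family.
-/

set_option autoImplicit false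

namespace Cfsg.Agent.OddHalf.D8.RuFam

open Subgroup

variable {G : Type*} [Group G] {t z : G} {K P₀ R B E : Subgroup G}
  {k u ρ g j e₀ e₁ g₂ eb j₂ x₂ h f k₂ k₃ v f₂ : G}

theorem exists_a_of [Finite G] (H : Pos t K) (L : Loc K z P₀ R B E)
    (Q : Plane K z P₀ R B E k u ρ g j e₀ e₁ g₂ eb j₂ x₂ h f) (T : Twist K z P₀ k₂ k₃ v f₂) {x : G}
    (hx : x * t * x⁻¹ = t * z) (xz : x * z * x⁻¹ = z) :
    ∃ a : G, a * a = 1 ∧ a * t * a = t * z ∧ ∀ k ∈ K, k * z = z * k → k * a = a * k := by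
  have hY : YY t z x := ⟨hx, by
    calc x * z = x * z * x⁻¹ * x := by group
      _ = z * x := by rw [xz]⟩
  obtain ⟨y, hy, hyE⟩ := exists_cent H L hY
  obtain ⟨m₀, hm₀⟩ := exists_m H L hy hyE
  obtain ⟨m, M, hρ⟩ := exists_rho H L hm₀ Q.ρP Q.ρ3
  have h0 := Q.comm_e₀ H L M hρ
  obtain ⟨ζ, hζ, h1⟩ := Q.zeta H L M hρ
  rcases hζ with rfl | rfl
  · have h2 : m * e₁ * m⁻¹ = e₁ := by rw [h1, one_mul]
    exact exists_a L T H.tt H.tK H.comm H.cen M.yt M.mR (Q.comm_B H L M hρ h2) (M.toYY.norP H L)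
  · exfalso
    refine false_of_e1 L Q H.comm H.cen M.yt M.mE M.mR hρ ?_ (by rw [h1]; group)
    calc m * e₀ = m * e₀ * m⁻¹ * m := by group
      _ = e₀ * m := by rw [h0]

/-- **existence of the equivariant family** -/
theorem exists_fam_of [Finite G] (H : Pos t K) (L : Loc K z P₀ R B E)
    (Q : Plane K z P₀ R B E k u ρ g j e₀ e₁ g₂ eb j₂ x₂ h f) (T : Twist K z P₀ k₂ k₃ v f₂) {x : G}
    (hx : x * t * x⁻¹ = t * z) (xz : x * z * x⁻¹ = z) :
    ∃ a : G → G, Phi.Fam t K {v | ∃ k ∈ K, v = k * z * k⁻¹} a := by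
  obtain ⟨e, ee, et, ez⟩ := exists_a_of H L Q T hx xz
  obtain ⟨a, ha, -⟩ := Phi.exists_fam H.tt H.tK H.comm H.cen L.zK L.zz ee et ez
  exact ⟨a, ha⟩

end Cfsg.Agent.OddHalf.D8.RuFam

end

-- merged: Cfsg.Agent.OddHalf.D8.RuFam.Map
section

/-!
# ODD half, D8, `K = Ru`: transport of the `K`-facts along an injective homomorphism

`Loc.map`, `Plane.map`, `Twist.map` : from the facts for `⊤ ≤ X` to the facts for `φ.range ≤ G`, `φ : X →* G` injective.
-/

set_option autoImplicit false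

namespace Cfsg.Agent.OddHalf.D8.RuFam

open Subgroup

variable {X G : Type*} [Group X] [Group G] {φ : X →* G}

theorem map_comap_of_le {Q : Subgroup G} {S : Subgroup X} (h : Q ≤ S.map φ) : (Q.comap φ).map φ = Q := by
  rw [Subgroup.map_comap_eq, inf_eq_right]
  exact h.trans (Subgroup.map_le_range φ S)

theorem Loc.map (hφ : Function.Injective φ) {z : X} {P0 R B E : Subgroup X} (L : Loc (⊤ : Subgroup X) z P0 R B E) :
    Loc φ.range (φ z) (P0.map φ) (R.map φ) (B.map φ) (E.map φ) := by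
  have im : ∀ {S : Subgroup X} {x : X}, φ x ∈ S.map φ ↔ x ∈ S := fun {S x} => Subgroup.mem_map_iff_mem hφ
  refine
    { zK := ⟨z, rfl⟩
      zz := by simpa only [map_mul, map_one] using congrArg φ L.zz
      z1 := fun h => L.z1 (hφ (by rw [h, map_one]))
      PK := Subgroup.map_le_range φ P0
      Pz := ?_
      perf := ?_
      com := ?_
      idx := ?_
      card := ?_
      RP := Subgroup.map_mono L.RP
      R2 := L.R2.map φ
      Rn := ?_
      Rmax := ?_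
      RR := ?_
      zE := im.2 L.zE
      EE := ?_
      RE := ?_
      ZR := ?_
      BR := Subgroup.map_mono L.BR
      cenE := ?_
      BP := ?_
      BB := ?_
      BE := ?_
      RRP := ?_
      hom4 := ?_
      dual := ?_
      five := ?_ }
  · rintro _ ⟨p, hp, rfl⟩
    rw [← map_mul, ← map_mul, L.Pz p hp]
  · rw [← Subgroup.map_commutator, L.perf]
  · rintro _ ⟨p, rfl⟩ _ ⟨q, rfl⟩ h1 h2
    rw [← map_mul, ← map_mul] at h1 h2
    have := L.com p (mem_top _) q (mem_top _) (hφ h1) (hφ h2)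
    simpa only [map_mul, map_inv] using im.2 this
  · rintro _ ⟨p, rfl⟩ _ ⟨q, rfl⟩ h1 h2 h3 h4
    rw [← map_mul, ← map_mul] at h1 h2
    have := L.idx p (mem_top _) q (mem_top _) (hφ h1) (hφ h2) (fun h => h3 (im.2 h)) (fun h => h4 (im.2 h))
    simpa only [map_mul, map_inv] using im.2 this
  · have h1 : Nat.card (P0.map φ) = Nat.card P0 :=
      Nat.card_congr (P0.equivMapOfInjective φ hφ).toEquiv.symm
    rw [h1]
    exact L.card
  · rintro _ ⟨p, hp, rfl⟩ _ ⟨r, hr, rfl⟩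
    simpa only [map_mul, map_inv] using im.2 (L.Rn p hp r hr)
  · intro Q hQ h2 h3
    rw [← map_comap_of_le hQ]
    refine Subgroup.map_mono (L.Rmax _ ?_ (h2.comap_of_injective φ hφ) ?_)
    · intro x hx
      exact im.1 (hQ hx)
    · intro p hp q hq
      rw [mem_comap] at hq ⊢
      simpa only [map_mul, map_inv] using h3 _ (im.2 hp) _ hq
  · rw [← Subgroup.map_commutator, L.RR]
  · rintro _ ⟨e, he, rfl⟩
    simpa only [map_mul, map_one] using congrArg φ (L.EE e he)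
  · rintro _ ⟨r, hr, rfl⟩ _ ⟨e, he, rfl⟩
    rcases L.RE r hr e he with h | h
    · left; simpa only [map_mul, map_inv, map_one] using congrArg φ h
    · right; simpa only [map_mul, map_inv] using congrArg φ h
  · rintro _ ⟨e, he, rfl⟩ h
    rcases L.ZR e he (fun r hr => hφ (by simpa only [map_mul] using h _ (im.2 hr))) with h | h
    · left; rw [h, map_one]
    · right; rw [h]
  · rintro _ ⟨k, rfl⟩
    rw [im, L.cenE k (mem_top _)]
    constructor
    · rintro h _ ⟨e, he, rfl⟩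
      simpa only [map_mul] using congrArg φ (h e he)
    · intro h e he
      exact hφ (by simpa only [map_mul] using h _ (im.2 he))
  · rintro _ ⟨b, hb, rfl⟩ _ ⟨p, hp, rfl⟩
    simpa only [map_mul, map_inv] using im.2 (L.BP b hb p hp)
  · rintro _ ⟨b, hb, rfl⟩ _ ⟨c, hc, rfl⟩
    rcases L.BB b hb c hc with h | h
    · left; simpa only [map_mul, map_inv, map_one] using congrArg φ h
    · right; simpa only [map_mul, map_inv] using congrArg φ h
  · rintro _ ⟨b, hb, rfl⟩ h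
    refine im.2 (L.BE b hb fun r hr => ?_)
    rcases h _ (im.2 hr) with h | h
    · left; exact hφ (by simpa only [map_mul, map_inv, map_one] using h)
    · right; exact hφ (by simpa only [map_mul, map_inv] using h)
  · rw [← Subgroup.map_commutator]
    exact Subgroup.map_mono L.RRP
  · obtain ⟨r, hr, h1, h2⟩ := L.hom4
    refine ⟨φ r, im.2 hr, ?_, ?_⟩
    · intro Q h3 h4 h5
      rw [Subgroup.map_le_iff_le_comap]
      refine h1 _ (Subgroup.map_le_iff_le_comap.1 h3) h4 ?_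
      intro p hp q hq
      rw [mem_comap] at hq ⊢
      simpa only [map_mul, map_inv] using h5 _ (im.2 hp) _ hq
    · rintro _ ⟨e, he, rfl⟩ h3
      obtain ⟨b, hb, h4⟩ := h2 e he (by
        intro p hp h4
        have h5 := h3 _ (im.2 hp) (by simpa only [map_mul, map_inv] using im.2 h4)
        rcases h5 with h5 | h5
        · left; exact hφ (by simpa only [map_mul, map_inv, map_one] using h5)
        · right; exact hφ (by simpa only [map_mul, map_inv] using h5))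
      refine ⟨φ b, im.2 hb, ?_⟩
      rcases h4 with h4 | h4
      · left; simpa only [map_mul, map_inv] using congrArg φ h4
      · right; simpa only [map_mul, map_inv] using congrArg φ h4
  · intro Q h1 h2 h3
    obtain ⟨e, he, h4⟩ := L.dual (Q.comap φ) (fun x hx => im.1 (h1 hx)) (Subgroup.map_le_iff_le_comap.1 h2) (by
      intro r hr s hs h4 h5
      rw [mem_comap] at h4 h5 ⊢
      rw [map_mul]
      exact h3 _ (im.2 hr) _ (im.2 hs) h4 h5)
    refine ⟨φ e, im.2 he, ?_⟩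
    rintro _ ⟨r, hr, rfl⟩
    have h5 := h4 r hr
    rw [mem_comap] at h5
    rw [h5]
    constructor
    · intro h; simpa only [map_mul] using congrArg φ h
    · intro h; exact hφ (by simpa only [map_mul] using h)
  · obtain ⟨a, ha, a5, a1, ⟨n, -, hnz, hna⟩, h1⟩ := L.five
    refine ⟨φ a, im.2 ha, ?_, fun h => a1 (hφ (by rw [h, map_one])), ⟨φ n, ⟨n, rfl⟩, ?_, ?_⟩, ?_⟩
    · rw [← map_pow, a5, map_one]
    · rw [← map_mul, ← map_mul, hnz]
    · rw [← map_pow, ← hna]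
      simp only [map_mul, map_inv]
    · intro Q h2 h3 h4
      rcases h1 (Q.comap φ) (fun x hx => im.1 (h2 hx)) h3 (by
        intro q hq
        rw [mem_comap] at hq ⊢
        simpa only [map_mul, map_inv] using h4 _ hq) with h5 | h5
      · left
        intro q hq
        obtain ⟨x, hx, rfl⟩ := h2 hq
        rcases h5 x hq with h6 | h6
        · left; rw [h6, map_one]
        · right; rw [h6]
      · right
        rw [← map_comap_of_le h2, h5]

theorem Plane.map (hφ : Function.Injective φ) {z : X} {P0 R B E : Subgroup X}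
    {k u ρ g j e0 e1 g2 eb j2 x2 h f : X}
    (Pl : Plane (⊤ : Subgroup X) z P0 R B E k u ρ g j e0 e1 g2 eb j2 x2 h f) :
    Plane φ.range (φ z) (P0.map φ) (R.map φ) (B.map φ) (E.map φ) (φ k) (φ u) (φ ρ) (φ g) (φ j) (φ e0) (φ e1)
      (φ g2) (φ eb) (φ j2) (φ x2) (φ h) (φ f) := by
  have im : ∀ {S : Subgroup X} {x : X}, φ x ∈ S.map φ ↔ x ∈ S := fun {S x} => Subgroup.mem_map_iff_mem hφ
  refine
    { kK := ⟨k, rfl⟩
      ku := by simpa only [map_mul, map_inv] using congrArg φ Pl.ku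
      uE := im.2 Pl.uE
      zEu := by simpa only [map_mul, map_inv] using im.2 Pl.zEu
      ρP := im.2 Pl.ρP
      ρ3 := by simpa only [map_mul, map_inv, map_one] using congrArg φ Pl.ρ3
      ρu := by simpa only [map_mul, map_inv, map_one] using congrArg φ Pl.ρu
      uEu := by simpa only [map_mul, map_inv] using im.2 Pl.uEu
      ρE := ?_
      gK := ⟨g, rfl⟩
      gz := by simpa only [map_mul, map_inv] using congrArg φ Pl.gz
      gρ := by simpa only [map_mul, map_inv] using congrArg φ Pl.gρ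
      gu := by simpa only [map_mul, map_inv] using congrArg φ Pl.gu
      e₀E := by simpa only [map_mul, map_inv] using im.2 Pl.e₀E
      e₀R := im.2 Pl.e₀R
      e₁E := by simpa only [map_mul, map_inv] using im.2 Pl.e₁E
      e₁P := im.2 Pl.e₁P
      gen := ?_
      test := ?_
      jB := im.2 Pl.jB
      N₀ := by simpa only [map_mul, map_inv] using im.2 Pl.N₀
      N₁ := by simpa only [map_mul, map_inv] using im.2 Pl.N₁
      ge₁ := by simpa only [map_mul, map_inv] using im.2 Pl.ge₁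
      Bj := ?_
      g₂R := im.2 Pl.g₂R
      jgen := ?_
      ebE := im.2 Pl.ebE
      eb₀ := by simpa only [map_mul, map_inv, map_one] using congrArg φ Pl.eb₀
      eb₁ := by simpa only [map_mul, map_inv, map_one] using congrArg φ Pl.eb₁
      j₂B := by simpa only [map_mul, map_inv] using im.2 Pl.j₂B
      x₂E := im.2 Pl.x₂E
      j₂e := by simpa only [map_mul, map_inv] using congrArg φ Pl.j₂e
      kap := by simpa only [map_mul, map_inv] using congrArg φ Pl.kap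
      h₀ := by simpa only [map_mul, map_inv, map_one] using congrArg φ Pl.h₀
      hK := ⟨h, rfl⟩
      hu := by simpa only [map_mul, map_inv] using congrArg φ Pl.hu
      hE := ?_
      hj := by simpa only [map_mul, map_inv] using im.2 Pl.hj
      hz := by simpa only [map_mul, map_inv, map_one] using congrArg φ Pl.hz
      fR := im.2 Pl.fR
      fR₁ := by simpa only [map_mul, map_inv] using im.2 Pl.fR₁
      fR₂ := by simpa only [map_mul, map_inv] using im.2 Pl.fR₂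
      fb := ?_ }
  · rintro _ ⟨e, he, rfl⟩ h1
    rcases Pl.ρE e he (hφ (by simpa only [map_mul] using h1)) with h2 | h2
    · left; rw [h2, map_one]
    · right; rw [h2]
  · rintro _ ⟨x, hx, rfl⟩
    have h1 := mem_map_of_mem φ (Pl.gen x hx)
    rw [MonoidHom.map_closure] at h1
    simpa only [Set.image_insert_eq, Set.image_singleton, map_mul, map_inv] using h1
  · rintro _ ⟨ζ, hζ, rfl⟩ h1
    have h2 := mem_map_of_mem φ (Pl.test ζ hζ (by
      intro c hc h2
      have h3 := h1 _ (im.2 hc) (by simpa only [map_mul, map_inv] using im.2 h2)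
      exact hφ (by simpa only [map_mul] using h3)))
    rw [MonoidHom.map_closure] at h2
    simpa only [Set.image_insert_eq, Set.image_singleton, map_mul, map_inv] using h2
  · rintro _ ⟨b, hb, rfl⟩
    rcases Pl.Bj b hb with h1 | h1 | h1 | h1
    · left; exact im.2 h1
    · right; left; simpa only [map_mul, map_inv] using im.2 h1
    · right; right; left; simpa only [map_mul, map_inv] using im.2 h1
    · right; right; right; simpa only [map_mul, map_inv] using im.2 h1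
  · have h1 := mem_map_of_mem φ Pl.jgen
    rw [MonoidHom.map_closure] at h1
    simpa only [Set.image_union, Set.image_insert_eq, Set.image_singleton, map_mul, map_inv, coe_map] using h1
  · rintro _ ⟨x, hx, rfl⟩
    simpa only [map_mul, map_inv] using im.2 (Pl.hE x hx)
  · rintro _ ⟨b, hb, rfl⟩ ⟨y, h1, h2⟩
    refine im.2 (Pl.fb b hb ⟨k * b * k⁻¹ * f * (k * b * k⁻¹)⁻¹ * f⁻¹, ?_, rfl⟩)
    have h3 : φ (k * b * k⁻¹ * f * (k * b * k⁻¹)⁻¹ * f⁻¹) = y := by
      rw [← h2]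
      simp only [map_mul, map_inv]
    rcases h1 with h1 | h1 | h1 | h1
    · left; exact hφ (by rw [h3, h1, map_one])
    · right; left; exact hφ (by rw [h3, h1])
    · right; right; left; exact hφ (by rw [h3, h1]; simp only [map_mul, map_inv])
    · right; right; right; exact hφ (by rw [h3, h1]; simp only [map_mul, map_inv])

theorem Twist.map (hφ : Function.Injective φ) {z : X} {P0 : Subgroup X} {k2 k3 v f2 : X}
    (T : Twist (⊤ : Subgroup X) z P0 k2 k3 v f2) :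
    Twist φ.range (φ z) (P0.map φ) (φ k2) (φ k3) (φ v) (φ f2) := by
  have im : ∀ {S : Subgroup X} {x : X}, φ x ∈ S.map φ ↔ x ∈ S := fun {S x} => Subgroup.mem_map_iff_mem hφ
  refine
    { k₂K := ⟨k2, rfl⟩
      k₃K := ⟨k3, rfl⟩
      kv := by simpa only [map_mul, map_inv] using congrArg φ T.kv
      kzv := by simpa only [map_mul, map_inv] using congrArg φ T.kzv
      vP := im.2 T.vP
      z₂ := by simpa only [map_mul, map_inv] using im.2 T.z₂
      z₃ := by simpa only [map_mul, map_inv] using im.2 T.z₃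
      v₃ := by simpa only [map_mul, map_inv] using im.2 T.v₃
      fK := ⟨f2, rfl⟩
      fz := by simpa only [map_mul, map_inv] using congrArg φ T.fz
      fv := by simpa only [map_mul, map_inv] using congrArg φ T.fv
      n₁ := fun h => T.n₁ (im.1 h)
      n₂ := fun h => T.n₂ (im.1 (by simpa only [map_mul, map_inv] using h))
      n₃ := by simpa only [map_mul, map_inv] using im.2 T.n₃
      cen := ?_ }
  rintro _ ⟨c, rfl⟩ h1
  have h2 := T.cen c (mem_top _) (by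
    intro x hx h2 h3
    have h4 : (φ k2)⁻¹ * φ x * φ k2 ∈ P0.map φ := by simpa only [map_mul, map_inv] using im.2 h2
    have h5 : (φ k3)⁻¹ * φ x * φ k3 ∈ P0.map φ := by simpa only [map_mul, map_inv] using im.2 h3
    have h6 := h1 _ (im.2 hx) h4 h5
    exact hφ (by simpa only [map_mul] using h6))
  simpa only [map_mul] using congrArg φ h2

end Cfsg.Agent.OddHalf.D8.RuFam

end

-- merged: Cfsg.Agent.OddHalf.D8.RowRuB
section

/-!
# ODD half, D8: the row of the Rudvalis group from the three packets (helper294)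

`row_of_packets`: the row `Rows.Row IsoRu` from the facts `Loc`, `Plane`, `Twist` (OddHalf/D8/RuFam) on the model
`RuOrder.H`.
-/

set_option autoImplicit false

namespace Cfsg.Agent.OddHalf.D8.RowRu

open Subgroup Cfsg Cfsg.Agent.SporadicB Cfsg.Agent.RuD.Letters
open Cfsg.Agent.OddHalf.D9.Ru Cfsg.Agent.OddHalf.D9.Ru.XDef Cfsg.Agent.OddHalf.D8.RuFam

universe u

/-- **(R3)** -/
theorem r3 : R3 := ⟨_, _, _, _, _, _, _, _, _, _, _, _, _, by
  have h := Cfsg.Agent.KFacts.Ru.EndFacts.facts_model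
  have e : Cfsg.Agent.KFacts.Ru.EndWords.hw Cfsg.Agent.KFacts.Ru.EndWords.zw = W :=
    Cfsg.Agent.KFacts.Ru.EndWords.hw_two
  rw [e] at h
  exact h⟩

/-- **(R1)** from the packets -/
theorem r1_of {B : Subgroup RuOrder.H} {k u ρ g j e₀ e₁ g₂ eb j₂ x₂ h f k₂ k₃ v f₂ : RuOrder.H}
    (L : Loc (⊤ : Subgroup RuOrder.H) (S * S) P1 XR.R B XR.E)
    (Q : Plane (⊤ : Subgroup RuOrder.H) (S * S) P1 XR.R B XR.E k u ρ g j e₀ e₁ g₂ eb j₂ x₂ h f)
    (T : Twist (⊤ : Subgroup RuOrder.H) (S * S) P1 k₂ k₃ v f₂) : R1.{u} := by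
  intro G _ _ K e t x tt tK comm cen hx xz
  have hφ : Function.Injective (K.subtype.comp e.toMonoidHom) := K.subtype_injective.comp e.injective
  have hrange : (K.subtype.comp e.toMonoidHom).range = K := by
    rw [MonoidHom.range_comp, MonoidHom.range_eq_top.2 e.surjective, ← MonoidHom.range_eq_map, range_subtype]
  have L' := L.map hφ
  have Q' := Q.map hφ
  have T' := T.map hφ
  rw [hrange] at L' Q' T'
  exact exists_a_of ⟨tt, tK, comm, cen⟩ L' Q' T' hx xz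

/-- **the row from the packets** -/
theorem row_of_packets {B : Subgroup RuOrder.H} {k u ρ g j e₀ e₁ g₂ eb j₂ x₂ h f k₂ k₃ v f₂ : RuOrder.H}
    (L : Loc (⊤ : Subgroup RuOrder.H) (S * S) P1 XR.R B XR.E)
    (Q : Plane (⊤ : Subgroup RuOrder.H) (S * S) P1 XR.R B XR.E k u ρ g j e₀ e₁ g₂ eb j₂ x₂ h f)
    (T : Twist (⊤ : Subgroup RuOrder.H) (S * S) P1 k₂ k₃ v f₂) : Rows.Row.{u} (fun K _ => Spor.IsoRu K) :=
  row_of (r1_of L Q T) r3

end Cfsg.Agent.OddHalf.D8.RowRu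

end

-- merged: Cfsg.Agent.OddHalf.D8.RuFam.TwMain
section

/-!
# K = Ru, packet TW: `Tw.twist : Twist ⊤ (S * S) P1 k₂ k₃ v f₂`
-/

set_option autoImplicit false
set_option Elab.async false
set_option maxRecDepth 100000
set_option exponentiation.threshold 5000

namespace Cfsg.Agent.OddHalf.D8.RuFam.Tw

open Subgroup Cfsg.Agent.Lib.BitNet Cfsg.Agent.Lib.BitNetSimple Cfsg.Agent.SporadicB Cfsg.Agent.SporadicB.RuData
open Cfsg.Agent.RuD.Letters Cfsg.Agent.RuD.Model Cfsg.Agent.SporRec.TCUpperCert Cfsg.Agent.SporRec.R3.Kernel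
open Cfsg.Agent.OddHalf.D9.Ru Cfsg.Agent.OddHalf.D9.Ru.XDef Cfsg.Agent.OddHalf.D9.Ru.XChk
open Cfsg.Agent.OddHalf.D9.Ru.XData Cfsg.Agent.OddHalf.D9.Ru.XR
open Cfsg.Agent.OddHalf.Table Cfsg.Agent.OddHalf.D8.RuFam.TwCut
open scoped commutatorElement

theorem eqv_of_eq {u w : List ℕ} (h : (wprod ml u : RuOrder.H) = wprod ml w) : eqv u w = true := by
  refine (allL_iff _ _).2 ?_
  intro b hb
  have key : ∀ b : Fin 4060, Nat.beq (evalK u b) (evalK w b) = true := by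
    intro b
    rw [← evalK_eq, ← evalK_eq, h]
    exact Nat.beq_refl _
  simp only [List.mem_cons, List.not_mem_nil, or_false] at hb
  rcases hb with rfl | rfl | rfl | rfl
  · exact key ⟨0, by norm_num⟩
  · exact key ⟨29, by norm_num⟩
  · exact key ⟨580, by norm_num⟩
  · exact key ⟨577, by norm_num⟩

theorem mem_of_eqv {w u : List ℕ} (h : eqv w (ew u) = true) : (wprod ml w : RuOrder.H) ∈ P1 := by
  rw [eqv_sound h]
  exact V_mem u

theorem w11 : (wprod ml [1, 1] : RuOrder.H) = S * S := by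
  rw [wprod_cons, wprod_cons]
  change S * (S * 1) = S * S
  rw [mul_one]

theorem hh : h * h = 1 := by
  have := eqv_sound chk_hh
  rwa [wprod_append] at this

theorem h_inv : h⁻¹ = h := inv_eq_of_mul_eq_one_left hh

theorem h_notMem : h ∉ P1 := by
  intro hm
  obtain ⟨r, hr, a, ha, e⟩ := XR.cover h hm
  obtain ⟨i, hi, rfl⟩ := mem_A a ha
  set a := V (aw.getD i []) with ha'
  have h1 := (allL_iff _ _).1 chk_h i (List.mem_range.2 hi)
  obtain ⟨j, hj, h2⟩ := anyB_iff h1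
  have hjE : G [j] ∈ E := by
    simp only [List.mem_cons, List.not_mem_nil, or_false] at hj
    rcases hj with rfl | rfl | rfl | rfl | rfl <;> exact G_mem_E (by decide)
  have haP : a ∈ P1 := V_mem _
  have hxE : a * G [j] * a⁻¹ ∈ E := E_nor a haP _ hjE
  have h3 : h * G [j] * h * a = a * G [j] ∨ h * G [j] * h * a = a * G [j] * (S * S) := by
    have h4 : h * G [j] * h = r * (a * G [j] * a⁻¹) * r⁻¹ := by
      conv_lhs => rw [← h_inv]
      rw [h_inv]
      calc h * G [j] * h = h * G [j] * h⁻¹ := by rw [h_inv]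
        _ = r * a * G [j] * (r * a)⁻¹ := by rw [← e]
        _ = r * (a * G [j] * a⁻¹) * r⁻¹ := by group
    rcases XR.RE r hr _ hxE with h5 | h5
    · left
      have h6 : r * (a * G [j] * a⁻¹) * r⁻¹ = a * G [j] * a⁻¹ := by
        rwa [mul_inv_eq_one] at h5
      rw [h4, h6]
      group
    · right
      have h6 : r * (a * G [j] * a⁻¹) * r⁻¹ = S * S * (a * G [j] * a⁻¹) := by
        rwa [mul_inv_eq_iff_eq_mul] at h5
      have h7 := z_comm (a * G [j] * a⁻¹) (E_le hxE)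
      rw [h4, h6, ← h7, mul_assoc _ (S * S) a, ← z_comm a haP]
      group
  have eh : (wprod ml (hw ++ ew (gg [j]) ++ hw ++ ew (aw.getD i [])) : RuOrder.H) = h * G [j] * h * a := by
    rw [wprod_append, wprod_append, wprod_append]; rfl
  have ea : (wprod ml (ew (aw.getD i []) ++ ew (gg [j])) : RuOrder.H) = a * G [j] := by
    rw [wprod_append]; rfl
  have eb : (wprod ml (ew (aw.getD i []) ++ ew (gg [j]) ++ [1, 1]) : RuOrder.H) = a * G [j] * (S * S) := by
    rw [wprod_append, wprod_append, w11]; rfl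
  rcases h3 with h3 | h3
  · have h4 : eqv (hw ++ ew (gg [j]) ++ hw ++ ew (aw.getD i [])) (ew (aw.getD i []) ++ ew (gg [j])) = true :=
      eqv_of_eq (by rw [eh, ea, h3])
    rw [h4] at h2
    exact Bool.false_ne_true h2
  · have h4 : eqv (hw ++ ew (gg [j]) ++ hw ++ ew (aw.getD i [])) (ew (aw.getD i []) ++ ew (gg [j]) ++ [1, 1]) =
      true := eqv_of_eq (by rw [eh, eb, h3])
    rw [h4] at h2
    cases h5 : eqv (hw ++ ew (gg [j]) ++ hw ++ ew (aw.getD i [])) (ew (aw.getD i []) ++ ew (gg [j]))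
    · rw [h5] at h2; exact Bool.false_ne_true h2
    · rw [h5] at h2; exact Bool.false_ne_true h2

/-! ### the other fields -/

def vw : List ℕ := k2w ++ ([1, 1] ++ k2w)

theorem chk_k2 : eqv (k2w ++ k2w) [] = true := by decide +kernel
theorem chk_k3 : eqv (k3i ++ k3w) [] = true := by decide +kernel
theorem chk_zv : eqv (k3w ++ ([1, 1] ++ k3i)) ([1, 1] ++ vw) = true := by decide +kernel
theorem chk_vP : eqv vw (ew [2, 4, 3, 4, 5, 0, 3, 1, 5, 0, 3, 1, 2]) = true := by decide +kernel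
theorem chk_z3 : eqv (k3i ++ ([1, 1] ++ k3w)) (ew [2, 4, 3, 4, 5, 0, 3, 1, 5, 0, 3, 1, 2]) = true := by decide +kernel
theorem chk_v3 : eqv (k3i ++ (vw ++ k3w)) (ew [3, 4, 2, 4, 0, 3, 1, 5, 0, 3, 2, 1]) = true := by decide +kernel
theorem chk_fz : eqv (f2w ++ [1, 1]) ([1, 1] ++ f2w) = true := by decide +kernel
theorem chk_fv : eqv (f2w ++ vw) (vw ++ f2w) = true := by decide +kernel
theorem chk_n2 : eqv (k2w ++ (f2w ++ k2w)) (hw ++ ew [3, 0, 1, 5, 4, 0, 3]) = true := by decide +kernel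
theorem chk_n3 : eqv (k3i ++ (f2w ++ k3w)) (ew [4, 2, 3, 1, 1, 2, 3]) = true := by decide +kernel

theorem k2_inv : k₂⁻¹ = k₂ := by
  have := eqv_sound chk_k2
  rw [wprod_append] at this
  exact inv_eq_of_mul_eq_one_left this

theorem k3_inv : k₃⁻¹ = wprod ml k3i := by
  have := eqv_sound chk_k3
  rw [wprod_append] at this
  exact inv_eq_of_mul_eq_one_left this

theorem vw_eq : (wprod ml vw : RuOrder.H) = v := by
  unfold vw v
  rw [wprod_append, wprod_append, w11, k2_inv, ← mul_assoc]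
  rfl

theorem fx_mem {i : ℕ} (hi : i < 7) : (wprod ml (fx i) : RuOrder.H) ∈ P1 ∧
    k₂⁻¹ * wprod ml (fx i) * k₂ ∈ P1 ∧ k₃⁻¹ * wprod ml (fx i) * k₃ ∈ P1 := by
  have hl : fw.getD i ([], [], []) ∈ fw := by
    rw [List.getD_eq_getElem _ _ (by exact hi)]
    exact List.getElem_mem _
  have h1 := (allL_iff _ _).1 chk_fw _ hl
  rw [an_iff] at h1
  have h2 := eqv_sound h1.1
  have h3 := eqv_sound h1.2
  rw [wprod_append, wprod_append] at h2 h3
  refine ⟨V_mem _, ?_, ?_⟩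
  · have e : k₂⁻¹ * wprod ml (fx i) * k₂ = wprod ml (ew (fw.getD i ([], [], [])).2.1) := by
      rw [mul_assoc, inv_mul_eq_iff_eq_mul]
      exact h2
    rw [e]
    exact V_mem _
  · have e : k₃⁻¹ * wprod ml (fx i) * k₃ = wprod ml (ew (fw.getD i ([], [], [])).2.2) := by
      rw [mul_assoc, inv_mul_eq_iff_eq_mul]
      exact h3
    rw [e]
    exact V_mem _

theorem f_eq : f₂ = h * V [5, 4, 3, 0, 1, 2, 3, 1] := by
  unfold f₂ f2w
  rw [wprod_append]
  rfl

theorem twist : Twist (⊤ : Subgroup RuOrder.H) (S * S) P1 k₂ k₃ v f₂ where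
  k₂K := mem_top _
  k₃K := mem_top _
  kv := rfl
  kzv := by
    have h1 := eqv_sound chk_zv
    rw [wprod_append, wprod_append, wprod_append, w11, vw_eq, ← k3_inv, ← mul_assoc] at h1
    exact h1
  vP := by
    rw [← vw_eq]
    exact mem_of_eqv chk_vP
  z₂ := by
    have h1 : k₂⁻¹ * (S * S) * k₂ = v := by
      unfold v
      rw [k2_inv]
    rw [h1, ← vw_eq]
    exact mem_of_eqv chk_vP
  z₃ := by
    have h1 := mem_of_eqv chk_z3
    rw [wprod_append, wprod_append, w11, ← k3_inv, ← mul_assoc] at h1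
    exact h1
  v₃ := by
    have h1 := mem_of_eqv chk_v3
    rw [wprod_append, wprod_append, vw_eq, ← k3_inv, ← mul_assoc] at h1
    exact h1
  fK := mem_top _
  fz := by
    have h1 := eqv_sound chk_fz
    rw [wprod_append, wprod_append, w11] at h1
    exact h1
  fv := by
    have h1 := eqv_sound chk_fv
    rw [wprod_append, wprod_append, vw_eq] at h1
    exact h1
  n₁ := by
    intro h1
    rw [f_eq] at h1
    exact h_notMem ((mul_mem_cancel_right (V_mem _)).1 h1)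
  n₂ := by
    intro h1
    have h2 := eqv_sound chk_n2
    rw [wprod_append, wprod_append, wprod_append, ← mul_assoc] at h2
    rw [k2_inv] at h1
    have h3 : k₂ * f₂ * k₂ = h * V [3, 0, 1, 5, 4, 0, 3] := h2
    rw [h3] at h1
    exact h_notMem ((mul_mem_cancel_right (V_mem _)).1 h1)
  n₃ := by
    have h1 := mem_of_eqv chk_n3
    rw [wprod_append, wprod_append, ← k3_inv, ← mul_assoc] at h1
    exact h1
  cen := by
    intro c _ hc
    apply cent_f
    intro i hi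
    obtain ⟨h1, h2, h3⟩ := fx_mem hi
    exact hc _ h1 h2 h3

end Cfsg.Agent.OddHalf.D8.RuFam.Tw

end

-- merged: Cfsg.Agent.OddHalf.D8.RowRuC
section

/-!
# ODD half, D8: the row of the Rudvalis group (helper294)

Packets: `PackD.loc` (helper229), `PlaneRu.plane` (helper926), `Tw.twist` (helper8); group level: helpers 936, 278;
end: helpers 879, 871, 953.
-/

set_option autoImplicit false

namespace Cfsg.Agent.OddHalf.D8.RowRu

open Cfsg

universe u

/-- **the row of the Rudvalis group** -/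
theorem row : Rows.Row.{u} (fun K _ => Spor.IsoRu K) :=
  row_of_packets Cfsg.Agent.KFacts.Ru.PackD.loc Cfsg.Agent.OddHalf.D8.RuFam.PlaneRu.plane
    Cfsg.Agent.OddHalf.D8.RuFam.Tw.twist

end Cfsg.Agent.OddHalf.D8.RowRu

end
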