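import Cfsg.Agent.FixBN.LOAll
import Cfsg.Agent.OddHalf.CaseM.EndX
import Cfsg.Agent.KFacts.HS.Final
import Cfsg.Agent.OddHalf.D8.HS.EndM
import Cfsg.Agent.OddHalf.D8.MainE
import Cfsg.Agent.KFacts.Co1.CaseM
import Cfsg.Agent.OddHalf.D8.SheetMap
import Cfsg.Agent.OddHalf.D8.SheetMMap
import Cfsg.Agent.KFacts.HN.SheetM
import Cfsg.Agent.KFacts.J4.SheetMJ4
import Cfsg.Agent.KFacts.MonsterM
import Cfsg.Agent.MonsterX.InstanceFinal
import Cfsg.Agent.MonsterP.Equiv
import Cfsg.Agent.KFacts.FiTF.SheetF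
import Cfsg.Agent.KFacts.FiTF.QuasiBInst
import Cfsg.Agent.KFacts.FiTF.SubOrb
import Cfsg.Agent.OddHalf.CaseC.EndComp
import Cfsg.Agent.OddHalf.D8.ON.Kill
import Cfsg.Agent.KFacts.ON.Sheet
import Cfsg.Agent.OddHalf.Known
import Cfsg.Agent.OddHalf.D8.Fi22.OrdOdd
import Cfsg.Agent.OddHalf.Orders.Quo
import Cfsg.Agent.OddHalf.D6.PumpDown
import Cfsg.Agent.SignalizersComponents.PLayerAut
import Cfsg.Agent.OddHalf.D8.Fi22.OrdEven
import Cfsg.Agent.OddHalf.D8.Fi22.OrdSpor
import Cfsg.Agent.OddHalf.D8.Fi22.Row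
import Cfsg.Agent.OddHalf.D8.Fi22.OrdB
import Cfsg.Agent.OddHalf.D8.JTwo.Large
import Cfsg.Agent.KFacts.J2.SheetX
import Cfsg.Agent.OddHalf.D8.Rows
import Cfsg.Agent.OddHalf.D8.JTwo.SheetM
import Cfsg.Agent.OddHalf.MM.Row
import Cfsg.Agent.OddHalf.MM.Transport
import Cfsg.Agent.KFacts.MM.Main
import Cfsg.Agent.OddHalf.D8.Final
import Cfsg.Agent.OddHalf.D8.RowCo2
import Cfsg.Agent.OddHalf.D8.RowCo3
import Cfsg.Agent.OddHalf.D8.RowJ3
import Cfsg.Agent.OddHalf.D8.RowRuC
import Cfsg.Agent.OddHalf.D8.RowB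
import Cfsg.Agent.OddHalf.D8.Fi23.Row
import Cfsg.Agent.OddHalf.MMOut.Row
import Cfsg.Agent.OddHalf.M24.RowM24
import Cfsg.Agent.OddHalf.UT5.RowHe
import Cfsg.Agent.OddHalf.UT5.RowEnd
import Cfsg.Agent.KFacts.SuzSheets
import Cfsg.Agent.OddHalf.Small.RowsAll
import Cfsg.Agent.OddHalf.D9.MultAll
import Cfsg.Agent.OddHalf.D9.Plug.Ru
import Cfsg.Agent.OddHalf.Table.SignAll
import Cfsg.Agent.Schreier.Assembly
import Cfsg.Agent.S0483
import Cfsg.Agent.S1758
import Cfsg.Agent.S1762

-- merged: Cfsg.Agent.OddHalf.CaseM.LOAllOf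
section

/-!
`CaseM.LOAll` is a theorem (THEOREM LO+ of `FixBN/LO*.lean`), and its form for a quasisimple group with an
automorphism of order `2`.
-/

set_option autoImplicit false

universe u

open Subgroup

namespace Cfsg.Agent.OddHalf.CaseM

open Cfsg.Agent.OddHalf.Iface

/-- **(LO) for all the simple groups of Lie type of odd characteristic.** -/
theorem loAll : LOAll.{u} := by
  intro X _ _ hX hL
  obtain ⟨p, -, hp2, h⟩ := hL
  exact Cfsg.Agent.FixBN.loAut_of_isLieTypeChar hp2 h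

/-- (LO) for `M / Z(M)` simple of Lie type of odd characteristic and `σ : Aut M`, `σ² = 1`: a perfect subgroup of
`C_M(σ)` centralises every normal `2`-subgroup of `C_M(σ)`. -/
theorem lo_quasi {M : Type u} [Group M] [Finite M] [IsSimpleGroup (M ⧸ center M)]
    (hL : LieOdd (M ⧸ center M)) (σ : M ≃* M) (hσ : ∀ g, σ (σ g) = g) {X P : Subgroup M}
    (hX : ∀ x ∈ X, σ x = x) (hn : ∀ g, σ g = g → ∀ x ∈ X, g * x * g⁻¹ ∈ X) (h2 : IsPGroup 2 X)
    (hP : ∀ x ∈ P, σ x = x) (hPP : ⁅P, P⁆ = P) : ∀ g ∈ P, ∀ x ∈ X, g * x = x * g := by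
  have h := loAll (M ⧸ center M) inferInstance inferInstance hL
  refine Cfsg.Agent.FixBN.LOAut.of_central le_rfl h σ (fun n hn => ?_) (fun g => ?_) (fun x hx => ?_)
    (fun g hg x hx => hn g ?_ x hx) h2 (fun x hx => ?_) hPP
  · exact (Subgroup.map_le_iff_le_comap.1 (Subgroup.characteristic_iff_map_le.1 inferInstance σ)) hn
  · rw [hσ, inv_mul_cancel]
    exact one_mem _
  · exact hX x hx
  · exact hg
  · exact hP x hx

end Cfsg.Agent.OddHalf.CaseM

end

-- merged: Cfsg.Agent.KFacts.HS.Comm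
section

set_option autoImplicit false

/-!
# Facts on `HS`: two commuting conjugates of `u` with different squares (in `4³`)
-/

namespace Cfsg.Agent.KFacts.HS

open Cfsg.Agent.HN Cfsg.Agent.HN.Pres Cfsg.Agent.HN.HS100 Cfsg.Agent.HN.P1408 Cfsg.Agent.HN.H0Basic
open Cfsg.Agent.SporadicA.PermTab Cfsg.Agent.HN.WMask
open Cfsg.Agent.OddHalf.D8.HS.SheetHS

universe u

namespace Comm

/-- equality modulo `τ` -/
def eqt (u v : List ℕ) : Bool := bif eqw u v then true else eqw u (v ++ [0, 0])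

theorem eqt_spec {u v : List ℕ} (h : eqt u v = true) : hw u = hw v ∨ hw u = hw v * τ := by
  unfold eqt at h
  cases h1 : eqw u v with
  | true => exact Or.inl (hw_eq h1)
  | false =>
    rw [h1] at h
    right
    rw [hw_eq h, hw_append, hw_τ]

/-- the word of the element `j` -/
def jw : List ℕ := [4, 3, 4, 2, 0]
def jwi : List ℕ := [1, 3, 4, 2, 4]

theorem jwi_eq : hw jwi = (hw jw)⁻¹ := by
  rw [eq_inv_iff_mul_eq_one, ← hw_append, ← hw_nil]
  exact hw_eq (by decide +kernel)

theorem j_mem : hw jw ∈ K := mem_K_of_par (by decide) (by decide)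

theorem chk : eqt (jw ++ rmw 28 ++ jwi ++ rmw 28) (rmw 28 ++ (jw ++ rmw 28 ++ jwi)) = true := by decide +kernel

theorem φ_ne : φ (hw jw * b) ≠ φ (b * hw jw) := by
  intro h
  have h1 := congrArg (fun p : Equiv.Perm (Fin 100) => ((p 0 : Fin 100) : ℕ)) h
  change ((φ (hw jw * hw bw) 0 : Fin 100) : ℕ) = ((φ (hw bw * hw jw) 0 : Fin 100) : ℕ) at h1
  rw [← hw_append, ← hw_append, Classes.φ_hw_apply, Classes.φ_hw_apply] at h1
  exact absurd h1 (by decide +kernel)

end Comm

open Comm

/-- **a conjugate of `u` which commutes with `u` and has another square** -/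
theorem Mod.comm {L : Type*} [Group L] (D : Mod L) :
    ∃ j : L, j * D.u * j⁻¹ * D.u = D.u * (j * D.u * j⁻¹) ∧ j * D.z * j⁻¹ ≠ D.z := by
  refine ⟨D.π ⟨hw jw, j_mem⟩, ?_, ?_⟩
  · unfold Mod.u
    rw [D.π_conj, D.π_mul, D.π_mul, D.π_eq]
    have h := eqt_spec chk
    rw [hw_append, hw_append, hw_append, hw_append, hw_append, hw_append, jwi_eq] at h
    exact h
  · unfold Mod.z
    rw [D.π_conj, Ne, D.π_eq, ← φ_eq_iff]
    intro h
    apply φ_ne
    rw [map_mul, map_mul, map_inv, mul_inv_eq_iff_eq_mul] at h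
    rw [map_mul, map_mul]
    exact h

/-- the fact sheet of `HS`, with `comm` -/
theorem exists_sheet' {L : Type u} [Group L] (h : Cfsg.Spor.IsoHS L) :
    ∃ (z v k : L) (P R : Subgroup L), SheetHS z v k P R ∧
      (∃ n : ℕ, (MulAut.conj : L →* MulAut L).range.index = 2 ^ n) ∧
      (∀ N : Subgroup L, R ≤ N → N ≤ P → (∀ p ∈ P, ∀ n ∈ N, p * n * p⁻¹ ∈ N) → N = R ∨ N = P) ∧
      (∃ c : L, c * (k⁻¹ * z * k * v) * c⁻¹ ∈ P) ∧
      (∀ x : L, x * x = 1 → x ≠ 1 → (∃ c, x = c * z * c⁻¹) ∨ ∃ c, x = c * (k⁻¹ * z * k * v) * c⁻¹) ∧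
      ∃ j : L, j * v * j⁻¹ * v = v * (j * v * j⁻¹) ∧ j * z * j⁻¹ ≠ z := by
  obtain ⟨D⟩ := exists_mod h
  exact ⟨D.z, D.u, D.k, D.P, D.R, D.sheet, D.two, D.max, D.k0, D.inv2, D.comm⟩

end Cfsg.Agent.KFacts.HS

end

-- merged: Cfsg.Agent.OddHalf.D8.RowHS
section

/-!
# ODD half, D8: the row of the Higman-Sims group

G-level: helper970, helper896, helper702 (`HS/EndM.row`); facts: helper473 (`KFacts.HS.exists_sheet`).
-/

set_option autoImplicit false

namespace Cfsg.Agent.OddHalf.D8.RowHS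

open Subgroup Cfsg Cfsg.Agent.OddHalf.D8.HS Cfsg.Agent.OddHalf.D8.HS.SheetHS Cfsg.Agent.OddHalf.D8.HS.GlueM

universe u

/-- the facts on `HS` -/
theorem facts (K : Type u) [Group K] (_ : Finite K) (h : Spor.IsoHS K) :
    ∃ (z v k : K) (P R : Subgroup K), SheetHS z v k P R ∧ SheetHSM z v k P R := by
  obtain ⟨z, v, k, P, R, sh, h1, h2, h3, h4, h5⟩ := Cfsg.Agent.KFacts.HS.exists_sheet' h
  exact ⟨z, v, k, P, R, sh, ⟨h1, h2, h3, h4, h5⟩⟩

/-- **the row K = HS of D8** (`hR` = `Small.RowsAll.rows`, `h58` = S1758) -/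
theorem row (hSch : Cfsg.Agent.Schreier.Cases.SchFor.{u} @IsKnownSimple')
    (hGW : SylowSp4.Hyps.GW.{u}) (hI : Iface.Intr2.{u}) (hS : CaseM.IntrSign.{u})
    (hR : Small.Excl.Rows) (h58 : Elim.P1758.{u}) : Rows.Row.{u} (fun K _ => Spor.IsoHS K) :=
  EndM.row hSch hGW hI hS hR h58 facts

end Cfsg.Agent.OddHalf.D8.RowHS

end

-- merged: Cfsg.Agent.OddHalf.D8.RowCo1
section

/-!
# ODD half, D8: the row of the first Conway group (helper899)

`facts`: the facts of type (E) and of case (M) (`Final.FactsE`); the datum of the `y`-trick is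
helper281's (`KFacts.Co1.YTrick`).
-/

set_option autoImplicit false

namespace Cfsg.Agent.OddHalf.D8.RowCo1

open Cfsg Cfsg.Agent.OddHalf.D8.Sheet

universe u

/-- the facts on `Co1` -/
theorem facts (K : Type u) [Group K] (_ : Finite K) (e : Spor.IsoCo1 K) :
    ∃ (z : K) (P R : Subgroup K), SheetE z P R ∧ CaseM.SheetM P R :=
  Cfsg.Agent.KFacts.Co1.CaseM.exists_sheets K e

/-- **the row K = Co1 of D8** (`hM` = `CaseM.noComp ..`) -/
theorem row (hM : MainE.NoComp.{u} (fun _ _ _ P R => CaseM.SheetM P R)) :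
    Rows.Row.{u} (fun K _ => Spor.IsoCo1 K) :=
  MainE.row_of hM fun K _ hf e => facts K hf e

end Cfsg.Agent.OddHalf.D8.RowCo1

end

-- merged: Cfsg.Agent.OddHalf.D8.RowHN
section

/-!
# ODD half, D8: the row of the Harada-Norton group
-/

set_option autoImplicit false

namespace Cfsg.Agent.OddHalf.D8.RowHN

open Cfsg Cfsg.Agent.OddHalf.D8.Sheet

universe u

/-- the field `hn` of `Final.Missing` (`FactsE`) -/
theorem facts (K : Type u) [Group K] (_ : Finite K) (e : Spor.IsoHN K) :
    ∃ (z : K) (P R : Subgroup K), SheetE z P R ∧ CaseM.SheetM P R := by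
  obtain ⟨e⟩ := e
  exact ⟨_, _, _, SheetMap.sheetE_map e.symm Cfsg.Agent.KFacts.HN.sheetE,
    SheetMMap.sheetM_map e.symm Cfsg.Agent.KFacts.HN.sheetM⟩

/-- the row modulo the K-free case (M) -/
theorem row_of_noComp (hM : MainE.NoComp.{u} (fun _ _ _ P R => CaseM.SheetM P R)) :
    Rows.Row.{u} (fun K _ => Spor.IsoHN K) :=
  MainE.row_of hM facts

end Cfsg.Agent.OddHalf.D8.RowHN

end

-- merged: Cfsg.Agent.OddHalf.D8.RowJ4M
section

/-!
# ODD half, D8: the row of the fourth Janko group, with the facts of case (M) (helper869)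
-/

set_option autoImplicit false

namespace Cfsg.Agent.OddHalf.D8.RowJ4M

open Cfsg

universe u

/-- **the row K = J4 of D8** (`hM` = `CaseM.noComp ..`) -/
theorem row (hM : MainE.NoComp.{u} (fun _ _ _ P R => CaseM.SheetM P R)) :
    Rows.Row.{u} (fun K _ => Spor.IsoJ4 K) :=
  MainE.row_of hM fun _ _ _ h => KFacts.J4.SheetMJ4.exists_sheets h

end Cfsg.Agent.OddHalf.D8.RowJ4M

end

-- merged: Cfsg.Agent.OddHalf.D8.RowTh
section

/-!
# ODD half, D8: the row of the Thompson group (helper950)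
-/

set_option autoImplicit false

namespace Cfsg.Agent.OddHalf.D8.RowTh

open Cfsg Cfsg.Agent.OddHalf.D8.Sheet

universe u

theorem exists_sheet (K : Type u) [Group K] (e : Spor.IsoTh K) :
    ∃ (z : K) (P R : Subgroup K), SheetE z P R := by
  obtain ⟨e⟩ := e
  exact ⟨_, _, _, SheetMap.sheetE_map e.symm Cfsg.Agent.KFacts.Th.Main.sheet⟩

theorem row (hF : MainE.FrontOuter.{u}) (hM : MainE.NoComponent.{u}) :
    Rows.Row.{u} (fun K _ => Spor.IsoTh K) :=
  MainE.row hF hM fun K _ _ e => exists_sheet K e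

/-- the row modulo the K-free case (M) -/
theorem row_of_noComp (hM : MainE.NoComp.{u} (fun _ _ _ P R => Cfsg.Agent.OddHalf.CaseM.SheetM P R)) :
    Rows.Row.{u} (fun K _ => Spor.IsoTh K) :=
  MainE.row_of hM fun K _ _ e => Cfsg.Agent.KFacts.Th.CaseM.exists_sheets K e

end Cfsg.Agent.OddHalf.D8.RowTh

end

-- merged: Cfsg.Agent.OddHalf.D8.RowM
section

/-!
# ODD half, D8: the row of the Monster

`facts`: the facts of type (E) and of case (M) (`Final.FactsE`).
-/

set_option autoImplicit false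

namespace Cfsg.Agent.OddHalf.D8.RowM

open Cfsg Cfsg.Agent.OddHalf.D8.Sheet Cfsg.Agent.MonsterX

universe u

/-- the facts on the Monster -/
theorem facts (K : Type u) [Group K] (_ : Finite K) (e : Spor.IsoM K) :
    ∃ (z : K) (P R : Subgroup K), SheetE z P R ∧ CaseM.SheetM P R :=
  KFacts.MonsterM.facts_of Instance.mGroup Instance.mRep Instance.mLat InstanceFinal.mOrbit Instance.mTrans
    (MonsterP.Equiv.equiv.map fun f => f.symm) e

/-- **the row K = M of D8** (`hM` = `CaseM.noComp ..`) -/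
theorem row (hM : MainE.NoComp.{u} (fun _ _ _ P R => CaseM.SheetM P R)) :
    Rows.Row.{u} (fun K _ => Spor.IsoM K) :=
  MainE.row_of hM fun K _ hf e => facts K hf e

end Cfsg.Agent.OddHalf.D8.RowM

end

-- merged: Cfsg.Agent.OddHalf.D8.RowFi24
section

/-!
# ODD half, D8: the row of the Fischer group `Fi24'`
-/

set_option autoImplicit false

namespace Cfsg.Agent.OddHalf.D8.RowFi24

open Cfsg Cfsg.Spor Subgroup Cfsg.Agent.OddHalf.D8.Sheet
open Cfsg.Agent.KFacts.FiTF Cfsg.Agent.KFacts.FiTF.Defs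

universe u

/-- normal subgroups of `E` containing `R` -/
theorem dich (N : Subgroup Spor.Fi24) (hN : N ≤ E) (hR : R ≤ N) (hn : ∀ e ∈ E, ∀ n ∈ N, e * n * e⁻¹ ∈ N) :
    (∀ n ∈ N, QuasiA.Fixes n) ∨ N = E := by
  have : Finite Spor.Fi24 := Cfsg.Agent.R08.FiTwentyFour.finite_Fi24
  exact (QuasiBInst.hyp FixZ.tran FixZ.ncard_Dz Order.card (Cent.cent FixZ.tran) (PerfE.perf FixZ.tran)
    (fun M h1 h2 h3 => QuasiA.dichW h2 h3 FixZ.tran SubOrb.quasi1 SubOrb.quasi2 h1)).dich_E hN hR hn

/-- the sheet of case (M) of `Fi24'` -/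
theorem sheetM : CaseM.SheetM (E.subgroupOf (commutator Spor.Fi24)) (R.subgroupOf (commutator Spor.Fi24)) :=
  SheetMFi.sheetM_of FixZ.tran frame sheetE Order.card dich

/-- the field `fi24` of `Final.Missing` (`FactsE`) -/
theorem facts (K : Type u) [Group K] (_ : Finite K) (e : Spor.IsoFi24' K) :
    ∃ (z : K) (P R : Subgroup K), SheetE z P R ∧ CaseM.SheetM P R := by
  obtain ⟨e⟩ := e
  exact ⟨_, _, _, SheetMap.sheetE_map e.symm sheetE, SheetMMap.sheetM_map e.symm sheetM⟩

/-- the row modulo the K-free case (M) -/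
theorem row_of_noComp (hM : MainE.NoComp.{u} (fun _ _ _ P R => CaseM.SheetM P R)) :
    Rows.Row.{u} (fun K _ => Spor.IsoFi24' K) :=
  MainE.row_of hM facts

end Cfsg.Agent.OddHalf.D8.RowFi24

end

-- merged: Cfsg.Agent.OddHalf.D8.ON.Row
section

/-!
# ODD half, D8: the row `K = ON` (helper60)

`K = ON`, `P = C_K(z)^∞ ≅ 4.L₃(4)`: some component `M` of `C_G(z)` contains `P` (`CaseC.Hyp.main`), it is normal
(`Kill.normal`), and `Kill.concl` leads to one of the two cases of `CaseC.EndComp.main`.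
-/

set_option autoImplicit false

namespace Cfsg.Agent.OddHalf.D8.ON.Row

open Subgroup Cfsg Cfsg.Agent.OddHalf.Front.FE Cfsg.Agent.OddHalf.D8.Sheet Cfsg.Agent.OddHalf.D8.GlueE
  Cfsg.Agent.OddHalf.D8.Front Cfsg.Agent.OddHalf.D8.ON.Sheet Cfsg.Agent.OddHalf.D3
open Cfsg.Agent.OddHalf.Iface
open Cfsg.Agent.OddHalf.CaseM (toX mem_toX map_toX compOf_map)
open Cfsg.Agent.SignalizersComponents.Components

universe u

/-- a group with a sheet has no central 2-elements -/
theorem center_eq_bot {K : Type*} [Group K] [Finite K] {z v : K} {P E : Subgroup K}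
    (sh : SheetON z v P E) (h2 : IsPGroup 2 ↥(center K)) : center K = ⊥ := by
  rw [eq_bot_iff]
  intro y hy
  rw [mem_bot]
  obtain ⟨S, -, -, hcS⟩ := sh.basic.syl
  have h3 : (center K : Subgroup K) ≤ S := by
    have h4 : IsPGroup 2 ((center K ⊔ S : Subgroup K)) := h2.to_sup_of_normal_left S.isPGroup'
    have h5 := S.is_maximal' h4 le_sup_right
    exact (le_sup_left : center K ≤ center K ⊔ S).trans h5.le
  rcases hcS y (h3 hy) (fun x _ => mem_center_iff.1 hy x) with e | e
  · exact e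
  · exfalso
    obtain ⟨-, -, x, -, -, hx, hx1, hxz, -⟩ := sh.rel
    obtain ⟨k, hk, -⟩ := sh.kk x hx hx1
    apply hxz
    rw [← hk, ← e, mem_center_iff.1 hy k]
    group

variable {G : Type u} [Group G] {K : Subgroup G} {t q : G} {z v : K} {P E : Subgroup K}

/-- **the contradiction** -/
theorem false_of_out (C : Ctx G) (hSch : Cfsg.Agent.Schreier.Cases.SchFor.{u} @IsKnownSimple')
    (hGW : SylowSp4.Hyps.GW.{u}) (I : Intr2.{u}) (hS : CaseM.IntrSign.{u})
    (o : Out K t q z P) (sh : SheetON z v P E) : False := by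
  have hfin := C.fin
  have hz := MainE.orderOf_z o.emb
  have h := CaseC.hyp o sh.qs (MainE.core_eq_bot C hz)
  have htH : t ∈ centralizer ({(z : G)} : Set G) := mem_centralizer_singleton_iff.2 o.emb.comm
  have hvz : (v : G) * z = z * v := congrArg Subtype.val (Kill.z_v sh).symm
  -- no sign
  have hTR : ∀ f : ↥(centralizer ({(z : G)} : Set G)) →* ℤˣ, f ⟨t, htH⟩ ≠ -1 := by
    intro f hf
    have h1 : commutator ↥(centralizer ({(z : G)} : Set G)) ≤ f.ker := Abelianization.commutator_subset_ker f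
    have h2 := h1 o.com
    rw [MonoidHom.mem_ker] at h2
    rw [h2] at hf
    exact absurd hf (by decide)
  rcases h.main (fun M hM hn => CaseC.sch_le C hSch hz h.Pperf M hM hn) with ⟨f, hf⟩ | ⟨-, M, hM, hPM⟩
  · exact hTR f hf
  have hcomp : Comp (z : G) (M.map (centralizer ({(z : G)} : Set G)).subtype) := comp_map hM
  have hPM' : P.map K.subtype ≤ M.map (centralizer ({(z : G)} : Set G)).subtype := by
    rw [← map_toX (z := z) sh.basic.cen]
    exact map_mono hPM
  have hev : ∀ (y : G) (L : Subgroup G), orderOf y = 2 → Comp y L → 2 ∣ Nat.card L := fun y L hy hL =>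
    CaseM.even_card C hy ⟨hL.le, hL.comp⟩
  have hn : ∀ g : G, g * z = z * g →
      Cfsg.Agent.Cit.cj g (M.map (centralizer ({(z : G)} : Set G)).subtype) =
        M.map (centralizer ({(z : G)} : Set G)).subtype := fun g hg =>
    Kill.normal o sh C.bal hev hcomp hPM' hg
  have hMn : M.Normal := by
    refine ⟨fun m hm g => ?_⟩
    have hg : (g : G) * z = z * g := mem_centralizer_singleton_iff.1 g.2
    have h1 : (g : G) * m * (g : G)⁻¹ ∈ M.map (centralizer ({(z : G)} : Set G)).subtype := by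
      rw [← hn g hg]
      exact Cfsg.Agent.Cit.conj_mem_cj ⟨m, hm, rfl⟩
    obtain ⟨x, hx, hxe⟩ := h1
    have h2 : x = g * m * g⁻¹ := Subtype.ext hxe
    rwa [← h2]
  have hzM : (⟨z, mem_centralizer_singleton_iff.2 rfl⟩ : ↥(centralizer ({(z : G)} : Set G))) ∈ M :=
    hPM h.zP
  have nc : Kill.Nc (z : G) (P.map K.subtype) (M.map (centralizer ({(z : G)} : Set G)).subtype) :=
    ⟨hcomp, hPM', hn⟩
  have hcent : ∀ c : ↥(centralizer ({(z : G)} : Set G)),
      c ∈ centralizer (M : Set ↥(centralizer ({(z : G)} : Set G))) ↔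
        ∀ x ∈ M.map (centralizer ({(z : G)} : Set G)).subtype, (c : G) * x = x * c := by
    intro c
    rw [mem_centralizer_iff]
    constructor
    · rintro h1 _ ⟨x, hx, rfl⟩
      exact (congrArg Subtype.val (h1 x hx)).symm
    · intro h1 x hx
      exact Subtype.ext (h1 x ⟨x, hx, rfl⟩).symm
  refine CaseC.EndComp.main C hGW I hS hz hM hMn hzM (t := ⟨t, htH⟩)
    (y := ⟨v, mem_centralizer_singleton_iff.2 hvz⟩) (Subtype.ext o.emb.st.tt) hTR ?_
  rcases Kill.concl o sh nc with ⟨-, h1⟩ | h1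
  · left
    intro c hc
    have h2 : (c : G) ∈ zpowers (v : G) := h1 (mem_centralizer_iff.2 fun x hx => ((hcent c).1 hc x hx).symm)
    obtain ⟨n, hn⟩ := mem_zpowers_iff.1 h2
    exact mem_zpowers_iff.2 ⟨n, Subtype.ext hn⟩
  · right
    intro h2
    have hMc : ∀ x ∈ M, ∀ y ∈ centralizer (M : Set ↥(centralizer ({(z : G)} : Set G))), x * y = y * x :=
      fun x hx y hy => mem_centralizer_iff.1 hy x hx
    obtain ⟨m, hm, c, hc, hmc⟩ := Cfsg.Agent.Cit.Comp.mem_sup_comm hMc h2
    exact h1 m ⟨m, hm, rfl⟩ c ((hcent c).1 hc) (congrArg Subtype.val hmc).symm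

/-- **the row of `ON`** -/
theorem row (hSch : Cfsg.Agent.Schreier.Cases.SchFor.{u} @IsKnownSimple')
    (hGW : SylowSp4.Hyps.GW.{u}) (I : Intr2.{u}) (hS : CaseM.IntrSign.{u}) :
    Rows.Row.{u} (fun K _ => Spor.IsoON K) := by
  intro G _ C K S hcyc hK
  have hfin := C.fin
  obtain ⟨z, v, P, E, sh⟩ := KFacts.ON.Sheet.exists_sheet hK
  obtain ⟨t, q, st⟩ := exists_start C S hcyc (center_eq_bot sh S.z2)
  exact false_of_out C hSch hGW I hS (Front.FrontOuter.out_of_emb C ⟨st, sh.basic⟩) sh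

end Cfsg.Agent.OddHalf.D8.ON.Row

end

-- merged: Cfsg.Agent.OddHalf.D8.Fi22.PumpAbs
section

/-!
# ODD half, D8, `K = Fi₂₂`: the pump-up of `2.U₆(2)` by orders (helper957)

`a` an involution, `D` a component of `C(a)`, `J < D` perfect with centre `{1, a}` and `|J| = 2 |U₆(2)|`.
As `a ∈ Z(D)` and `|D| ≤ |K|`, the order of `X = D/Z(D)` is divisible by `|U₆(2)|`, different from it and at
most `|Fi₂₂| / 2`; there is no such known simple group with even multiplier.
-/

set_option autoImplicit false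

namespace Cfsg.Agent.OddHalf.D8.Fi22.PumpAbs

open scoped commutatorElement
open Subgroup Cfsg Cfsg.Agent.OddHalf.Iface Cfsg.Agent.OddHalf.D8.Fi22.Ord Cfsg.Agent.OddHalf.D9.Cut

universe u

/-- the orders of the groups with even multiplier and of the alternating groups -/
structure OrdFacts : Prop where
  alt : ∀ (X : Type u) [Group X], IsAlternating X → Bad (Nat.card X) → False
  exc2 : ∀ (X : Type u) [Group X], Exc2 X → Bad (Nat.card X) → Nat.card X = n0
  exc4 : ∀ (X : Type u) [Group X], Exc4 X → Bad (Nat.card X) → False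
  sz : ∀ (X : Type u) [Group X], XSz X → Bad (Nat.card X) → False

/-- the group theory: `|X|` is bad and different from `|U₆(2)|` -/
theorem bad_of {D : Type*} [Group D] [Finite D] (hp : commutator D = ⊤) {a : D} (ha : a ∈ center D)
    (ha2 : orderOf a = 2) {J : Subgroup D} (hne : J ≠ ⊤) (haJ : a ∈ J) (hJp : ⁅J, J⁆ = J)
    (hJz : ∀ x ∈ J, (∀ y ∈ J, x * y = y * x) → x = 1 ∨ x = a) (hJc : Nat.card J = 18393661440)
    (hc : Nat.card D ≤ 64561751654400) :
    Bad (Nat.card (D ⧸ center D)) ∧ Nat.card (D ⧸ center D) ≠ n0 := by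
  classical
  -- `|D| = |Z(D)| |X|`
  have h1 := Subgroup.card_eq_card_quotient_mul_card_subgroup (center D)
  have h2 : 2 ∣ Nat.card (center D) := by
    have h3 : orderOf (⟨a, ha⟩ : center D) = 2 := by rw [orderOf_mk, ha2]
    rw [← h3]
    exact orderOf_dvd_natCard _
  have hZ0 : 0 < Nat.card (center D) := Nat.card_pos
  have hX0 : 0 < Nat.card (D ⧸ center D) := Nat.card_pos
  have hle : Nat.card (D ⧸ center D) ≤ N0 := by
    have h4 : 2 ≤ Nat.card (center D) := Nat.le_of_dvd hZ0 h2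
    have h5 : Nat.card (D ⧸ center D) * 2 ≤ Nat.card D := by
      rw [h1]; exact Nat.mul_le_mul_left _ h4
    have h6 := h5.trans hc
    show _ ≤ 32280875827200
    omega
  -- the image of `J`
  set f : J →* D ⧸ center D := (QuotientGroup.mk' (center D)).comp J.subtype with hf
  have hker : (f.ker : Set J) = {1, ⟨a, haJ⟩} := by
    ext x
    constructor
    · intro hx
      have hx' : (x : D) ∈ center D := by
        have : f x = 1 := hx
        rwa [hf, MonoidHom.comp_apply, QuotientGroup.mk'_apply, QuotientGroup.eq_one_iff] at this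
      rcases hJz x x.2 (fun y _ => ((mem_center_iff.1 hx') y).symm) with h | h
      · left; exact Subtype.ext h
      · right; exact Subtype.ext h
    · rintro (rfl | rfl)
      · exact one_mem _
      · show f ⟨a, haJ⟩ = 1
        rw [hf, MonoidHom.comp_apply, QuotientGroup.mk'_apply, QuotientGroup.eq_one_iff]
        exact ha
  have hkc : Nat.card f.ker = 2 := by
    have hne' : (1 : J) ≠ ⟨a, haJ⟩ := by
      intro h
      have : a = 1 := (congrArg Subtype.val h).symm
      rw [this, orderOf_one] at ha2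
      omega
    have : Nat.card f.ker = Set.ncard (f.ker : Set J) := rfl
    rw [this, hker, Set.ncard_pair hne']
  have hrange : Nat.card f.range = n0 := by
    have h3 := Subgroup.card_eq_card_quotient_mul_card_subgroup f.ker
    rw [hkc, hJc, Nat.card_congr (QuotientGroup.quotientKerEquivRange f).toEquiv] at h3
    show _ = 9196830720
    omega
  have hd : n0 ∣ Nat.card (D ⧸ center D) := by
    rw [← hrange]
    exact Subgroup.card_subgroup_dvd_card f.range
  refine ⟨⟨hd, hle, hX0⟩, fun heq => hne ?_⟩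
  -- equality: `D = J Z(D)`
  have htop : f.range = ⊤ := by
    apply Subgroup.eq_top_of_card_eq
    rw [hrange, heq]
  have hsup : ∀ d : D, ∃ j ∈ J, ∃ z ∈ center D, d = j * z := by
    intro d
    have h3 : (QuotientGroup.mk d : D ⧸ center D) ∈ f.range := by rw [htop]; exact mem_top _
    obtain ⟨j, hj⟩ := h3
    have h4 : (QuotientGroup.mk (j : D) : D ⧸ center D) = QuotientGroup.mk d := hj
    rw [QuotientGroup.eq] at h4
    exact ⟨j, j.2, _, h4, by group⟩
  have hcomm : commutator D ≤ J := by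
    rw [commutator_def, commutator_le]
    intro x _ y _
    obtain ⟨j, hj, z, hz, rfl⟩ := hsup x
    obtain ⟨k, hk, w, hw, rfl⟩ := hsup y
    have hz' := mem_center_iff.1 hz
    have hw' := mem_center_iff.1 hw
    have h5 : ⁅j * z, k * w⁆ = ⁅j, k⁆ := by
      rw [commutatorElement_def, commutatorElement_def]
      calc j * z * (k * w) * (j * z)⁻¹ * (k * w)⁻¹
          = j * (z * k) * w * (z⁻¹ * j⁻¹) * (w⁻¹ * k⁻¹) := by group
        _ = j * (k * z) * w * (z⁻¹ * j⁻¹) * (w⁻¹ * k⁻¹) := by rw [← hz' k]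
        _ = j * k * (z * w) * z⁻¹ * j⁻¹ * w⁻¹ * k⁻¹ := by group
        _ = j * k * (w * z) * z⁻¹ * j⁻¹ * w⁻¹ * k⁻¹ := by rw [hw' z]
        _ = j * k * (w * j⁻¹) * w⁻¹ * k⁻¹ := by group
        _ = j * k * (j⁻¹ * w) * w⁻¹ * k⁻¹ := by rw [← hw' j⁻¹]
        _ = j * k * j⁻¹ * k⁻¹ := by group
    rw [h5, ← hJp]
    exact commutator_mem_commutator hj hk
  rw [eq_top_iff, ← hp]
  exact hcomm

/-- a quasisimple group modulo its centre is not commutative -/
theorem quo_na {D : Type*} [Group D] (h : IsQuasisimple D) : ¬ IsMulCommutative (D ⧸ center D) := by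
  intro hc
  have h1 : commutator D ≤ center D := by
    rw [commutator_def, commutator_le]
    intro x _ y _
    rw [← QuotientGroup.eq_one_iff]
    have h2 := hc.is_comm.comm (QuotientGroup.mk x : D ⧸ center D) (QuotientGroup.mk y)
    show (QuotientGroup.mk (x * y * x⁻¹ * y⁻¹) : D ⧸ center D) = 1
    have h3 : (QuotientGroup.mk (x * y * x⁻¹ * y⁻¹) : D ⧸ center D) =
        QuotientGroup.mk x * QuotientGroup.mk y * (QuotientGroup.mk x)⁻¹ * (QuotientGroup.mk y)⁻¹ := rfl
    rw [h3, h2]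
    group
  rw [h.1.commutator_eq_top] at h1
  have := h.2
  obtain ⟨x, hx⟩ := exists_ne (1 : D ⧸ center D)
  apply hx
  obtain ⟨d, rfl⟩ := QuotientGroup.mk_surjective x
  rw [QuotientGroup.eq_one_iff]
  exact h1 (mem_top d)

/-- **The pump-up of `2.U₆(2)`**, from the multiplier facts and the orders. -/
theorem pump (M : Mult.{u}) (O : OrdFacts.{u}) : ∀ (G : Type u) [Group G], Ctx G → ∀ K : Subgroup G,
    Std G K → Nat.card K = 64561751654400 → ∀ (a : G) (D J : Subgroup G), orderOf a = 2 → CompOf a D →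
    J ≤ D → J ≠ D → a ∈ J → ⁅J, J⁆ = J → (∀ x ∈ J, (∀ y ∈ J, x * y = y * x) → x = 1 ∨ x = a) →
    Nat.card J = 18393661440 → False := by
  intro G _ C K S hK a D J ha hD hJD hne haJ hJp hJz hJc
  have := C.fin
  have haD : a ∈ D := hJD haJ
  have hDa : ∀ x ∈ D, x * a = a * x := fun x hx => mem_centralizer_singleton_iff.1 (hD.1 hx)
  have hq : IsQuasisimple D :=
    Cfsg.Agent.SignalizersComponents.PLayerAut.isQuasisimple_of_equiv (subgroupOfEquivOfLe hD.1) hD.2.2
  set a' : D := ⟨a, haD⟩ with ha'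
  have haz : a' ∈ center D := by
    rw [mem_center_iff]
    intro x
    exact Subtype.ext (hDa x x.2)
  have ha2 : orderOf a' = 2 := by rw [ha', orderOf_mk, ha]
  set J' : Subgroup D := J.subgroupOf D with hJ'
  have hmap : J'.map D.subtype = J := by
    rw [hJ', subgroupOf_map_subtype, inf_of_le_left hJD]
  have hJ'ne : J' ≠ ⊤ := by
    intro h
    apply hne
    apply le_antisymm hJD
    rw [hJ', subgroupOf_eq_top] at h
    exact h
  have hJ'p : ⁅J', J'⁆ = J' := by
    apply Subgroup.map_injective D.subtype_injective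
    rw [Subgroup.map_commutator, hmap, hJp]
  have hJ'z : ∀ x ∈ J', (∀ y ∈ J', x * y = y * x) → x = 1 ∨ x = a' := by
    intro x hx hy
    rcases hJz x (mem_subgroupOf.1 hx) (fun y hy' => by
      have := hy ⟨y, hJD hy'⟩ (mem_subgroupOf.2 hy')
      exact congrArg Subtype.val this) with h | h
    · exact Or.inl (Subtype.ext h)
    · exact Or.inr (Subtype.ext h)
  have hJ'c : Nat.card J' = 18393661440 := by
    rw [← hJc]
    exact Nat.card_congr (subgroupOfEquivOfLe hJD).toEquiv
  have hcard : Nat.card D ≤ 64561751654400 := by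
    rw [← hK]
    refine S.max a D ha hD fun h => ?_
    -- `D` is not simple
    exfalso
    have hs : IsSimpleGroup D := D6.PumpDown.IsL2o.simple h
    rcases (inferInstance : (center D).Normal).eq_bot_or_eq_top with h2 | h2
    · rw [h2, mem_bot] at haz
      rw [haz, orderOf_one] at ha2
      omega
    · apply quo_na hq
      refine ⟨⟨fun x y => ?_⟩⟩
      obtain ⟨x, rfl⟩ := QuotientGroup.mk_surjective x
      obtain ⟨y, rfl⟩ := QuotientGroup.mk_surjective y
      rw [← QuotientGroup.mk_mul, ← QuotientGroup.mk_mul]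
      have hy : y ∈ center D := h2 ▸ mem_top y
      rw [mem_center_iff.1 hy x]
  obtain ⟨hbad, hn0⟩ := bad_of hq.1.commutator_eq_top haz ha2 hJ'ne (mem_subgroupOf.2 haJ) hJ'p hJ'z
    hJ'c hcard
  have hna := quo_na hq
  have hDne : D ≠ ⊤ := by
    intro h
    -- `a` would be central in `G`
    have := C.simple
    have h1 : a ∈ center G := by
      rw [mem_center_iff]
      intro x
      exact hDa x (h ▸ mem_top x)
    rcases (inferInstance : (center G).Normal).eq_bot_or_eq_top with h2 | h2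
    · rw [h2, mem_bot] at h1
      rw [h1, orderOf_one] at ha
      omega
    · apply C.na
      refine ⟨⟨fun x y => ?_⟩⟩
      have hx : y ∈ center G := h2 ▸ mem_top y
      exact mem_center_iff.1 hx x
  have hknown : IsKnownSimple' (D ⧸ center D) :=
    Known.known_quotient C.kproper D hDne (center D) hq.2 hna
  -- the quotient with cyclic centre
  obtain ⟨B, _, -, -, hQ, hcen, ⟨e⟩⟩ := CycQuot.exists_quo hq haz ha2
  set Y := (D ⧸ B) ⧸ center (D ⧸ B) with hY
  have hcY : Nat.card Y = Nat.card (D ⧸ center D) := Nat.card_congr e.toEquiv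
  have hbY : Bad (Nat.card Y) := hcY ▸ hbad
  have hnY : Nat.card Y ≠ n0 := hcY ▸ hn0
  have hkY : IsKnownSimple' Y := Known.isKnownSimple'_congr e.symm hna hknown
  have hnaY : ¬ IsMulCommutative Y := quo_na hQ.2.1
  rcases Known.classify hnaY hkY with h | h | h | h
  · exact O.alt Y h hbY
  · exact Ord.lieOdd h hbY
  · by_cases h1 : IsAlternating Y
    · exact O.alt Y h1 hbY
    by_cases h2 : LieOdd Y
    · exact Ord.lieOdd h2 hbY
    by_cases h3 : Exc2 Y
    · exact hnY (O.exc2 Y h3 hbY)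
    by_cases h4 : Exc4 Y
    · exact O.exc4 Y h4 hbY
    by_cases h5 : XSz Y
    · exact O.sz Y h5 hbY
    exact hcen (M.lie (D ⧸ B) hQ ⟨h, h1, h2⟩ h3 h4 h5)
  · by_cases h3 : Exc2 Y
    · exact hnY (O.exc2 Y h3 hbY)
    by_cases h4 : Exc4 Y
    · exact O.exc4 Y h4 hbY
    exact hcen (M.spor (D ⧸ B) hQ h h3 h4)

end Cfsg.Agent.OddHalf.D8.Fi22.PumpAbs

end

-- merged: Cfsg.Agent.OddHalf.D8.Fi22.OrdFacts
section

/-!
# ODD half, D8, `K = Fi₂₂`: the order facts (helper921)
-/

set_option autoImplicit false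

namespace Cfsg.Agent.OddHalf.D8.Fi22.OrdFacts

open Subgroup Cfsg Cfsg.Agent.OddHalf.D9.Cut Cfsg.Agent.OddHalf.D8.Fi22.Ord

universe u

/-- everything except the Baby Monster -/
theorem of_b (hb : ∀ (X : Type u) [Group X], Spor.IsoB X → ¬ Bad (Nat.card X)) : PumpAbs.OrdFacts.{u} where
  alt _ _ h hb := Ord.alt h hb
  exc2 X _ h hB := by
    rcases h with h | h | h | h | h | h | h | h | h | h | h | h | h | h
    · exact OrdEven.card_u62 h
    · exact (OrdEven.not_sp62 h hB).elim
    · exact (OrdEven.not_o82 h hB).elim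
    · exact (OrdEven.not_g24 h hB).elim
    · exact (OrdEven.not_f42 h hB).elim
    · exact (OrdEven.not_2e62 h hB).elim
    · exact (Ord.m12 h hB).elim
    · exact (Ord.j2 h hB).elim
    · exact (Ord.hs h hB).elim
    · exact (Ord.suz h hB).elim
    · exact (Ord.ru h hB).elim
    · exact (Ord.fi22 h hB).elim
    · exact (Ord.co1 h hB).elim
    · exact (hb X h hB).elim
  exc4 X _ h hB := by
    rcases h with h | h
    · exact OrdEven.not_l34 h hB
    · exact Ord.m22 h hB
  sz _ _ h hB := OrdEven.not_sz h hB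

end Cfsg.Agent.OddHalf.D8.Fi22.OrdFacts

end

-- merged: Cfsg.Agent.OddHalf.D8.Fi22.RowOf
section

/-!
# ODD half, D8: the row `K = Fi₂₂` from the multiplier facts (helper921)
-/

set_option autoImplicit false

namespace Cfsg.Agent.OddHalf.D8.Fi22.RowOf

open Subgroup Cfsg Cfsg.Agent.OddHalf.D9.Cut Cfsg.Agent.OddHalf.D8.Fi22.Ord

universe u

theorem row_of_b (M : Mult.{u}) (hb : ∀ (X : Type u) [Group X], Spor.IsoB X → ¬ Bad (Nat.card X)) :
    Rows.Row.{u} (fun K _ => Spor.IsoFi22 K) :=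
  Row.row_of (PumpAbs.pump M (OrdFacts.of_b hb))

end Cfsg.Agent.OddHalf.D8.Fi22.RowOf

end

-- merged: Cfsg.Agent.OddHalf.D8.Fi22.RowEnd
section

/-!
# ODD half, D8: the row `K = Fi₂₂`, final form (helper921)
-/

set_option autoImplicit false

namespace Cfsg.Agent.OddHalf.D8.Fi22.RowEnd

open Subgroup Cfsg Cfsg.Agent.OddHalf.D9.Cut

universe u

theorem ordFacts : PumpAbs.OrdFacts.{u} := OrdFacts.of_b fun _ _ h => Ord.b h

/-- **the row `Fi₂₂`** from the multiplier facts -/
theorem row (M : Mult.{u}) : Rows.Row.{u} (fun K _ => Spor.IsoFi22 K) :=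
  Row.row_of (PumpAbs.pump M ordFacts)

end Cfsg.Agent.OddHalf.D8.Fi22.RowEnd

end

-- merged: Cfsg.Agent.OddHalf.D8.JTwo.Row
section

/-!
# ODD half, D8, row `J₂` (helper826)

`row_of`: the row `K = J₂` follows from the absence of components of `C_G(z)` (`NoCompX`) and S1762.
-/

set_option autoImplicit false

namespace Cfsg.Agent.OddHalf.D8.JTwo.Row

open Subgroup Cfsg Cfsg.Agent.OddHalf.Front.FE Cfsg.Agent.OddHalf.D8.Sheet Cfsg.Agent.OddHalf.D8.GlueE
  Cfsg.Agent.OddHalf.D8.Front Cfsg.Agent.OddHalf.D8.MainE Cfsg.Agent.OddHalf.D8.JTwo.Sheet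
  Cfsg.Agent.KFacts.J2.Basic Cfsg.Agent.OddHalf.D8.JTwo.Small Cfsg.Agent.J2Type.Model

universe u

/-- Case (M): `C_G(z)` has no component, if the sheet satisfies `Y`. -/
def NoCompX (Y : (K : Type u) → [Group K] → K → Subgroup K → Subgroup K → Prop) : Prop :=
  ∀ (G : Type u) [Group G], Iface.Ctx G → ∀ (K : Subgroup G) (t q : G) (z : K) (P R : Subgroup K),
    Out K t q z P → SheetX z P R → Y ↥K z P R →
    ∀ M : Subgroup ↥(centralizer ({(z : G)} : Set G)), ¬ IsComponent M

/-- `J₂` has no central 2-elements -/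
theorem center_eq_bot {K : Type*} [Group K] [Finite K] {z u : K} {Q : Subgroup (centralizer ({z} : Set K))}
    {v : Fin 5 → centralizer ({z} : Set K)} {ρ : centralizer ({z} : Set K) →* SP}
    (D : Dat z u Q v ρ) (h2 : IsPGroup 2 ↥(center K)) : center K = ⊥ := by
  have sh := Cfsg.Agent.KFacts.J2.SheetX.sheetX D
  rw [eq_bot_iff]
  intro y hy
  rw [mem_bot]
  obtain ⟨S, -, -, hcS⟩ := sh.syl
  have h3 : (center K : Subgroup K) ≤ S := by
    have h4 : IsPGroup 2 ((center K ⊔ S : Subgroup K)) := h2.to_sup_of_normal_left S.isPGroup'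
    have h5 := S.is_maximal' h4 le_sup_right
    exact (le_sup_left : center K ≤ center K ⊔ S).trans h5.le
  rcases hcS y (h3 hy) (fun x _ => mem_center_iff.1 hy x) with e | e
  · exact e
  · exfalso
    have h4 : centralizer ({z} : Set K) = ⊤ := by
      rw [eq_top_iff]
      intro k _
      rw [mem_centralizer_singleton_iff, ← e]
      exact mem_center_iff.1 hy k
    have h5 := D.cardC
    rw [h4, Subgroup.card_top, D.card] at h5
    norm_num at h5

/-- **`K = J₂` is impossible** -/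
theorem false_of_out (h1762 : Large.H1762.{u}) {G : Type u} [Group G] (C : Iface.Ctx G) {K : Subgroup G}
    {t q : G} {z v' : K} {Q : Subgroup (centralizer ({z} : Set K))}
    {v : Fin 5 → centralizer ({z} : Set K)} {ρ : centralizer ({z} : Set K) →* SP} [Finite K]
    (D : Dat z v' Q v ρ) (o : Out K t q z (centralizer ({z} : Set K)))
    (hM : ∀ M : Subgroup ↥(centralizer ({(z : G)} : Set G)), ¬ IsComponent M) : False := by
  have hfin := C.fin
  have sh := Cfsg.Agent.KFacts.J2.SheetX.sheetX D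
  have Dd := Glue.data C o sh hM
  have hlam : ∀ lam : centralizer ({(z : G)} : Set G) →* ℤˣ,
      lam ⟨t, mem_centralizer_singleton_iff.2 Dd.comm⟩ = 1 := by
    intro lam
    have h1 : commutator (centralizer ({(z : G)} : Set G)) ≤ lam.ker := Abelianization.commutator_subset_ker lam
    exact h1 o.com
  by_cases htF : t ∈ (pCore 2 ↥(centralizer ({(z : G)} : Set G))).map (centralizer ({(z : G)} : Set G)).subtype
  · have X := xhyp o sh Dd htF
    by_cases hnor : ∀ g : G, g * z = z * g → g * t * g⁻¹ = t ∨ g * t * g⁻¹ = t * z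
    · exact notMem D o X hnor
    · push Not at hnor
      obtain ⟨hex, -, hcard⟩ := X.main hlam hnor
      have h32 : Nat.card ↥((Q.map (centralizer ({z} : Set K)).subtype).map K.subtype) = 32 := by
        rw [Subgroup.card_map_of_injective K.subtype_injective,
          Subgroup.card_map_of_injective (subtype_injective _), D.cardQ]
      rw [h32] at hcard
      have hbot := core_eq_bot C (orderOf_z o.emb)
      have hlay : layer ↥(centralizer ({(z : G)} : Set G)) = ⊥ := by
        unfold layer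
        rw [sSup_eq_bot]
        intro M hMc
        exact absurd hMc (hM M)
      have hself := (Cfsg.Agent.SignalizersComponents.PConstrained.centralizer_pCore_le_iff_layer_eq_bot 2
        hbot).2 hlay
      refine Large.not_large h1762 C (orderOf_z o.emb) hself hex (by rw [hcard]; norm_num) ?_
      have h1 : Nat.card K ∣ Nat.card G := card_subgroup_dvd_card K
      rw [D.card] at h1
      exact (by norm_num : 25 ∣ 604800).trans h1
  · obtain ⟨lam, hl⟩ := Dd.exists_lam htF
    rw [hlam lam] at hl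
    exact (by decide : (1 : ℤˣ) ≠ -1) hl

/-- **the row `J₂`** -/
theorem row_of (h1762 : Large.H1762.{u})
    {Y : (K : Type u) → [Group K] → K → Subgroup K → Subgroup K → Prop} (hM : NoCompX.{u} Y)
    (hY : ∀ (K : Type u) [Group K] [Finite K] (z v' : K) (Q : Subgroup (centralizer ({z} : Set K)))
      (v : Fin 5 → centralizer ({z} : Set K)) (ρ : centralizer ({z} : Set K) →* SP), Dat z v' Q v ρ →
      Y K z (centralizer ({z} : Set K)) (Q.map (centralizer ({z} : Set K)).subtype)) :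
    Rows.Row.{u} (fun K _ => Spor.IsoJ2 K) := by
  intro G _ C K S hcyc hK
  have hfin := C.fin
  obtain ⟨z, v', Q, v, ρ, D⟩ := Cfsg.Agent.KFacts.J2.Facts.exists_dat_of hK
  have sh := Cfsg.Agent.KFacts.J2.SheetX.sheetX D
  obtain ⟨t, q, st⟩ := exists_start C S hcyc (center_eq_bot D S.z2)
  have o : Out K t q z (centralizer ({z} : Set K)) := out_of_emb C ⟨st, sh.basic⟩
  exact false_of_out h1762 C D o (hM G C K t q z _ _ o sh (hY ↥K z v' Q v ρ D))

end Cfsg.Agent.OddHalf.D8.JTwo.Row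

end

-- merged: Cfsg.Agent.OddHalf.D8.JTwo.Final
section

/-!
# ODD half, D8, row `J₂`: the glue (helper206)

`row`: the row `K = J₂` from S1762 and the absence of components of `C_G(z)` (case (M), `CaseM.NoCompX` of helper271).
-/

set_option autoImplicit false

namespace Cfsg.Agent.OddHalf.D8.JTwo.Final

open Subgroup Cfsg Cfsg.Agent.OddHalf

universe u

/-- **the row `J₂`** -/
theorem row (h1762 : Large.H1762.{u})
    (hM : CaseM.NoCompX.{u} (fun _ _ _ P R => CaseM.SheetM P R)) :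
    D8.Rows.Row.{u} (fun K _ => Spor.IsoJ2 K) :=
  D8.JTwo.Row.row_of h1762 (Y := fun _ _ _ P R => CaseM.SheetM P R) hM
    (fun _ _ _ _ _ _ _ _ D => D8.JTwo.SheetM.sheetM D)

/-- the row `J₂` from the statements of the other nodes -/
theorem row_of_nodes (h1762 : Large.H1762.{u})
    (hSch : Cfsg.Agent.Schreier.Cases.SchFor.{u} @IsKnownSimple')
    (hGW : SylowSp4.Hyps.GW.{u}) (hI : Iface.Intr.{u}) (hLO : CaseM.LOAll.{u}) (hM : D9.Cut.Mult.{u})
    (R : CaseM.SignRows.{u}) :
    D8.Rows.Row.{u} (fun K _ => Spor.IsoJ2 K) :=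
  row h1762 (CaseM.noCompX_of hSch hGW hI hLO hM R)

end Cfsg.Agent.OddHalf.D8.JTwo.Final

end

-- merged: Cfsg.Agent.OddHalf.MM.RowM23
section

/-!
# ODD half, D8: the row `M23`, unconditional (helper259)
-/

set_option autoImplicit false

namespace Cfsg.Agent.OddHalf.MM.RowM23

open Cfsg Cfsg.Agent.OddHalf.MM

universe u

/-- the sheet of every group isomorphic to `M23` -/
theorem sheet23 (K : Type u) [Group K] (hK : Spor.IsoM23 K) :
    ∃ (SK V W : Subgroup K) (z c : K), Sheet SK V W z c := by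
  obtain ⟨e⟩ := hK
  obtain ⟨SK, V, W, z, c, h⟩ := Cfsg.Agent.KFacts.MM.Main.sheet23
  exact ⟨_, _, _, _, _, h.transport e⟩

/-- the sheet of every group isomorphic to `M22` -/
theorem sheet22 (K : Type u) [Group K] (hK : Spor.IsoM22 K) :
    ∃ (SK V W : Subgroup K) (z c : K), Sheet SK V W z c := by
  obtain ⟨e⟩ := hK
  obtain ⟨SK, V, W, z, c, h⟩ := Cfsg.Agent.KFacts.MM.Main.sheet22
  exact ⟨_, _, _, _, _, h.transport e⟩

/-- **row `m23` of `D8.Rows.All`** -/
theorem m23 : D8.Rows.Row.{u} (fun K _ => Spor.IsoM23 K) := Row.row_m23 sheet23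

end Cfsg.Agent.OddHalf.MM.RowM23

end

-- merged: Cfsg.Agent.OddHalf.D8.Plug
section

/-!
# ODD half: the node D8, with the landed rows plugged in (helper915, integrator)

`d8`: the node D8 from `CaseM.NI` (node NI). `noComp`: case (M) (no hypothesis except `Intr2`).
-/

set_option autoImplicit false

namespace Cfsg.Agent.OddHalf.D8.Plug

open Subgroup Cfsg Cfsg.Agent.OddHalf.D8.Sheet Cfsg.Agent.OddHalf.D8.Rows

universe u

/-- the 2-parts of the multipliers (D9) -/
theorem mult : D9.Cut.Mult.{u} := D9.MultAll.mult_of ⟨D9.Plug.Ru.field⟩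

/-- `OutSign` for the groups with even multiplier (helper661) -/
theorem sign : CaseM.SignRows.{u} := Table.SignAll.signRows

/-- the Schreier property of the known simple groups -/
theorem sch : Cfsg.Agent.Schreier.Cases.SchFor.{u} @IsKnownSimple' := Cfsg.Agent.Schreier.Assembly.known

/-- Gorenstein-Walter -/
theorem gw : SylowSp4.Hyps.GW.{u} := fun _ _ _ _ S n hn h => Cfsg.Agent.S0483.result S n hn h

/-- S1758 -/
theorem p1758 : HS.Elim.P1758.{u} := fun _ _ _ _ hG z hz hQ => Cfsg.Agent.S1758.result hG z hz hQ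

/-- S1762 -/
theorem h1762 : JTwo.Large.H1762.{u} := fun _ _ _ _ hG z hz hE hc =>
  LargeExtra.AsmSeven.final_of hG z hz hE hc
    (fun s hs e hn => Cfsg.Agent.S1716.result s hs z hz e hn)
    (fun Q _ hF hQ hc e hn => Cfsg.Agent.S1719.result z hz Q hF hQ hc e hn)

/-- `Intr` from `Intr2` -/
theorem intr (I : Iface.Intr2.{u}) : Iface.Intr.{u} := fun G _ C M z hz hM hzM hCM => I G C M hM
  (by
    intro R
    have h1 : IsCyclic ↥(centralizer (M : Set G)) := by
      rw [hCM]
      infer_instance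
    infer_instance)
  ⟨z, hz, hzM, by rw [hCM]; exact mem_zpowers z⟩

/-- case (M) without the `y`-trick (helper271) -/
theorem noCompX (I : Iface.Intr2.{u}) : CaseM.NoCompX.{u} (fun _ _ _ P R => CaseM.SheetM P R) :=
  CaseM.noCompX_of sch gw (intr I) CaseM.loAll mult sign

/-- case (M) (helper271) -/
theorem noComp (I : Iface.Intr2.{u}) : Final.NoCompM.{u} :=
  (noCompX I).noComp

/-- signs of outer automorphisms of intrinsic components (helper271) -/
theorem intrSign (ni : CaseM.NI.{u}) : CaseM.IntrSign.{u} := CaseM.intrSign ni mult sign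

/-- all rows -/
theorem all (ni : CaseM.NI.{u}) (I : Iface.Intr2.{u}) : All.{u} :=
  have hM := noComp I
  { m11 := RowM11.row
    m22 := MMOut.Row22.m22
    m23 := MM.RowM23.m23
    m24 := M24.RowM24.row
    j1 := EightTorus.Rows.j1
    j2 := JTwo.Final.row h1762 (noCompX I)
    j3 := Final.rowE hM fun K _ hf e => RowJ3.sheets K hf e
    j4 := Final.rowE hM fun _ _ _ e => KFacts.J4.SheetMJ4.exists_sheets e
    co1 := Final.rowE hM RowCo1.facts
    co2 := Final.rowE hM RowCo2.facts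
    co3 := RowCo3.row sch gw (CaseM.intr_of (intr I)) (intrSign ni)
    hs := RowHS.row sch gw I (intrSign ni) Small.RowsAll.rows p1758
    suz := Final.rowE hM fun K _ _ e => KFacts.SuzSheets.exists_sheets K e
    he := UT5.RowHe.row UT5.RowEnd.row_end
    ru := RowRu.row
    on := ON.Row.row sch gw I (intrSign ni)
    fi22 := Fi22.RowEnd.row mult
    fi23 := Fi23.row mult
    fi24 := Final.rowE hM RowFi24.facts
    hn := Final.rowE hM RowHN.facts
    th := Final.rowE hM fun K _ _ e => Cfsg.Agent.KFacts.Th.CaseM.exists_sheets K e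
    b := Final.rowE hM RowB.facts
    m := Final.rowE hM RowM.facts }

/-- **the node D8** (as in `Main.Nodes.d8`) -/
theorem d8 (ni : CaseM.NI.{u}) : Iface.Intr2.{u} → Iface.D8.{u} :=
  fun I => d8_of_rows (all ni I)

end Cfsg.Agent.OddHalf.D8.Plug

end
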